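/-
Geometric models and orbit certificates for the finite Coxeter groups of types
B2, G2, D4, F4, E6, E7, E8 and I2(8); the weighted (Poincare) sums.
-/
import Cfsg.Agent.H15.Orbit
import Cfsg.Prelude.Def_ChevStructure

set_option autoImplicit false
set_option maxRecDepth 100000

namespace Cfsg.Agent.H15.Weyl

open Geo

instance instNonsquareTwo : Zsqrtd.Nonsquare 2 := ⟨fun n h => by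
  have h1 : n ≤ 1 := by nlinarith
  interval_cases n <;> omega⟩

/-- The ring `ℤ[√2]`. -/
abbrev Z2 : Type := Zsqrtd ((2 : ℕ) : ℤ)

/-- Table lookup. -/
def tab (M : List (List ℕ)) (i j : ℕ) : ℕ := (M.getD i []).getD j 0

theorem card_of_forall_mem {W : Type*} {T : Finset W} (h : ∀ w, w ∈ T) : Nat.card W = T.card := by
  rw [← Nat.card_congr (Equiv.subtypeUnivEquiv h)]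
  exact Nat.card_eq_finsetCard T

theorem sum_pow_length {ι S : Type*} [CommSemiring S] (q : S) (D : List (List ι)) :
    (D.map fun d => (d.map fun _ => q).prod).sum = ((D.map List.length).map fun k => q ^ k).sum := by
  simp [List.map_map, Function.comp_def]

def AB2 : List (List ℤ) := [[2, -2], [-1, 2]]
def dB2 : List ℤ := [1, 2]
def PB2 : List (List ℤ) := [[1, 0], [0, 1], [1, 1], [2, 1]]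
def MB2 : List (List ℕ) := [[1, 4], [4, 1]]
def cB2_1 : List (List (Fin 2)) := [[], [1], [0, 1], [1, 0, 1]]
def cB2_0 : List (List (Fin 2)) := [[], [0]]
def cB2 : List (Fin 2 × List (List (Fin 2))) := [(1, cB2_1), (0, cB2_0)]
theorem modelB2 : modelOK 2 AB2 dB2 PB2 (tab MB2) = true := by decide +kernel
theorem chainB2 : chainOK 2 AB2 cB2 = true := by decide +kernel
theorem matB2 : ∀ i j : Fin 2, (CoxeterMatrix.B 2) i j = tab MB2 i j := by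
  intro i j; fin_cases i <;> fin_cases j <;> rfl
theorem allB2 : ∀ i, i ∈ cB2.map Prod.fst := by decide +kernel
theorem lensB2 : cB2.map (fun p => p.2.map List.length) = [[0, 1, 2, 3], [0, 1]] := by decide +kernel

theorem poincareB2 {W : Type*} [Group W] (E : ExSys (Fin 2) W)
    (hE : ∀ i j, orderOf (E.s i * E.s j) = (CoxeterMatrix.B 2) i j)
    {S : Type*} [CommRing S] {f : W → S} {q : S} (h1 : f 1 = 1)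
    (hf : ∀ i w, E.pos i w → f (E.s i * w) = q * f w) :
    ∃ T : Finset W, (∀ w, w ∈ T) ∧ (q - 1) ^ 2 * ∑ w ∈ T, f w = (q ^ 2 - 1) * (q ^ 4 - 1) := by
  obtain ⟨T, h2, h3⟩ := sum_all modelB2 matB2 chainB2 allB2 E hE (q := fun _ => q) h1 hf
  refine ⟨T, h2, ?_⟩
  have e : (cB2.map fun p => (p.2.map fun d => (d.map fun _ => q).prod).sum) =
      (cB2.map (fun p => p.2.map List.length)).map fun l => (l.map fun k => q ^ k).sum := by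
    simp only [sum_pow_length, List.map_map, Function.comp_def]
  rw [h3, e, lensB2]
  simp only [List.map_cons, List.map_nil, List.sum_cons, List.sum_nil, List.prod_cons, List.prod_nil]
  ring

theorem cardB2 {W : Type*} [Group W] (E : ExSys (Fin 2) W)
    (hE : ∀ i j, orderOf (E.s i * E.s j) = (CoxeterMatrix.B 2) i j) : Nat.card W = 8 := by
  obtain ⟨T, h2, h3⟩ := sum_all modelB2 matB2 chainB2 allB2 E hE (f := fun _ => (1 : ℕ))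
    (q := fun _ => 1) rfl (fun _ _ _ => rfl)
  have e : (cB2.map fun p => (p.2.map fun d => (d.map fun _ => (1 : ℕ)).prod).sum) =
      (cB2.map (fun p => p.2.map List.length)).map fun l => (l.map fun k => 1 ^ k).sum := by
    simp only [sum_pow_length, List.map_map, Function.comp_def]
  rw [e, lensB2] at h3
  rw [card_of_forall_mem h2, Finset.card_eq_sum_ones, h3]
  decide +kernel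

theorem exSysB2 {W : Type*} [Group W] (cs : CoxeterSystem (CoxeterMatrix.B 2) W) :
    ∃ E : ExSys (Fin 2) W, E.toInvSys = invSysOfCox cs ∧
      ∀ i j, orderOf (E.s i * E.s j) = (CoxeterMatrix.B 2) i j :=
  exists_exSys modelB2 matB2 cs

theorem coxOrderB2 {W : Type*} [Group W] (E : ExSys (Fin 2) W)
    (hE : ∀ i j, orderOf (E.s i * E.s j) = (CoxeterMatrix.B 2) i j) :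
    orderOf ((List.finRange 2).map E.s).prod = 4 := by
  obtain ⟨φ, h1, h2, -⟩ := exists_rep modelB2 matB2 E hE
  rw [← orderOf_injective φ h1]
  refine orderOf_eq _ (fun v => (List.finRange 2).foldr (fun i : Fin 2 => rstep AB2 i) v) ?_ _
    (by norm_num) 0 (by decide +kernel) (by decide +kernel)
  intro v
  generalize List.finRange 2 = l
  induction l with
  | nil => simp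
  | cons a l ih =>
    rw [List.map_cons, List.prod_cons, map_mul, LinearEquiv.mul_apply, h2, ofFn_refl, ih,
      List.foldr_cons]

def AG2 : List (List ℤ) := [[2, -3], [-1, 2]]
def dG2 : List ℤ := [1, 3]
def PG2 : List (List ℤ) := [[1, 0], [0, 1], [1, 1], [3, 1], [2, 1], [3, 2]]
def MG2 : List (List ℕ) := [[1, 6], [6, 1]]
def cG2_1 : List (List (Fin 2)) := [[], [1], [0, 1], [1, 0, 1], [0, 1, 0, 1], [1, 0, 1, 0, 1]]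
def cG2_0 : List (List (Fin 2)) := [[], [0]]
def cG2 : List (Fin 2 × List (List (Fin 2))) := [(1, cG2_1), (0, cG2_0)]
theorem modelG2 : modelOK 2 AG2 dG2 PG2 (tab MG2) = true := by decide +kernel
theorem chainG2 : chainOK 2 AG2 cG2 = true := by decide +kernel
theorem matG2 : ∀ i j : Fin 2, (CoxeterMatrix.G₂) i j = tab MG2 i j := by
  intro i j; fin_cases i <;> fin_cases j <;> rfl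
theorem allG2 : ∀ i, i ∈ cG2.map Prod.fst := by decide +kernel
theorem lensG2 : cG2.map (fun p => p.2.map List.length) = [[0, 1, 2, 3, 4, 5], [0, 1]] := by decide +kernel

theorem poincareG2 {W : Type*} [Group W] (E : ExSys (Fin 2) W)
    (hE : ∀ i j, orderOf (E.s i * E.s j) = (CoxeterMatrix.G₂) i j)
    {S : Type*} [CommRing S] {f : W → S} {q : S} (h1 : f 1 = 1)
    (hf : ∀ i w, E.pos i w → f (E.s i * w) = q * f w) :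
    ∃ T : Finset W, (∀ w, w ∈ T) ∧ (q - 1) ^ 2 * ∑ w ∈ T, f w = (q ^ 2 - 1) * (q ^ 6 - 1) := by
  obtain ⟨T, h2, h3⟩ := sum_all modelG2 matG2 chainG2 allG2 E hE (q := fun _ => q) h1 hf
  refine ⟨T, h2, ?_⟩
  have e : (cG2.map fun p => (p.2.map fun d => (d.map fun _ => q).prod).sum) =
      (cG2.map (fun p => p.2.map List.length)).map fun l => (l.map fun k => q ^ k).sum := by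
    simp only [sum_pow_length, List.map_map, Function.comp_def]
  rw [h3, e, lensG2]
  simp only [List.map_cons, List.map_nil, List.sum_cons, List.sum_nil, List.prod_cons, List.prod_nil]
  ring

theorem cardG2 {W : Type*} [Group W] (E : ExSys (Fin 2) W)
    (hE : ∀ i j, orderOf (E.s i * E.s j) = (CoxeterMatrix.G₂) i j) : Nat.card W = 12 := by
  obtain ⟨T, h2, h3⟩ := sum_all modelG2 matG2 chainG2 allG2 E hE (f := fun _ => (1 : ℕ))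
    (q := fun _ => 1) rfl (fun _ _ _ => rfl)
  have e : (cG2.map fun p => (p.2.map fun d => (d.map fun _ => (1 : ℕ)).prod).sum) =
      (cG2.map (fun p => p.2.map List.length)).map fun l => (l.map fun k => 1 ^ k).sum := by
    simp only [sum_pow_length, List.map_map, Function.comp_def]
  rw [e, lensG2] at h3
  rw [card_of_forall_mem h2, Finset.card_eq_sum_ones, h3]
  decide +kernel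

theorem exSysG2 {W : Type*} [Group W] (cs : CoxeterSystem (CoxeterMatrix.G₂) W) :
    ∃ E : ExSys (Fin 2) W, E.toInvSys = invSysOfCox cs ∧
      ∀ i j, orderOf (E.s i * E.s j) = (CoxeterMatrix.G₂) i j :=
  exists_exSys modelG2 matG2 cs

theorem coxOrderG2 {W : Type*} [Group W] (E : ExSys (Fin 2) W)
    (hE : ∀ i j, orderOf (E.s i * E.s j) = (CoxeterMatrix.G₂) i j) :
    orderOf ((List.finRange 2).map E.s).prod = 6 := by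
  obtain ⟨φ, h1, h2, -⟩ := exists_rep modelG2 matG2 E hE
  rw [← orderOf_injective φ h1]
  refine orderOf_eq _ (fun v => (List.finRange 2).foldr (fun i : Fin 2 => rstep AG2 i) v) ?_ _
    (by norm_num) 0 (by decide +kernel) (by decide +kernel)
  intro v
  generalize List.finRange 2 = l
  induction l with
  | nil => simp
  | cons a l ih =>
    rw [List.map_cons, List.prod_cons, map_mul, LinearEquiv.mul_apply, h2, ofFn_refl, ih,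
      List.foldr_cons]

def AD4 : List (List ℤ) := [[2, -1, 0, 0], [-1, 2, -1, -1], [0, -1, 2, 0], [0, -1, 0, 2]]
def dD4 : List ℤ := [1, 1, 1, 1]
def PD4 : List (List ℤ) := [[1, 0, 0, 0], [0, 1, 0, 0], [0, 0, 1, 0], [0, 0, 0, 1], [1, 1, 0, 0], [0, 1, 1, 0], [0, 1, 0, 1], [1, 1, 1, 0], [1, 1, 0, 1], [0, 1, 1, 1], [1, 1, 1, 1], [1, 2, 1, 1]]
def MD4 : List (List ℕ) := [[1, 3, 2, 2], [3, 1, 3, 3], [2, 3, 1, 2], [2, 3, 2, 1]]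
def cD4_3 : List (List (Fin 4)) := [[], [3], [1, 3], [2, 1, 3], [0, 1, 3], [0, 2, 1, 3], [1, 0, 2, 1, 3], [3, 1, 0, 2, 1, 3]]
def cD4_2 : List (List (Fin 4)) := [[], [2], [1, 2], [0, 1, 2]]
def cD4_1 : List (List (Fin 4)) := [[], [1], [0, 1]]
def cD4_0 : List (List (Fin 4)) := [[], [0]]
def cD4 : List (Fin 4 × List (List (Fin 4))) := [(3, cD4_3), (2, cD4_2), (1, cD4_1), (0, cD4_0)]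
theorem modelD4 : modelOK 4 AD4 dD4 PD4 (tab MD4) = true := by decide +kernel
theorem chainD4 : chainOK 4 AD4 cD4 = true := by decide +kernel
theorem matD4 : ∀ i j : Fin 4, (Cfsg.Lie.coxeterD4) i j = tab MD4 i j := by
  intro i j; fin_cases i <;> fin_cases j <;> rfl
theorem allD4 : ∀ i, i ∈ cD4.map Prod.fst := by decide +kernel
theorem lensD4 : cD4.map (fun p => p.2.map List.length) = [[0, 1, 2, 3, 3, 4, 5, 6], [0, 1, 2, 3], [0, 1, 2], [0, 1]] := by decide +kernel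

theorem poincareD4 {W : Type*} [Group W] (E : ExSys (Fin 4) W)
    (hE : ∀ i j, orderOf (E.s i * E.s j) = (Cfsg.Lie.coxeterD4) i j)
    {S : Type*} [CommRing S] {f : W → S} {q : S} (h1 : f 1 = 1)
    (hf : ∀ i w, E.pos i w → f (E.s i * w) = q * f w) :
    ∃ T : Finset W, (∀ w, w ∈ T) ∧ (q - 1) ^ 4 * ∑ w ∈ T, f w = (q ^ 2 - 1) * (q ^ 4 - 1) * (q ^ 4 - 1) * (q ^ 6 - 1) := by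
  obtain ⟨T, h2, h3⟩ := sum_all modelD4 matD4 chainD4 allD4 E hE (q := fun _ => q) h1 hf
  refine ⟨T, h2, ?_⟩
  have e : (cD4.map fun p => (p.2.map fun d => (d.map fun _ => q).prod).sum) =
      (cD4.map (fun p => p.2.map List.length)).map fun l => (l.map fun k => q ^ k).sum := by
    simp only [sum_pow_length, List.map_map, Function.comp_def]
  rw [h3, e, lensD4]
  simp only [List.map_cons, List.map_nil, List.sum_cons, List.sum_nil, List.prod_cons, List.prod_nil]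
  ring

theorem cardD4 {W : Type*} [Group W] (E : ExSys (Fin 4) W)
    (hE : ∀ i j, orderOf (E.s i * E.s j) = (Cfsg.Lie.coxeterD4) i j) : Nat.card W = 192 := by
  obtain ⟨T, h2, h3⟩ := sum_all modelD4 matD4 chainD4 allD4 E hE (f := fun _ => (1 : ℕ))
    (q := fun _ => 1) rfl (fun _ _ _ => rfl)
  have e : (cD4.map fun p => (p.2.map fun d => (d.map fun _ => (1 : ℕ)).prod).sum) =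
      (cD4.map (fun p => p.2.map List.length)).map fun l => (l.map fun k => 1 ^ k).sum := by
    simp only [sum_pow_length, List.map_map, Function.comp_def]
  rw [e, lensD4] at h3
  rw [card_of_forall_mem h2, Finset.card_eq_sum_ones, h3]
  decide +kernel

theorem exSysD4 {W : Type*} [Group W] (cs : CoxeterSystem (Cfsg.Lie.coxeterD4) W) :
    ∃ E : ExSys (Fin 4) W, E.toInvSys = invSysOfCox cs ∧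
      ∀ i j, orderOf (E.s i * E.s j) = (Cfsg.Lie.coxeterD4) i j :=
  exists_exSys modelD4 matD4 cs

theorem coxOrderD4 {W : Type*} [Group W] (E : ExSys (Fin 4) W)
    (hE : ∀ i j, orderOf (E.s i * E.s j) = (Cfsg.Lie.coxeterD4) i j) :
    orderOf ((List.finRange 4).map E.s).prod = 6 := by
  obtain ⟨φ, h1, h2, -⟩ := exists_rep modelD4 matD4 E hE
  rw [← orderOf_injective φ h1]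
  refine orderOf_eq _ (fun v => (List.finRange 4).foldr (fun i : Fin 4 => rstep AD4 i) v) ?_ _
    (by norm_num) 0 (by decide +kernel) (by decide +kernel)
  intro v
  generalize List.finRange 4 = l
  induction l with
  | nil => simp
  | cons a l ih =>
    rw [List.map_cons, List.prod_cons, map_mul, LinearEquiv.mul_apply, h2, ofFn_refl, ih,
      List.foldr_cons]

def AF4 : List (List ℤ) := [[2, -1, 0, 0], [-1, 2, -2, 0], [0, -1, 2, -1], [0, 0, -1, 2]]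
def dF4 : List ℤ := [1, 1, 2, 2]
def PF4 : List (List ℤ) := [[1, 0, 0, 0], [0, 1, 0, 0], [0, 0, 1, 0], [0, 0, 0, 1], [1, 1, 0, 0], [0, 1, 1, 0], [0, 2, 1, 0], [0, 0, 1, 1], [1, 1, 1, 0], [0, 1, 1, 1], [2, 2, 1, 0], [0, 2, 1, 1], [1, 2, 1, 0], [1, 1, 1, 1], [2, 2, 1, 1], [0, 2, 2, 1], [1, 2, 1, 1], [2, 2, 2, 1], [1, 2, 2, 1], [2, 4, 2, 1], [1, 3, 2, 1], [2, 4, 3, 1], [2, 3, 2, 1], [2, 4, 3, 2]]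
def MF4 : List (List ℕ) := [[1, 3, 2, 2], [3, 1, 4, 2], [2, 4, 1, 3], [2, 2, 3, 1]]
def cF4_3 : List (List (Fin 4)) := [[], [3], [2, 3], [1, 2, 3], [2, 1, 2, 3], [0, 1, 2, 3], [3, 2, 1, 2, 3], [0, 2, 1, 2, 3], [0, 3, 2, 1, 2, 3], [1, 0, 2, 1, 2, 3], [1, 0, 3, 2, 1, 2, 3], [2, 1, 0, 2, 1, 2, 3], [2, 1, 0, 3, 2, 1, 2, 3], [3, 2, 1, 0, 2, 1, 2, 3], [3, 2, 1, 0, 3, 2, 1, 2, 3], [1, 2, 1, 0, 3, 2, 1, 2, 3], [1, 3, 2, 1, 0, 3, 2, 1, 2, 3], [0, 1, 2, 1, 0, 3, 2, 1, 2, 3], [2, 1, 3, 2, 1, 0, 3, 2, 1, 2, 3], [0, 1, 3, 2, 1, 0, 3, 2, 1, 2, 3], [0, 2, 1, 3, 2, 1, 0, 3, 2, 1, 2, 3], [1, 0, 2, 1, 3, 2, 1, 0, 3, 2, 1, 2, 3], [2, 1, 0, 2, 1, 3, 2, 1, 0, 3, 2, 1, 2, 3], [3, 2, 1, 0, 2, 1, 3, 2, 1, 0, 3, 2, 1, 2, 3]]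
def cF4_2 : List (List (Fin 4)) := [[], [2], [1, 2], [2, 1, 2], [0, 1, 2], [0, 2, 1, 2], [1, 0, 2, 1, 2], [2, 1, 0, 2, 1, 2]]
def cF4_1 : List (List (Fin 4)) := [[], [1], [0, 1]]
def cF4_0 : List (List (Fin 4)) := [[], [0]]
def cF4 : List (Fin 4 × List (List (Fin 4))) := [(3, cF4_3), (2, cF4_2), (1, cF4_1), (0, cF4_0)]
theorem modelF4 : modelOK 4 AF4 dF4 PF4 (tab MF4) = true := by decide +kernel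
theorem chainF4 : chainOK 4 AF4 cF4 = true := by decide +kernel
theorem matF4 : ∀ i j : Fin 4, (CoxeterMatrix.F₄) i j = tab MF4 i j := by
  intro i j; fin_cases i <;> fin_cases j <;> rfl
theorem allF4 : ∀ i, i ∈ cF4.map Prod.fst := by decide +kernel
theorem lensF4 : cF4.map (fun p => p.2.map List.length) = [[0, 1, 2, 3, 4, 4, 5, 5, 6, 6, 7, 7, 8, 8, 9, 9, 10, 10, 11, 11, 12, 13, 14, 15], [0, 1, 2, 3, 3, 4, 5, 6], [0, 1, 2], [0, 1]] := by decide +kernel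

theorem poincareF4 {W : Type*} [Group W] (E : ExSys (Fin 4) W)
    (hE : ∀ i j, orderOf (E.s i * E.s j) = (CoxeterMatrix.F₄) i j)
    {S : Type*} [CommRing S] {f : W → S} {q : S} (h1 : f 1 = 1)
    (hf : ∀ i w, E.pos i w → f (E.s i * w) = q * f w) :
    ∃ T : Finset W, (∀ w, w ∈ T) ∧ (q - 1) ^ 4 * ∑ w ∈ T, f w = (q ^ 2 - 1) * (q ^ 6 - 1) * (q ^ 8 - 1) * (q ^ 12 - 1) := by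
  obtain ⟨T, h2, h3⟩ := sum_all modelF4 matF4 chainF4 allF4 E hE (q := fun _ => q) h1 hf
  refine ⟨T, h2, ?_⟩
  have e : (cF4.map fun p => (p.2.map fun d => (d.map fun _ => q).prod).sum) =
      (cF4.map (fun p => p.2.map List.length)).map fun l => (l.map fun k => q ^ k).sum := by
    simp only [sum_pow_length, List.map_map, Function.comp_def]
  rw [h3, e, lensF4]
  simp only [List.map_cons, List.map_nil, List.sum_cons, List.sum_nil, List.prod_cons, List.prod_nil]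
  ring

theorem cardF4 {W : Type*} [Group W] (E : ExSys (Fin 4) W)
    (hE : ∀ i j, orderOf (E.s i * E.s j) = (CoxeterMatrix.F₄) i j) : Nat.card W = 1152 := by
  obtain ⟨T, h2, h3⟩ := sum_all modelF4 matF4 chainF4 allF4 E hE (f := fun _ => (1 : ℕ))
    (q := fun _ => 1) rfl (fun _ _ _ => rfl)
  have e : (cF4.map fun p => (p.2.map fun d => (d.map fun _ => (1 : ℕ)).prod).sum) =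
      (cF4.map (fun p => p.2.map List.length)).map fun l => (l.map fun k => 1 ^ k).sum := by
    simp only [sum_pow_length, List.map_map, Function.comp_def]
  rw [e, lensF4] at h3
  rw [card_of_forall_mem h2, Finset.card_eq_sum_ones, h3]
  decide +kernel

theorem exSysF4 {W : Type*} [Group W] (cs : CoxeterSystem (CoxeterMatrix.F₄) W) :
    ∃ E : ExSys (Fin 4) W, E.toInvSys = invSysOfCox cs ∧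
      ∀ i j, orderOf (E.s i * E.s j) = (CoxeterMatrix.F₄) i j :=
  exists_exSys modelF4 matF4 cs

theorem coxOrderF4 {W : Type*} [Group W] (E : ExSys (Fin 4) W)
    (hE : ∀ i j, orderOf (E.s i * E.s j) = (CoxeterMatrix.F₄) i j) :
    orderOf ((List.finRange 4).map E.s).prod = 12 := by
  obtain ⟨φ, h1, h2, -⟩ := exists_rep modelF4 matF4 E hE
  rw [← orderOf_injective φ h1]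
  refine orderOf_eq _ (fun v => (List.finRange 4).foldr (fun i : Fin 4 => rstep AF4 i) v) ?_ _
    (by norm_num) 0 (by decide +kernel) (by decide +kernel)
  intro v
  generalize List.finRange 4 = l
  induction l with
  | nil => simp
  | cons a l ih =>
    rw [List.map_cons, List.prod_cons, map_mul, LinearEquiv.mul_apply, h2, ofFn_refl, ih,
      List.foldr_cons]

def AE6 : List (List ℤ) := [[2, 0, -1, 0, 0, 0], [0, 2, 0, -1, 0, 0], [-1, 0, 2, -1, 0, 0], [0, -1, -1, 2, -1, 0], [0, 0, 0, -1, 2, -1], [0, 0, 0, 0, -1, 2]]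
def dE6 : List ℤ := [1, 1, 1, 1, 1, 1]
def PE6 : List (List ℤ) := [[1, 0, 0, 0, 0, 0], [0, 1, 0, 0, 0, 0], [0, 0, 1, 0, 0, 0], [0, 0, 0, 1, 0, 0], [0, 0, 0, 0, 1, 0], [0, 0, 0, 0, 0, 1], [1, 0, 1, 0, 0, 0], [0, 1, 0, 1, 0, 0], [0, 0, 1, 1, 0, 0], [0, 0, 0, 1, 1, 0], [0, 0, 0, 0, 1, 1], [1, 0, 1, 1, 0, 0], [0, 1, 1, 1, 0, 0], [0, 1, 0, 1, 1, 0], [0, 0, 1, 1, 1, 0], [0, 0, 0, 1, 1, 1], [1, 1, 1, 1, 0, 0], [1, 0, 1, 1, 1, 0], [0, 1, 1, 1, 1, 0], [0, 1, 0, 1, 1, 1], [0, 0, 1, 1, 1, 1], [1, 1, 1, 1, 1, 0], [1, 0, 1, 1, 1, 1], [0, 1, 1, 2, 1, 0], [0, 1, 1, 1, 1, 1], [1, 1, 1, 2, 1, 0], [1, 1, 1, 1, 1, 1], [0, 1, 1, 2, 1, 1], [1, 1, 2, 2, 1, 0], [1, 1, 1, 2, 1, 1], [0, 1, 1, 2, 2, 1], [1, 1, 2, 2, 1, 1], [1, 1, 1, 2, 2, 1], [1, 1, 2, 2, 2,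 1], [1, 1, 2, 3, 2, 1], [1, 2, 2, 3, 2, 1]]
def ME6 : List (List ℕ) := [[1, 2, 3, 2, 2, 2], [2, 1, 2, 3, 2, 2], [3, 2, 1, 3, 2, 2], [2, 3, 3, 1, 3, 2], [2, 2, 2, 3, 1, 3], [2, 2, 2, 2, 3, 1]]
def cE6_5 : List (List (Fin 6)) := [[], [5], [4, 5], [3, 4, 5], [1, 3, 4, 5], [2, 3, 4, 5], [2, 1, 3, 4, 5], [0, 2, 3, 4, 5], [3, 2, 1, 3, 4, 5], [0, 2, 1, 3, 4, 5], [4, 3, 2, 1, 3, 4, 5], [0, 3, 2, 1, 3, 4, 5], [5, 4, 3, 2, 1, 3, 4, 5], [0, 4, 3, 2, 1, 3, 4, 5], [2, 0, 3, 2, 1, 3, 4, 5], [0, 5, 4, 3, 2, 1, 3, 4, 5], [2, 0, 4, 3, 2, 1, 3, 4, 5], [2, 0, 5, 4, 3, 2, 1, 3, 4, 5], [3, 2, 0, 4, 3, 2, 1, 3, 4, 5], [3, 2, 0, 5, 4, 3, 2, 1, 3, 4, 5], [1, 3, 2, 0, 4, 3, 2, 1, 3, 4, 5], [4, 3, 2, 0, 5, 4, 3, 2, 1, 3, 4, 5], [1, 3, 2, 0, 5, 4, 3, 2, 1, 3,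 4, 5], [1, 4, 3, 2, 0, 5, 4, 3, 2, 1, 3, 4, 5], [3, 1, 4, 3, 2, 0, 5, 4, 3, 2, 1, 3, 4, 5], [2, 3, 1, 4, 3, 2, 0, 5, 4, 3, 2, 1, 3, 4, 5], [0, 2, 3, 1, 4, 3, 2, 0, 5, 4, 3, 2, 1, 3, 4, 5]]
def cE6_4 : List (List (Fin 6)) := [[], [4], [3, 4], [1, 3, 4], [2, 3, 4], [2, 1, 3, 4], [0, 2, 3, 4], [3, 2, 1, 3, 4], [0, 2, 1, 3, 4], [4, 3, 2, 1, 3, 4], [0, 3, 2, 1, 3, 4], [0, 4, 3, 2, 1, 3, 4], [2, 0, 3, 2, 1, 3, 4], [2, 0, 4, 3, 2, 1, 3, 4], [3, 2, 0, 4, 3, 2, 1, 3, 4], [1, 3, 2, 0, 4, 3, 2, 1, 3, 4]]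
def cE6_1 : List (List (Fin 6)) := [[], [1], [3, 1], [2, 3, 1], [0, 2, 3, 1]]
def cE6_3 : List (List (Fin 6)) := [[], [3], [2, 3], [0, 2, 3]]
def cE6_2 : List (List (Fin 6)) := [[], [2], [0, 2]]
def cE6_0 : List (List (Fin 6)) := [[], [0]]
def cE6 : List (Fin 6 × List (List (Fin 6))) := [(5, cE6_5), (4, cE6_4), (1, cE6_1), (3, cE6_3), (2, cE6_2), (0, cE6_0)]
theorem modelE6 : modelOK 6 AE6 dE6 PE6 (tab ME6) = true := by decide +kernel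
theorem chainE6 : chainOK 6 AE6 cE6 = true := by decide +kernel
theorem matE6 : ∀ i j : Fin 6, (CoxeterMatrix.E₆) i j = tab ME6 i j := by
  intro i j; fin_cases i <;> fin_cases j <;> rfl
theorem allE6 : ∀ i, i ∈ cE6.map Prod.fst := by decide +kernel
theorem lensE6 : cE6.map (fun p => p.2.map List.length) = [[0, 1, 2, 3, 4, 4, 5, 5, 6, 6, 7, 7, 8, 8, 8, 9, 9, 10, 10, 11, 11, 12, 12, 13, 14, 15, 16], [0, 1, 2, 3, 3, 4, 4, 5, 5, 6, 6, 7, 7, 8, 9, 10], [0, 1, 2, 3, 4], [0, 1, 2, 3], [0, 1, 2], [0, 1]] := by decide +kernel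

theorem poincareE6 {W : Type*} [Group W] (E : ExSys (Fin 6) W)
    (hE : ∀ i j, orderOf (E.s i * E.s j) = (CoxeterMatrix.E₆) i j)
    {S : Type*} [CommRing S] {f : W → S} {q : S} (h1 : f 1 = 1)
    (hf : ∀ i w, E.pos i w → f (E.s i * w) = q * f w) :
    ∃ T : Finset W, (∀ w, w ∈ T) ∧ (q - 1) ^ 6 * ∑ w ∈ T, f w = (q ^ 2 - 1) * (q ^ 5 - 1) * (q ^ 6 - 1) * (q ^ 8 - 1) * (q ^ 9 - 1) * (q ^ 12 - 1) := by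
  obtain ⟨T, h2, h3⟩ := sum_all modelE6 matE6 chainE6 allE6 E hE (q := fun _ => q) h1 hf
  refine ⟨T, h2, ?_⟩
  have e : (cE6.map fun p => (p.2.map fun d => (d.map fun _ => q).prod).sum) =
      (cE6.map (fun p => p.2.map List.length)).map fun l => (l.map fun k => q ^ k).sum := by
    simp only [sum_pow_length, List.map_map, Function.comp_def]
  rw [h3, e, lensE6]
  simp only [List.map_cons, List.map_nil, List.sum_cons, List.sum_nil, List.prod_cons, List.prod_nil]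
  ring

theorem cardE6 {W : Type*} [Group W] (E : ExSys (Fin 6) W)
    (hE : ∀ i j, orderOf (E.s i * E.s j) = (CoxeterMatrix.E₆) i j) : Nat.card W = 51840 := by
  obtain ⟨T, h2, h3⟩ := sum_all modelE6 matE6 chainE6 allE6 E hE (f := fun _ => (1 : ℕ))
    (q := fun _ => 1) rfl (fun _ _ _ => rfl)
  have e : (cE6.map fun p => (p.2.map fun d => (d.map fun _ => (1 : ℕ)).prod).sum) =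
      (cE6.map (fun p => p.2.map List.length)).map fun l => (l.map fun k => 1 ^ k).sum := by
    simp only [sum_pow_length, List.map_map, Function.comp_def]
  rw [e, lensE6] at h3
  rw [card_of_forall_mem h2, Finset.card_eq_sum_ones, h3]
  decide +kernel

theorem exSysE6 {W : Type*} [Group W] (cs : CoxeterSystem (CoxeterMatrix.E₆) W) :
    ∃ E : ExSys (Fin 6) W, E.toInvSys = invSysOfCox cs ∧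
      ∀ i j, orderOf (E.s i * E.s j) = (CoxeterMatrix.E₆) i j :=
  exists_exSys modelE6 matE6 cs

theorem coxOrderE6 {W : Type*} [Group W] (E : ExSys (Fin 6) W)
    (hE : ∀ i j, orderOf (E.s i * E.s j) = (CoxeterMatrix.E₆) i j) :
    orderOf ((List.finRange 6).map E.s).prod = 12 := by
  obtain ⟨φ, h1, h2, -⟩ := exists_rep modelE6 matE6 E hE
  rw [← orderOf_injective φ h1]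
  refine orderOf_eq _ (fun v => (List.finRange 6).foldr (fun i : Fin 6 => rstep AE6 i) v) ?_ _
    (by norm_num) 0 (by decide +kernel) (by decide +kernel)
  intro v
  generalize List.finRange 6 = l
  induction l with
  | nil => simp
  | cons a l ih =>
    rw [List.map_cons, List.prod_cons, map_mul, LinearEquiv.mul_apply, h2, ofFn_refl, ih,
      List.foldr_cons]

def AE7 : List (List ℤ) := [[2, 0, -1, 0, 0, 0, 0], [0, 2, 0, -1, 0, 0, 0], [-1, 0, 2, -1, 0, 0, 0], [0, -1, -1, 2, -1, 0, 0], [0, 0, 0, -1, 2, -1, 0], [0, 0, 0, 0, -1, 2, -1], [0, 0, 0, 0, 0, -1, 2]]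
def dE7 : List ℤ := [1, 1, 1, 1, 1, 1, 1]
def PE7 : List (List ℤ) := [[1, 0, 0, 0, 0, 0, 0], [0, 1, 0, 0, 0, 0, 0], [0, 0, 1, 0, 0, 0, 0], [0, 0, 0, 1, 0, 0, 0], [0, 0, 0, 0, 1, 0, 0], [0, 0, 0, 0, 0, 1, 0], [0, 0, 0, 0, 0, 0, 1], [1, 0, 1, 0, 0, 0, 0], [0, 1, 0, 1, 0, 0, 0], [0, 0, 1, 1, 0, 0, 0], [0, 0, 0, 1, 1, 0, 0], [0, 0, 0, 0, 1, 1, 0], [0, 0, 0, 0, 0, 1, 1], [1, 0, 1, 1, 0, 0, 0], [0, 1, 1, 1, 0, 0, 0], [0, 1, 0, 1, 1, 0, 0], [0, 0, 1, 1, 1, 0, 0], [0, 0, 0, 1, 1, 1, 0], [0, 0, 0, 0, 1, 1, 1], [1, 1, 1, 1, 0, 0, 0], [1, 0, 1, 1, 1, 0, 0], [0, 1, 1, 1, 1, 0, 0], [0, 1, 0, 1, 1, 1, 0], [0, 0, 1, 1, 1, 1, 0], [0, 0, 0, 1, 1, 1, 1], [1, 1, 1, 1, 1, 0, 0], [1, 0, 1, 1, 1, 1, 0], [0, 1, 1, 2, 1, 0, 0], [0, 1, 1, 1, 1, 1, 0], [0, 1,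 0, 1, 1, 1, 1], [0, 0, 1, 1, 1, 1, 1], [1, 1, 1, 2, 1, 0, 0], [1, 1, 1, 1, 1, 1, 0], [1, 0, 1, 1, 1, 1, 1], [0, 1, 1, 2, 1, 1, 0], [0, 1, 1, 1, 1, 1, 1], [1, 1, 2, 2, 1, 0, 0], [1, 1, 1, 2, 1, 1, 0], [1, 1, 1, 1, 1, 1, 1], [0, 1, 1, 2, 2, 1, 0], [0, 1, 1, 2, 1, 1, 1], [1, 1, 2, 2, 1, 1, 0], [1, 1, 1, 2, 2, 1, 0], [1, 1, 1, 2, 1, 1, 1], [0, 1, 1, 2, 2, 1, 1], [1, 1, 2, 2, 2, 1, 0], [1, 1, 2, 2, 1, 1, 1], [1, 1, 1, 2, 2, 1, 1], [0, 1, 1, 2, 2, 2, 1], [1, 1, 2, 3, 2, 1, 0], [1, 1, 2, 2, 2, 1, 1], [1, 1, 1, 2, 2, 2, 1], [1, 2, 2, 3, 2, 1, 0], [1, 1, 2, 3, 2, 1, 1], [1, 1, 2, 2, 2, 2, 1], [1, 2, 2, 3, 2, 1, 1], [1, 1, 2, 3, 2, 2, 1], [1, 2, 2, 3, 2, 2, 1], [1, 1, 2, 3, 3, 2, 1], [1, 2, 2, 3, 3, 2, 1], [1, 2, 2, 4, 3, 2, 1], [1, 2, 3, 4, 3,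 2, 1], [2, 2, 3, 4, 3, 2, 1]]
def ME7 : List (List ℕ) := [[1, 2, 3, 2, 2, 2, 2], [2, 1, 2, 3, 2, 2, 2], [3, 2, 1, 3, 2, 2, 2], [2, 3, 3, 1, 3, 2, 2], [2, 2, 2, 3, 1, 3, 2], [2, 2, 2, 2, 3, 1, 3], [2, 2, 2, 2, 2, 3, 1]]
def cE7_6 : List (List (Fin 7)) := [[], [6], [5, 6], [4, 5, 6], [3, 4, 5, 6], [1, 3, 4, 5, 6], [2, 3, 4, 5, 6], [2, 1, 3, 4, 5, 6], [0, 2, 3, 4, 5, 6], [3, 2, 1, 3, 4, 5, 6], [0, 2, 1, 3, 4, 5, 6], [4, 3, 2, 1, 3, 4, 5, 6], [0, 3, 2, 1, 3, 4, 5, 6], [5, 4, 3, 2, 1, 3, 4, 5, 6], [0, 4, 3, 2, 1, 3, 4, 5, 6], [2, 0, 3, 2, 1, 3, 4, 5, 6], [6, 5, 4, 3, 2, 1, 3, 4, 5, 6], [0, 5, 4, 3, 2, 1, 3, 4, 5, 6], [2, 0, 4, 3, 2, 1, 3, 4, 5, 6], [0, 6, 5, 4, 3, 2, 1, 3, 4, 5, 6], [2, 0, 5, 4, 3, 2, 1, 3, 4, 5, 6], [3, 2, 0, 4, 3, 2, 1,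 3, 4, 5, 6], [2, 0, 6, 5, 4, 3, 2, 1, 3, 4, 5, 6], [3, 2, 0, 5, 4, 3, 2, 1, 3, 4, 5, 6], [1, 3, 2, 0, 4, 3, 2, 1, 3, 4, 5, 6], [3, 2, 0, 6, 5, 4, 3, 2, 1, 3, 4, 5, 6], [4, 3, 2, 0, 5, 4, 3, 2, 1, 3, 4, 5, 6], [1, 3, 2, 0, 5, 4, 3, 2, 1, 3, 4, 5, 6], [4, 3, 2, 0, 6, 5, 4, 3, 2, 1, 3, 4, 5, 6], [1, 3, 2, 0, 6, 5, 4, 3, 2, 1, 3, 4, 5, 6], [1, 4, 3, 2, 0, 5, 4, 3, 2, 1, 3, 4, 5, 6], [5, 4, 3, 2, 0, 6, 5, 4, 3, 2, 1, 3, 4, 5, 6], [1, 4, 3, 2, 0, 6, 5, 4, 3, 2, 1, 3, 4, 5, 6], [3, 1, 4, 3, 2, 0, 5, 4, 3, 2, 1, 3, 4, 5, 6], [1, 5, 4, 3, 2, 0, 6, 5, 4, 3, 2, 1, 3, 4, 5, 6], [3, 1, 4, 3, 2, 0, 6, 5, 4, 3, 2, 1, 3, 4, 5, 6], [2, 3, 1, 4, 3, 2, 0, 5, 4, 3, 2, 1, 3, 4, 5, 6], [3, 1, 5, 4, 3, 2, 0, 6, 5, 4, 3, 2, 1, 3, 4, 5, 6], [2, 3, 1, 4, 3, 2,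 0, 6, 5, 4, 3, 2, 1, 3, 4, 5, 6], [0, 2, 3, 1, 4, 3, 2, 0, 5, 4, 3, 2, 1, 3, 4, 5, 6], [4, 3, 1, 5, 4, 3, 2, 0, 6, 5, 4, 3, 2, 1, 3, 4, 5, 6], [2, 3, 1, 5, 4, 3, 2, 0, 6, 5, 4, 3, 2, 1, 3, 4, 5, 6], [0, 2, 3, 1, 4, 3, 2, 0, 6, 5, 4, 3, 2, 1, 3, 4, 5, 6], [2, 4, 3, 1, 5, 4, 3, 2, 0, 6, 5, 4, 3, 2, 1, 3, 4, 5, 6], [0, 2, 3, 1, 5, 4, 3, 2, 0, 6, 5, 4, 3, 2, 1, 3, 4, 5, 6], [3, 2, 4, 3, 1, 5, 4, 3, 2, 0, 6, 5, 4, 3, 2, 1, 3, 4, 5, 6], [0, 2, 4, 3, 1, 5, 4, 3, 2, 0, 6, 5, 4, 3, 2, 1, 3, 4, 5, 6], [1, 3, 2, 4, 3, 1, 5, 4, 3, 2, 0, 6, 5, 4, 3, 2, 1, 3, 4, 5, 6], [0, 3, 2, 4, 3, 1, 5, 4, 3, 2, 0, 6, 5, 4, 3, 2, 1, 3, 4, 5, 6], [0, 1, 3, 2, 4, 3, 1, 5, 4, 3, 2, 0, 6, 5, 4, 3, 2, 1, 3, 4, 5, 6], [2, 0, 3, 2, 4, 3, 1, 5, 4, 3, 2, 0, 6, 5, 4, 3,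 2, 1, 3, 4, 5, 6], [2, 0, 1, 3, 2, 4, 3, 1, 5, 4, 3, 2, 0, 6, 5, 4, 3, 2, 1, 3, 4, 5, 6], [3, 2, 0, 1, 3, 2, 4, 3, 1, 5, 4, 3, 2, 0, 6, 5, 4, 3, 2, 1, 3, 4, 5, 6], [4, 3, 2, 0, 1, 3, 2, 4, 3, 1, 5, 4, 3, 2, 0, 6, 5, 4, 3, 2, 1, 3, 4, 5, 6], [5, 4, 3, 2, 0, 1, 3, 2, 4, 3, 1, 5, 4, 3, 2, 0, 6, 5, 4, 3, 2, 1, 3, 4, 5, 6], [6, 5, 4, 3, 2, 0, 1, 3, 2, 4, 3, 1, 5, 4, 3, 2, 0, 6, 5, 4, 3, 2, 1, 3, 4, 5, 6]]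
def cE7_5 : List (List (Fin 7)) := [[], [5], [4, 5], [3, 4, 5], [1, 3, 4, 5], [2, 3, 4, 5], [2, 1, 3, 4, 5], [0, 2, 3, 4, 5], [3, 2, 1, 3, 4, 5], [0, 2, 1, 3, 4, 5], [4, 3, 2, 1, 3, 4, 5], [0, 3, 2, 1, 3, 4, 5], [5, 4, 3, 2, 1, 3, 4, 5], [0, 4, 3, 2, 1, 3, 4, 5], [2, 0, 3, 2, 1, 3, 4, 5], [0, 5, 4, 3, 2, 1, 3, 4, 5], [2, 0, 4, 3, 2, 1, 3, 4, 5], [2, 0, 5, 4, 3, 2, 1, 3, 4, 5], [3, 2, 0, 4, 3, 2, 1, 3, 4, 5], [3, 2, 0, 5, 4, 3, 2, 1, 3, 4, 5], [1, 3, 2, 0, 4, 3, 2, 1, 3, 4, 5], [4, 3, 2, 0, 5, 4, 3, 2, 1, 3, 4, 5], [1, 3, 2, 0, 5, 4, 3, 2, 1, 3, 4, 5], [1, 4, 3, 2, 0, 5, 4, 3, 2, 1, 3, 4, 5], [3, 1, 4, 3, 2, 0, 5, 4, 3, 2, 1, 3, 4, 5], [2, 3, 1, 4, 3, 2, 0, 5, 4, 3, 2, 1, 3, 4, 5], [0, 2, 3, 1, 4, 3, 2, 0, 5, 4, 3, 2, 1, 3, 4, 5]]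
def cE7_4 : List (List (Fin 7)) := [[], [4], [3, 4], [1, 3, 4], [2, 3, 4], [2, 1, 3, 4], [0, 2, 3, 4], [3, 2, 1, 3, 4], [0, 2, 1, 3, 4], [4, 3, 2, 1, 3, 4], [0, 3, 2, 1, 3, 4], [0, 4, 3, 2, 1, 3, 4], [2, 0, 3, 2, 1, 3, 4], [2, 0, 4, 3, 2, 1, 3, 4], [3, 2, 0, 4, 3, 2, 1, 3, 4], [1, 3, 2, 0, 4, 3, 2, 1, 3, 4]]
def cE7_1 : List (List (Fin 7)) := [[], [1], [3, 1], [2, 3, 1], [0, 2, 3, 1]]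
def cE7_3 : List (List (Fin 7)) := [[], [3], [2, 3], [0, 2, 3]]
def cE7_2 : List (List (Fin 7)) := [[], [2], [0, 2]]
def cE7_0 : List (List (Fin 7)) := [[], [0]]
def cE7 : List (Fin 7 × List (List (Fin 7))) := [(6, cE7_6), (5, cE7_5), (4, cE7_4), (1, cE7_1), (3, cE7_3), (2, cE7_2), (0, cE7_0)]
theorem modelE7 : modelOK 7 AE7 dE7 PE7 (tab ME7) = true := by decide +kernel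
theorem chainE7 : chainOK 7 AE7 cE7 = true := by decide +kernel
theorem matE7 : ∀ i j : Fin 7, (CoxeterMatrix.E₇) i j = tab ME7 i j := by
  intro i j; fin_cases i <;> fin_cases j <;> rfl
theorem allE7 : ∀ i, i ∈ cE7.map Prod.fst := by decide +kernel
theorem lensE7 : cE7.map (fun p => p.2.map List.length) = [[0, 1, 2, 3, 4, 5, 5, 6, 6, 7, 7, 8, 8, 9, 9, 9, 10, 10, 10, 11, 11, 11, 12, 12, 12, 13, 13, 13, 14, 14, 14, 15, 15, 15, 16, 16, 16, 17, 17, 17, 18, 18, 18, 19, 19, 20, 20, 21, 21, 22, 22, 23, 24, 25, 26, 27], [0, 1, 2, 3, 4, 4, 5, 5, 6, 6, 7, 7, 8, 8, 8, 9, 9, 10, 10, 11, 11, 12, 12, 13, 14, 15, 16], [0, 1, 2, 3, 3, 4, 4, 5, 5, 6, 6, 7, 7, 8, 9, 10], [0, 1, 2, 3, 4], [0, 1, 2, 3], [0, 1, 2], [0, 1]] := by decide +kernel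

theorem poincareE7 {W : Type*} [Group W] (E : ExSys (Fin 7) W)
    (hE : ∀ i j, orderOf (E.s i * E.s j) = (CoxeterMatrix.E₇) i j)
    {S : Type*} [CommRing S] {f : W → S} {q : S} (h1 : f 1 = 1)
    (hf : ∀ i w, E.pos i w → f (E.s i * w) = q * f w) :
    ∃ T : Finset W, (∀ w, w ∈ T) ∧ (q - 1) ^ 7 * ∑ w ∈ T, f w = (q ^ 2 - 1) * (q ^ 6 - 1) * (q ^ 8 - 1) * (q ^ 10 - 1) * (q ^ 12 - 1) * (q ^ 14 - 1) * (q ^ 18 - 1) := by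
  obtain ⟨T, h2, h3⟩ := sum_all modelE7 matE7 chainE7 allE7 E hE (q := fun _ => q) h1 hf
  refine ⟨T, h2, ?_⟩
  have e : (cE7.map fun p => (p.2.map fun d => (d.map fun _ => q).prod).sum) =
      (cE7.map (fun p => p.2.map List.length)).map fun l => (l.map fun k => q ^ k).sum := by
    simp only [sum_pow_length, List.map_map, Function.comp_def]
  rw [h3, e, lensE7]
  simp only [List.map_cons, List.map_nil, List.sum_cons, List.sum_nil, List.prod_cons, List.prod_nil]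
  ring

theorem cardE7 {W : Type*} [Group W] (E : ExSys (Fin 7) W)
    (hE : ∀ i j, orderOf (E.s i * E.s j) = (CoxeterMatrix.E₇) i j) : Nat.card W = 2903040 := by
  obtain ⟨T, h2, h3⟩ := sum_all modelE7 matE7 chainE7 allE7 E hE (f := fun _ => (1 : ℕ))
    (q := fun _ => 1) rfl (fun _ _ _ => rfl)
  have e : (cE7.map fun p => (p.2.map fun d => (d.map fun _ => (1 : ℕ)).prod).sum) =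
      (cE7.map (fun p => p.2.map List.length)).map fun l => (l.map fun k => 1 ^ k).sum := by
    simp only [sum_pow_length, List.map_map, Function.comp_def]
  rw [e, lensE7] at h3
  rw [card_of_forall_mem h2, Finset.card_eq_sum_ones, h3]
  decide +kernel

theorem exSysE7 {W : Type*} [Group W] (cs : CoxeterSystem (CoxeterMatrix.E₇) W) :
    ∃ E : ExSys (Fin 7) W, E.toInvSys = invSysOfCox cs ∧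
      ∀ i j, orderOf (E.s i * E.s j) = (CoxeterMatrix.E₇) i j :=
  exists_exSys modelE7 matE7 cs

theorem coxOrderE7 {W : Type*} [Group W] (E : ExSys (Fin 7) W)
    (hE : ∀ i j, orderOf (E.s i * E.s j) = (CoxeterMatrix.E₇) i j) :
    orderOf ((List.finRange 7).map E.s).prod = 18 := by
  obtain ⟨φ, h1, h2, -⟩ := exists_rep modelE7 matE7 E hE
  rw [← orderOf_injective φ h1]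
  refine orderOf_eq _ (fun v => (List.finRange 7).foldr (fun i : Fin 7 => rstep AE7 i) v) ?_ _
    (by norm_num) 0 (by decide +kernel) (by decide +kernel)
  intro v
  generalize List.finRange 7 = l
  induction l with
  | nil => simp
  | cons a l ih =>
    rw [List.map_cons, List.prod_cons, map_mul, LinearEquiv.mul_apply, h2, ofFn_refl, ih,
      List.foldr_cons]

def AE8 : List (List ℤ) := [[2, 0, -1, 0, 0, 0, 0, 0], [0, 2, 0, -1, 0, 0, 0, 0], [-1, 0, 2, -1, 0, 0, 0, 0], [0, -1, -1, 2, -1, 0, 0, 0], [0, 0, 0, -1, 2, -1, 0, 0], [0, 0, 0, 0, -1, 2, -1, 0], [0, 0, 0, 0, 0, -1, 2, -1], [0, 0, 0, 0, 0, 0, -1, 2]]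
def dE8 : List ℤ := [1, 1, 1, 1, 1, 1, 1, 1]
def PE8 : List (List ℤ) := [[1, 0, 0, 0, 0, 0, 0, 0], [0, 1, 0, 0, 0, 0, 0, 0], [0, 0, 1, 0, 0, 0, 0, 0], [0, 0, 0, 1, 0, 0, 0, 0], [0, 0, 0, 0, 1, 0, 0, 0], [0, 0, 0, 0, 0, 1, 0, 0], [0, 0, 0, 0, 0, 0, 1, 0], [0, 0, 0, 0, 0, 0, 0, 1], [1, 0, 1, 0, 0, 0, 0, 0], [0, 1, 0, 1, 0, 0, 0, 0], [0, 0, 1, 1, 0, 0, 0, 0], [0, 0, 0, 1, 1, 0, 0, 0], [0, 0, 0, 0, 1, 1, 0, 0], [0, 0, 0, 0, 0, 1, 1, 0], [0, 0, 0, 0, 0, 0, 1, 1], [1, 0, 1, 1, 0, 0, 0, 0], [0, 1, 1, 1, 0, 0, 0, 0], [0, 1, 0, 1, 1, 0, 0, 0], [0, 0, 1, 1, 1, 0, 0, 0], [0, 0, 0, 1, 1, 1, 0, 0], [0, 0, 0, 0, 1, 1, 1, 0], [0, 0, 0, 0, 0, 1, 1, 1], [1, 1, 1, 1, 0, 0, 0, 0], [1, 0, 1, 1, 1, 0, 0, 0], [0, 1, 1, 1, 1, 0, 0, 0], [0, 1, 0, 1, 1, 1, 0,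 0], [0, 0, 1, 1, 1, 1, 0, 0], [0, 0, 0, 1, 1, 1, 1, 0], [0, 0, 0, 0, 1, 1, 1, 1], [1, 1, 1, 1, 1, 0, 0, 0], [1, 0, 1, 1, 1, 1, 0, 0], [0, 1, 1, 2, 1, 0, 0, 0], [0, 1, 1, 1, 1, 1, 0, 0], [0, 1, 0, 1, 1, 1, 1, 0], [0, 0, 1, 1, 1, 1, 1, 0], [0, 0, 0, 1, 1, 1, 1, 1], [1, 1, 1, 2, 1, 0, 0, 0], [1, 1, 1, 1, 1, 1, 0, 0], [1, 0, 1, 1, 1, 1, 1, 0], [0, 1, 1, 2, 1, 1, 0, 0], [0, 1, 1, 1, 1, 1, 1, 0], [0, 1, 0, 1, 1, 1, 1, 1], [0, 0, 1, 1, 1, 1, 1, 1], [1, 1, 2, 2, 1, 0, 0, 0], [1, 1, 1, 2, 1, 1, 0, 0], [1, 1, 1, 1, 1, 1, 1, 0], [1, 0, 1, 1, 1, 1, 1, 1], [0, 1, 1, 2, 2, 1, 0, 0], [0, 1, 1, 2, 1, 1, 1, 0], [0, 1, 1, 1, 1, 1, 1, 1], [1, 1, 2, 2, 1, 1, 0, 0], [1, 1, 1, 2, 2, 1, 0, 0], [1, 1, 1, 2, 1, 1, 1, 0], [1, 1, 1, 1, 1, 1, 1, 1], [0, 1, 1, 2,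 2, 1, 1, 0], [0, 1, 1, 2, 1, 1, 1, 1], [1, 1, 2, 2, 2, 1, 0, 0], [1, 1, 2, 2, 1, 1, 1, 0], [1, 1, 1, 2, 2, 1, 1, 0], [1, 1, 1, 2, 1, 1, 1, 1], [0, 1, 1, 2, 2, 2, 1, 0], [0, 1, 1, 2, 2, 1, 1, 1], [1, 1, 2, 3, 2, 1, 0, 0], [1, 1, 2, 2, 2, 1, 1, 0], [1, 1, 2, 2, 1, 1, 1, 1], [1, 1, 1, 2, 2, 2, 1, 0], [1, 1, 1, 2, 2, 1, 1, 1], [0, 1, 1, 2, 2, 2, 1, 1], [1, 2, 2, 3, 2, 1, 0, 0], [1, 1, 2, 3, 2, 1, 1, 0], [1, 1, 2, 2, 2, 2, 1, 0], [1, 1, 2, 2, 2, 1, 1, 1], [1, 1, 1, 2, 2, 2, 1, 1], [0, 1, 1, 2, 2, 2, 2, 1], [1, 2, 2, 3, 2, 1, 1, 0], [1, 1, 2, 3, 2, 2, 1, 0], [1, 1, 2, 3, 2, 1, 1, 1], [1, 1, 2, 2, 2, 2, 1, 1], [1, 1, 1, 2, 2, 2, 2, 1], [1, 2, 2, 3, 2, 2, 1, 0], [1, 2, 2, 3, 2, 1, 1, 1], [1, 1, 2, 3, 3, 2, 1, 0], [1, 1, 2, 3, 2, 2, 1, 1], [1,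 1, 2, 2, 2, 2, 2, 1], [1, 2, 2, 3, 3, 2, 1, 0], [1, 2, 2, 3, 2, 2, 1, 1], [1, 1, 2, 3, 3, 2, 1, 1], [1, 1, 2, 3, 2, 2, 2, 1], [1, 2, 2, 4, 3, 2, 1, 0], [1, 2, 2, 3, 3, 2, 1, 1], [1, 2, 2, 3, 2, 2, 2, 1], [1, 1, 2, 3, 3, 2, 2, 1], [1, 2, 3, 4, 3, 2, 1, 0], [1, 2, 2, 4, 3, 2, 1, 1], [1, 2, 2, 3, 3, 2, 2, 1], [1, 1, 2, 3, 3, 3, 2, 1], [2, 2, 3, 4, 3, 2, 1, 0], [1, 2, 3, 4, 3, 2, 1, 1], [1, 2, 2, 4, 3, 2, 2, 1], [1, 2, 2, 3, 3, 3, 2, 1], [2, 2, 3, 4, 3, 2, 1, 1], [1, 2, 3, 4, 3, 2, 2, 1], [1, 2, 2, 4, 3, 3, 2, 1], [2, 2, 3, 4, 3, 2, 2, 1], [1, 2, 3, 4, 3, 3, 2, 1], [1, 2, 2, 4, 4, 3, 2, 1], [2, 2, 3, 4, 3, 3, 2, 1], [1, 2, 3, 4, 4, 3, 2, 1], [2, 2, 3, 4, 4, 3, 2, 1], [1, 2, 3, 5, 4, 3, 2, 1], [2, 2, 3, 5, 4, 3, 2, 1], [1, 3, 3, 5, 4, 3,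 2, 1], [2, 3, 3, 5, 4, 3, 2, 1], [2, 2, 4, 5, 4, 3, 2, 1], [2, 3, 4, 5, 4, 3, 2, 1], [2, 3, 4, 6, 4, 3, 2, 1], [2, 3, 4, 6, 5, 3, 2, 1], [2, 3, 4, 6, 5, 4, 2, 1], [2, 3, 4, 6, 5, 4, 3, 1], [2, 3, 4, 6, 5, 4, 3, 2]]
def ME8 : List (List ℕ) := [[1, 2, 3, 2, 2, 2, 2, 2], [2, 1, 2, 3, 2, 2, 2, 2], [3, 2, 1, 3, 2, 2, 2, 2], [2, 3, 3, 1, 3, 2, 2, 2], [2, 2, 2, 3, 1, 3, 2, 2], [2, 2, 2, 2, 3, 1, 3, 2], [2, 2, 2, 2, 2, 3, 1, 3], [2, 2, 2, 2, 2, 2, 3, 1]]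
def cE8_7 : List (List (Fin 8)) := [[], [7], [6, 7], [5, 6, 7], [4, 5, 6, 7], [3, 4, 5, 6, 7], [1, 3, 4, 5, 6, 7], [2, 3, 4, 5, 6, 7], [2, 1, 3, 4, 5, 6, 7], [0, 2, 3, 4, 5, 6, 7], [3, 2, 1, 3, 4, 5, 6, 7], [0, 2, 1, 3, 4, 5, 6, 7], [4, 3, 2, 1, 3, 4, 5, 6, 7], [0, 3, 2, 1, 3, 4, 5, 6, 7], [5, 4, 3, 2, 1, 3, 4, 5, 6, 7], [0, 4, 3, 2, 1, 3, 4, 5, 6, 7], [2, 0, 3, 2, 1, 3, 4, 5, 6, 7], [6, 5, 4, 3, 2, 1, 3, 4, 5, 6, 7], [0, 5, 4, 3, 2, 1, 3, 4, 5, 6, 7], [2, 0, 4, 3, 2, 1, 3, 4, 5, 6, 7], [7, 6, 5, 4, 3, 2, 1, 3, 4, 5, 6, 7], [0, 6, 5, 4, 3, 2, 1, 3, 4, 5, 6, 7], [2, 0, 5, 4, 3, 2, 1, 3, 4, 5, 6, 7], [3, 2, 0, 4, 3, 2, 1, 3, 4, 5, 6, 7], [0, 7, 6, 5, 4, 3, 2, 1, 3, 4, 5, 6, 7], [2, 0, 6, 5, 4, 3, 2, 1, 3, 4, 5, 6, 7], [3, 2, 0, 5, 4, 3,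 2, 1, 3, 4, 5, 6, 7], [1, 3, 2, 0, 4, 3, 2, 1, 3, 4, 5, 6, 7], [2, 0, 7, 6, 5, 4, 3, 2, 1, 3, 4, 5, 6, 7], [3, 2, 0, 6, 5, 4, 3, 2, 1, 3, 4, 5, 6, 7], [4, 3, 2, 0, 5, 4, 3, 2, 1, 3, 4, 5, 6, 7], [1, 3, 2, 0, 5, 4, 3, 2, 1, 3, 4, 5, 6, 7], [3, 2, 0, 7, 6, 5, 4, 3, 2, 1, 3, 4, 5, 6, 7], [4, 3, 2, 0, 6, 5, 4, 3, 2, 1, 3, 4, 5, 6, 7], [1, 3, 2, 0, 6, 5, 4, 3, 2, 1, 3, 4, 5, 6, 7], [1, 4, 3, 2, 0, 5, 4, 3, 2, 1, 3, 4, 5, 6, 7], [4, 3, 2, 0, 7, 6, 5, 4, 3, 2, 1, 3, 4, 5, 6, 7], [1, 3, 2, 0, 7, 6, 5, 4, 3, 2, 1, 3, 4, 5, 6, 7], [5, 4, 3, 2, 0, 6, 5, 4, 3, 2, 1, 3, 4, 5, 6, 7], [1, 4, 3, 2, 0, 6, 5, 4, 3, 2, 1, 3, 4, 5, 6, 7], [3, 1, 4, 3, 2, 0, 5, 4, 3, 2, 1, 3, 4, 5, 6, 7], [5, 4, 3, 2, 0, 7, 6, 5, 4, 3, 2, 1, 3, 4, 5, 6, 7], [1, 4, 3, 2,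 0, 7, 6, 5, 4, 3, 2, 1, 3, 4, 5, 6, 7], [1, 5, 4, 3, 2, 0, 6, 5, 4, 3, 2, 1, 3, 4, 5, 6, 7], [3, 1, 4, 3, 2, 0, 6, 5, 4, 3, 2, 1, 3, 4, 5, 6, 7], [2, 3, 1, 4, 3, 2, 0, 5, 4, 3, 2, 1, 3, 4, 5, 6, 7], [6, 5, 4, 3, 2, 0, 7, 6, 5, 4, 3, 2, 1, 3, 4, 5, 6, 7], [1, 5, 4, 3, 2, 0, 7, 6, 5, 4, 3, 2, 1, 3, 4, 5, 6, 7], [3, 1, 4, 3, 2, 0, 7, 6, 5, 4, 3, 2, 1, 3, 4, 5, 6, 7], [3, 1, 5, 4, 3, 2, 0, 6, 5, 4, 3, 2, 1, 3, 4, 5, 6, 7], [2, 3, 1, 4, 3, 2, 0, 6, 5, 4, 3, 2, 1, 3, 4, 5, 6, 7], [0, 2, 3, 1, 4, 3, 2, 0, 5, 4, 3, 2, 1, 3, 4, 5, 6, 7], [1, 6, 5, 4, 3, 2, 0, 7, 6, 5, 4, 3, 2, 1, 3, 4, 5, 6, 7], [3, 1, 5, 4, 3, 2, 0, 7, 6, 5, 4, 3, 2, 1, 3, 4, 5, 6, 7], [2, 3, 1, 4, 3, 2, 0, 7, 6, 5, 4, 3, 2, 1, 3, 4, 5, 6, 7], [4, 3, 1, 5, 4, 3, 2, 0, 6, 5,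 4, 3, 2, 1, 3, 4, 5, 6, 7], [2, 3, 1, 5, 4, 3, 2, 0, 6, 5, 4, 3, 2, 1, 3, 4, 5, 6, 7], [0, 2, 3, 1, 4, 3, 2, 0, 6, 5, 4, 3, 2, 1, 3, 4, 5, 6, 7], [3, 1, 6, 5, 4, 3, 2, 0, 7, 6, 5, 4, 3, 2, 1, 3, 4, 5, 6, 7], [4, 3, 1, 5, 4, 3, 2, 0, 7, 6, 5, 4, 3, 2, 1, 3, 4, 5, 6, 7], [2, 3, 1, 5, 4, 3, 2, 0, 7, 6, 5, 4, 3, 2, 1, 3, 4, 5, 6, 7], [0, 2, 3, 1, 4, 3, 2, 0, 7, 6, 5, 4, 3, 2, 1, 3, 4, 5, 6, 7], [2, 4, 3, 1, 5, 4, 3, 2, 0, 6, 5, 4, 3, 2, 1, 3, 4, 5, 6, 7], [0, 2, 3, 1, 5, 4, 3, 2, 0, 6, 5, 4, 3, 2, 1, 3, 4, 5, 6, 7], [4, 3, 1, 6, 5, 4, 3, 2, 0, 7, 6, 5, 4, 3, 2, 1, 3, 4, 5, 6, 7], [2, 3, 1, 6, 5, 4, 3, 2, 0, 7, 6, 5, 4, 3, 2, 1, 3, 4, 5, 6, 7], [2, 4, 3, 1, 5, 4, 3, 2, 0, 7, 6, 5, 4, 3, 2, 1, 3, 4, 5, 6, 7], [0, 2, 3, 1, 5, 4, 3, 2, 0, 7,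 6, 5, 4, 3, 2, 1, 3, 4, 5, 6, 7], [3, 2, 4, 3, 1, 5, 4, 3, 2, 0, 6, 5, 4, 3, 2, 1, 3, 4, 5, 6, 7], [0, 2, 4, 3, 1, 5, 4, 3, 2, 0, 6, 5, 4, 3, 2, 1, 3, 4, 5, 6, 7], [5, 4, 3, 1, 6, 5, 4, 3, 2, 0, 7, 6, 5, 4, 3, 2, 1, 3, 4, 5, 6, 7], [2, 4, 3, 1, 6, 5, 4, 3, 2, 0, 7, 6, 5, 4, 3, 2, 1, 3, 4, 5, 6, 7], [0, 2, 3, 1, 6, 5, 4, 3, 2, 0, 7, 6, 5, 4, 3, 2, 1, 3, 4, 5, 6, 7], [3, 2, 4, 3, 1, 5, 4, 3, 2, 0, 7, 6, 5, 4, 3, 2, 1, 3, 4, 5, 6, 7], [0, 2, 4, 3, 1, 5, 4, 3, 2, 0, 7, 6, 5, 4, 3, 2, 1, 3, 4, 5, 6, 7], [1, 3, 2, 4, 3, 1, 5, 4, 3, 2, 0, 6, 5, 4, 3, 2, 1, 3, 4, 5, 6, 7], [0, 3, 2, 4, 3, 1, 5, 4, 3, 2, 0, 6, 5, 4, 3, 2, 1, 3, 4, 5, 6, 7], [2, 5, 4, 3, 1, 6, 5, 4, 3, 2, 0, 7, 6, 5, 4, 3, 2, 1, 3, 4, 5, 6, 7], [3, 2, 4, 3, 1, 6, 5, 4, 3, 2, 0,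 7, 6, 5, 4, 3, 2, 1, 3, 4, 5, 6, 7], [0, 2, 4, 3, 1, 6, 5, 4, 3, 2, 0, 7, 6, 5, 4, 3, 2, 1, 3, 4, 5, 6, 7], [1, 3, 2, 4, 3, 1, 5, 4, 3, 2, 0, 7, 6, 5, 4, 3, 2, 1, 3, 4, 5, 6, 7], [0, 3, 2, 4, 3, 1, 5, 4, 3, 2, 0, 7, 6, 5, 4, 3, 2, 1, 3, 4, 5, 6, 7], [0, 1, 3, 2, 4, 3, 1, 5, 4, 3, 2, 0, 6, 5, 4, 3, 2, 1, 3, 4, 5, 6, 7], [2, 0, 3, 2, 4, 3, 1, 5, 4, 3, 2, 0, 6, 5, 4, 3, 2, 1, 3, 4, 5, 6, 7], [3, 2, 5, 4, 3, 1, 6, 5, 4, 3, 2, 0, 7, 6, 5, 4, 3, 2, 1, 3, 4, 5, 6, 7], [0, 2, 5, 4, 3, 1, 6, 5, 4, 3, 2, 0, 7, 6, 5, 4, 3, 2, 1, 3, 4, 5, 6, 7], [1, 3, 2, 4, 3, 1, 6, 5, 4, 3, 2, 0, 7, 6, 5, 4, 3, 2, 1, 3, 4, 5, 6, 7], [0, 3, 2, 4, 3, 1, 6, 5, 4, 3, 2, 0, 7, 6, 5, 4, 3, 2, 1, 3, 4, 5, 6, 7], [0, 1, 3, 2, 4, 3, 1, 5, 4, 3, 2, 0, 7, 6, 5, 4, 3, 2,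 1, 3, 4, 5, 6, 7], [2, 0, 3, 2, 4, 3, 1, 5, 4, 3, 2, 0, 7, 6, 5, 4, 3, 2, 1, 3, 4, 5, 6, 7], [2, 0, 1, 3, 2, 4, 3, 1, 5, 4, 3, 2, 0, 6, 5, 4, 3, 2, 1, 3, 4, 5, 6, 7], [4, 3, 2, 5, 4, 3, 1, 6, 5, 4, 3, 2, 0, 7, 6, 5, 4, 3, 2, 1, 3, 4, 5, 6, 7], [1, 3, 2, 5, 4, 3, 1, 6, 5, 4, 3, 2, 0, 7, 6, 5, 4, 3, 2, 1, 3, 4, 5, 6, 7], [0, 3, 2, 5, 4, 3, 1, 6, 5, 4, 3, 2, 0, 7, 6, 5, 4, 3, 2, 1, 3, 4, 5, 6, 7], [0, 1, 3, 2, 4, 3, 1, 6, 5, 4, 3, 2, 0, 7, 6, 5, 4, 3, 2, 1, 3, 4, 5, 6, 7], [2, 0, 3, 2, 4, 3, 1, 6, 5, 4, 3, 2, 0, 7, 6, 5, 4, 3, 2, 1, 3, 4, 5, 6, 7], [2, 0, 1, 3, 2, 4, 3, 1, 5, 4, 3, 2, 0, 7, 6, 5, 4, 3, 2, 1, 3, 4, 5, 6, 7], [3, 2, 0, 1, 3, 2, 4, 3, 1, 5, 4, 3, 2, 0, 6, 5, 4, 3, 2, 1, 3, 4, 5, 6, 7], [1, 4, 3, 2, 5, 4, 3, 1, 6, 5, 4, 3,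 2, 0, 7, 6, 5, 4, 3, 2, 1, 3, 4, 5, 6, 7], [0, 4, 3, 2, 5, 4, 3, 1, 6, 5, 4, 3, 2, 0, 7, 6, 5, 4, 3, 2, 1, 3, 4, 5, 6, 7], [0, 1, 3, 2, 5, 4, 3, 1, 6, 5, 4, 3, 2, 0, 7, 6, 5, 4, 3, 2, 1, 3, 4, 5, 6, 7], [2, 0, 3, 2, 5, 4, 3, 1, 6, 5, 4, 3, 2, 0, 7, 6, 5, 4, 3, 2, 1, 3, 4, 5, 6, 7], [2, 0, 1, 3, 2, 4, 3, 1, 6, 5, 4, 3, 2, 0, 7, 6, 5, 4, 3, 2, 1, 3, 4, 5, 6, 7], [3, 2, 0, 1, 3, 2, 4, 3, 1, 5, 4, 3, 2, 0, 7, 6, 5, 4, 3, 2, 1, 3, 4, 5, 6, 7], [4, 3, 2, 0, 1, 3, 2, 4, 3, 1, 5, 4, 3, 2, 0, 6, 5, 4, 3, 2, 1, 3, 4, 5, 6, 7], [3, 1, 4, 3, 2, 5, 4, 3, 1, 6, 5, 4, 3, 2, 0, 7, 6, 5, 4, 3, 2, 1, 3, 4, 5, 6, 7], [0, 1, 4, 3, 2, 5, 4, 3, 1, 6, 5, 4, 3, 2, 0, 7, 6, 5, 4, 3, 2, 1, 3, 4, 5, 6, 7], [2, 0, 4, 3, 2, 5, 4, 3, 1, 6, 5, 4, 3, 2, 0, 7, 6, 5,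 4, 3, 2, 1, 3, 4, 5, 6, 7], [2, 0, 1, 3, 2, 5, 4, 3, 1, 6, 5, 4, 3, 2, 0, 7, 6, 5, 4, 3, 2, 1, 3, 4, 5, 6, 7], [3, 2, 0, 1, 3, 2, 4, 3, 1, 6, 5, 4, 3, 2, 0, 7, 6, 5, 4, 3, 2, 1, 3, 4, 5, 6, 7], [4, 3, 2, 0, 1, 3, 2, 4, 3, 1, 5, 4, 3, 2, 0, 7, 6, 5, 4, 3, 2, 1, 3, 4, 5, 6, 7], [5, 4, 3, 2, 0, 1, 3, 2, 4, 3, 1, 5, 4, 3, 2, 0, 6, 5, 4, 3, 2, 1, 3, 4, 5, 6, 7], [2, 3, 1, 4, 3, 2, 5, 4, 3, 1, 6, 5, 4, 3, 2, 0, 7, 6, 5, 4, 3, 2, 1, 3, 4, 5, 6, 7], [0, 3, 1, 4, 3, 2, 5, 4, 3, 1, 6, 5, 4, 3, 2, 0, 7, 6, 5, 4, 3, 2, 1, 3, 4, 5, 6, 7], [2, 0, 1, 4, 3, 2, 5, 4, 3, 1, 6, 5, 4, 3, 2, 0, 7, 6, 5, 4, 3, 2, 1, 3, 4, 5, 6, 7], [3, 2, 0, 4, 3, 2, 5, 4, 3, 1, 6, 5, 4, 3, 2, 0, 7, 6, 5, 4, 3, 2, 1, 3, 4, 5, 6, 7], [3, 2, 0, 1, 3, 2, 5, 4, 3, 1, 6, 5, 4,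 3, 2, 0, 7, 6, 5, 4, 3, 2, 1, 3, 4, 5, 6, 7], [4, 3, 2, 0, 1, 3, 2, 4, 3, 1, 6, 5, 4, 3, 2, 0, 7, 6, 5, 4, 3, 2, 1, 3, 4, 5, 6, 7], [5, 4, 3, 2, 0, 1, 3, 2, 4, 3, 1, 5, 4, 3, 2, 0, 7, 6, 5, 4, 3, 2, 1, 3, 4, 5, 6, 7], [6, 5, 4, 3, 2, 0, 1, 3, 2, 4, 3, 1, 5, 4, 3, 2, 0, 6, 5, 4, 3, 2, 1, 3, 4, 5, 6, 7], [0, 2, 3, 1, 4, 3, 2, 5, 4, 3, 1, 6, 5, 4, 3, 2, 0, 7, 6, 5, 4, 3, 2, 1, 3, 4, 5, 6, 7], [2, 0, 3, 1, 4, 3, 2, 5, 4, 3, 1, 6, 5, 4, 3, 2, 0, 7, 6, 5, 4, 3, 2, 1, 3, 4, 5, 6, 7], [3, 2, 0, 1, 4, 3, 2, 5, 4, 3, 1, 6, 5, 4, 3, 2, 0, 7, 6, 5, 4, 3, 2, 1, 3, 4, 5, 6, 7], [1, 3, 2, 0, 4, 3, 2, 5, 4, 3, 1, 6, 5, 4, 3, 2, 0, 7, 6, 5, 4, 3, 2, 1, 3, 4, 5, 6, 7], [4, 3, 2, 0, 1, 3, 2, 5, 4, 3, 1, 6, 5, 4, 3, 2, 0, 7, 6, 5, 4, 3, 2, 1, 3, 4, 5, 6,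 7], [5, 4, 3, 2, 0, 1, 3, 2, 4, 3, 1, 6, 5, 4, 3, 2, 0, 7, 6, 5, 4, 3, 2, 1, 3, 4, 5, 6, 7], [6, 5, 4, 3, 2, 0, 1, 3, 2, 4, 3, 1, 5, 4, 3, 2, 0, 7, 6, 5, 4, 3, 2, 1, 3, 4, 5, 6, 7], [7, 6, 5, 4, 3, 2, 0, 1, 3, 2, 4, 3, 1, 5, 4, 3, 2, 0, 6, 5, 4, 3, 2, 1, 3, 4, 5, 6, 7], [2, 0, 2, 3, 1, 4, 3, 2, 5, 4, 3, 1, 6, 5, 4, 3, 2, 0, 7, 6, 5, 4, 3, 2, 1, 3, 4, 5, 6, 7], [3, 2, 0, 3, 1, 4, 3, 2, 5, 4, 3, 1, 6, 5, 4, 3, 2, 0, 7, 6, 5, 4, 3, 2, 1, 3, 4, 5, 6, 7], [4, 3, 2, 0, 1, 4, 3, 2, 5, 4, 3, 1, 6, 5, 4, 3, 2, 0, 7, 6, 5, 4, 3, 2, 1, 3, 4, 5, 6, 7], [1, 3, 2, 0, 1, 4, 3, 2, 5, 4, 3, 1, 6, 5, 4, 3, 2, 0, 7, 6, 5, 4, 3, 2, 1, 3, 4, 5, 6, 7], [5, 4, 3, 2, 0, 1, 3, 2, 5, 4, 3, 1, 6, 5, 4, 3, 2, 0, 7, 6, 5, 4, 3, 2, 1, 3, 4, 5, 6, 7], [6, 5, 4, 3,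 2, 0, 1, 3, 2, 4, 3, 1, 6, 5, 4, 3, 2, 0, 7, 6, 5, 4, 3, 2, 1, 3, 4, 5, 6, 7], [7, 6, 5, 4, 3, 2, 0, 1, 3, 2, 4, 3, 1, 5, 4, 3, 2, 0, 7, 6, 5, 4, 3, 2, 1, 3, 4, 5, 6, 7], [3, 2, 0, 2, 3, 1, 4, 3, 2, 5, 4, 3, 1, 6, 5, 4, 3, 2, 0, 7, 6, 5, 4, 3, 2, 1, 3, 4, 5, 6, 7], [4, 3, 2, 0, 3, 1, 4, 3, 2, 5, 4, 3, 1, 6, 5, 4, 3, 2, 0, 7, 6, 5, 4, 3, 2, 1, 3, 4, 5, 6, 7], [1, 3, 2, 0, 3, 1, 4, 3, 2, 5, 4, 3, 1, 6, 5, 4, 3, 2, 0, 7, 6, 5, 4, 3, 2, 1, 3, 4, 5, 6, 7], [5, 4, 3, 2, 0, 1, 4, 3, 2, 5, 4, 3, 1, 6, 5, 4, 3, 2, 0, 7, 6, 5, 4, 3, 2, 1, 3, 4, 5, 6, 7], [1, 4, 3, 2, 0, 1, 4, 3, 2, 5, 4, 3, 1, 6, 5, 4, 3, 2, 0, 7, 6, 5, 4, 3, 2, 1, 3, 4, 5, 6, 7], [6, 5, 4, 3, 2, 0, 1, 3, 2, 5, 4, 3, 1, 6, 5, 4, 3, 2, 0, 7, 6, 5, 4, 3, 2, 1, 3, 4, 5, 6, 7], [7,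 6, 5, 4, 3, 2, 0, 1, 3, 2, 4, 3, 1, 6, 5, 4, 3, 2, 0, 7, 6, 5, 4, 3, 2, 1, 3, 4, 5, 6, 7], [4, 3, 2, 0, 2, 3, 1, 4, 3, 2, 5, 4, 3, 1, 6, 5, 4, 3, 2, 0, 7, 6, 5, 4, 3, 2, 1, 3, 4, 5, 6, 7], [1, 3, 2, 0, 2, 3, 1, 4, 3, 2, 5, 4, 3, 1, 6, 5, 4, 3, 2, 0, 7, 6, 5, 4, 3, 2, 1, 3, 4, 5, 6, 7], [5, 4, 3, 2, 0, 3, 1, 4, 3, 2, 5, 4, 3, 1, 6, 5, 4, 3, 2, 0, 7, 6, 5, 4, 3, 2, 1, 3, 4, 5, 6, 7], [1, 4, 3, 2, 0, 3, 1, 4, 3, 2, 5, 4, 3, 1, 6, 5, 4, 3, 2, 0, 7, 6, 5, 4, 3, 2, 1, 3, 4, 5, 6, 7], [6, 5, 4, 3, 2, 0, 1, 4, 3, 2, 5, 4, 3, 1, 6, 5, 4, 3, 2, 0, 7, 6, 5, 4, 3, 2, 1, 3, 4, 5, 6, 7], [1, 5, 4, 3, 2, 0, 1, 4, 3, 2, 5, 4, 3, 1, 6, 5, 4, 3, 2, 0, 7, 6, 5, 4, 3, 2, 1, 3, 4, 5, 6, 7], [7, 6, 5, 4, 3, 2, 0, 1, 3, 2, 5, 4, 3, 1, 6, 5, 4, 3, 2, 0, 7,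 6, 5, 4, 3, 2, 1, 3, 4, 5, 6, 7], [5, 4, 3, 2, 0, 2, 3, 1, 4, 3, 2, 5, 4, 3, 1, 6, 5, 4, 3, 2, 0, 7, 6, 5, 4, 3, 2, 1, 3, 4, 5, 6, 7], [1, 4, 3, 2, 0, 2, 3, 1, 4, 3, 2, 5, 4, 3, 1, 6, 5, 4, 3, 2, 0, 7, 6, 5, 4, 3, 2, 1, 3, 4, 5, 6, 7], [6, 5, 4, 3, 2, 0, 3, 1, 4, 3, 2, 5, 4, 3, 1, 6, 5, 4, 3, 2, 0, 7, 6, 5, 4, 3, 2, 1, 3, 4, 5, 6, 7], [1, 5, 4, 3, 2, 0, 3, 1, 4, 3, 2, 5, 4, 3, 1, 6, 5, 4, 3, 2, 0, 7, 6, 5, 4, 3, 2, 1, 3, 4, 5, 6, 7], [3, 1, 4, 3, 2, 0, 3, 1, 4, 3, 2, 5, 4, 3, 1, 6, 5, 4, 3, 2, 0, 7, 6, 5, 4, 3, 2, 1, 3, 4, 5, 6, 7], [7, 6, 5, 4, 3, 2, 0, 1, 4, 3, 2, 5, 4, 3, 1, 6, 5, 4, 3, 2, 0, 7, 6, 5, 4, 3, 2, 1, 3, 4, 5, 6, 7], [1, 6, 5, 4, 3, 2, 0, 1, 4, 3, 2, 5, 4, 3, 1, 6, 5, 4, 3, 2, 0, 7, 6, 5, 4, 3, 2, 1, 3, 4, 5, 6, 7], [6,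 5, 4, 3, 2, 0, 2, 3, 1, 4, 3, 2, 5, 4, 3, 1, 6, 5, 4, 3, 2, 0, 7, 6, 5, 4, 3, 2, 1, 3, 4, 5, 6, 7], [1, 5, 4, 3, 2, 0, 2, 3, 1, 4, 3, 2, 5, 4, 3, 1, 6, 5, 4, 3, 2, 0, 7, 6, 5, 4, 3, 2, 1, 3, 4, 5, 6, 7], [3, 1, 4, 3, 2, 0, 2, 3, 1, 4, 3, 2, 5, 4, 3, 1, 6, 5, 4, 3, 2, 0, 7, 6, 5, 4, 3, 2, 1, 3, 4, 5, 6, 7], [7, 6, 5, 4, 3, 2, 0, 3, 1, 4, 3, 2, 5, 4, 3, 1, 6, 5, 4, 3, 2, 0, 7, 6, 5, 4, 3, 2, 1, 3, 4, 5, 6, 7], [1, 6, 5, 4, 3, 2, 0, 3, 1, 4, 3, 2, 5, 4, 3, 1, 6, 5, 4, 3, 2, 0, 7, 6, 5, 4, 3, 2, 1, 3, 4, 5, 6, 7], [3, 1, 5, 4, 3, 2, 0, 3, 1, 4, 3, 2, 5, 4, 3, 1, 6, 5, 4, 3, 2, 0, 7, 6, 5, 4, 3, 2, 1, 3, 4, 5, 6, 7], [1, 7, 6, 5, 4, 3, 2, 0, 1, 4, 3, 2, 5, 4, 3, 1, 6, 5, 4, 3, 2, 0, 7, 6, 5, 4, 3, 2, 1, 3, 4, 5, 6, 7], [7, 6, 5, 4, 3, 2,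 0, 2, 3, 1, 4, 3, 2, 5, 4, 3, 1, 6, 5, 4, 3, 2, 0, 7, 6, 5, 4, 3, 2, 1, 3, 4, 5, 6, 7], [1, 6, 5, 4, 3, 2, 0, 2, 3, 1, 4, 3, 2, 5, 4, 3, 1, 6, 5, 4, 3, 2, 0, 7, 6, 5, 4, 3, 2, 1, 3, 4, 5, 6, 7], [3, 1, 5, 4, 3, 2, 0, 2, 3, 1, 4, 3, 2, 5, 4, 3, 1, 6, 5, 4, 3, 2, 0, 7, 6, 5, 4, 3, 2, 1, 3, 4, 5, 6, 7], [2, 3, 1, 4, 3, 2, 0, 2, 3, 1, 4, 3, 2, 5, 4, 3, 1, 6, 5, 4, 3, 2, 0, 7, 6, 5, 4, 3, 2, 1, 3, 4, 5, 6, 7], [1, 7, 6, 5, 4, 3, 2, 0, 3, 1, 4, 3, 2, 5, 4, 3, 1, 6, 5, 4, 3, 2, 0, 7, 6, 5, 4, 3, 2, 1, 3, 4, 5, 6, 7], [3, 1, 6, 5, 4, 3, 2, 0, 3, 1, 4, 3, 2, 5, 4, 3, 1, 6, 5, 4, 3, 2, 0, 7, 6, 5, 4, 3, 2, 1, 3, 4, 5, 6, 7], [4, 3, 1, 5, 4, 3, 2, 0, 3, 1, 4, 3, 2, 5, 4, 3, 1, 6, 5, 4, 3, 2, 0, 7, 6, 5, 4, 3, 2, 1, 3, 4, 5, 6, 7], [1, 7, 6, 5,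 4, 3, 2, 0, 2, 3, 1, 4, 3, 2, 5, 4, 3, 1, 6, 5, 4, 3, 2, 0, 7, 6, 5, 4, 3, 2, 1, 3, 4, 5, 6, 7], [3, 1, 6, 5, 4, 3, 2, 0, 2, 3, 1, 4, 3, 2, 5, 4, 3, 1, 6, 5, 4, 3, 2, 0, 7, 6, 5, 4, 3, 2, 1, 3, 4, 5, 6, 7], [4, 3, 1, 5, 4, 3, 2, 0, 2, 3, 1, 4, 3, 2, 5, 4, 3, 1, 6, 5, 4, 3, 2, 0, 7, 6, 5, 4, 3, 2, 1, 3, 4, 5, 6, 7], [2, 3, 1, 5, 4, 3, 2, 0, 2, 3, 1, 4, 3, 2, 5, 4, 3, 1, 6, 5, 4, 3, 2, 0, 7, 6, 5, 4, 3, 2, 1, 3, 4, 5, 6, 7], [3, 1, 7, 6, 5, 4, 3, 2, 0, 3, 1, 4, 3, 2, 5, 4, 3, 1, 6, 5, 4, 3, 2, 0, 7, 6, 5, 4, 3, 2, 1, 3, 4, 5, 6, 7], [4, 3, 1, 6, 5, 4, 3, 2, 0, 3, 1, 4, 3, 2, 5, 4, 3, 1, 6, 5, 4, 3, 2, 0, 7, 6, 5, 4, 3, 2, 1, 3, 4, 5, 6, 7], [3, 1, 7, 6, 5, 4, 3, 2, 0, 2, 3, 1, 4, 3, 2, 5, 4, 3, 1, 6, 5, 4, 3, 2, 0, 7, 6, 5, 4, 3, 2, 1,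 3, 4, 5, 6, 7], [4, 3, 1, 6, 5, 4, 3, 2, 0, 2, 3, 1, 4, 3, 2, 5, 4, 3, 1, 6, 5, 4, 3, 2, 0, 7, 6, 5, 4, 3, 2, 1, 3, 4, 5, 6, 7], [2, 3, 1, 6, 5, 4, 3, 2, 0, 2, 3, 1, 4, 3, 2, 5, 4, 3, 1, 6, 5, 4, 3, 2, 0, 7, 6, 5, 4, 3, 2, 1, 3, 4, 5, 6, 7], [2, 4, 3, 1, 5, 4, 3, 2, 0, 2, 3, 1, 4, 3, 2, 5, 4, 3, 1, 6, 5, 4, 3, 2, 0, 7, 6, 5, 4, 3, 2, 1, 3, 4, 5, 6, 7], [4, 3, 1, 7, 6, 5, 4, 3, 2, 0, 3, 1, 4, 3, 2, 5, 4, 3, 1, 6, 5, 4, 3, 2, 0, 7, 6, 5, 4, 3, 2, 1, 3, 4, 5, 6, 7], [5, 4, 3, 1, 6, 5, 4, 3, 2, 0, 3, 1, 4, 3, 2, 5, 4, 3, 1, 6, 5, 4, 3, 2, 0, 7, 6, 5, 4, 3, 2, 1, 3, 4, 5, 6, 7], [4, 3, 1, 7, 6, 5, 4, 3, 2, 0, 2, 3, 1, 4, 3, 2, 5, 4, 3, 1, 6, 5, 4, 3, 2, 0, 7, 6, 5, 4, 3, 2, 1, 3, 4, 5, 6, 7], [2, 3, 1, 7, 6, 5, 4, 3, 2, 0, 2, 3, 1, 4, 3,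 2, 5, 4, 3, 1, 6, 5, 4, 3, 2, 0, 7, 6, 5, 4, 3, 2, 1, 3, 4, 5, 6, 7], [5, 4, 3, 1, 6, 5, 4, 3, 2, 0, 2, 3, 1, 4, 3, 2, 5, 4, 3, 1, 6, 5, 4, 3, 2, 0, 7, 6, 5, 4, 3, 2, 1, 3, 4, 5, 6, 7], [2, 4, 3, 1, 6, 5, 4, 3, 2, 0, 2, 3, 1, 4, 3, 2, 5, 4, 3, 1, 6, 5, 4, 3, 2, 0, 7, 6, 5, 4, 3, 2, 1, 3, 4, 5, 6, 7], [3, 2, 4, 3, 1, 5, 4, 3, 2, 0, 2, 3, 1, 4, 3, 2, 5, 4, 3, 1, 6, 5, 4, 3, 2, 0, 7, 6, 5, 4, 3, 2, 1, 3, 4, 5, 6, 7], [5, 4, 3, 1, 7, 6, 5, 4, 3, 2, 0, 3, 1, 4, 3, 2, 5, 4, 3, 1, 6, 5, 4, 3, 2, 0, 7, 6, 5, 4, 3, 2, 1, 3, 4, 5, 6, 7], [5, 4, 3, 1, 7, 6, 5, 4, 3, 2, 0, 2, 3, 1, 4, 3, 2, 5, 4, 3, 1, 6, 5, 4, 3, 2, 0, 7, 6, 5, 4, 3, 2, 1, 3, 4, 5, 6, 7], [2, 4, 3, 1, 7, 6, 5, 4, 3, 2, 0, 2, 3, 1, 4, 3, 2, 5, 4, 3, 1, 6, 5, 4, 3, 2, 0, 7, 6, 5,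 4, 3, 2, 1, 3, 4, 5, 6, 7], [2, 5, 4, 3, 1, 6, 5, 4, 3, 2, 0, 2, 3, 1, 4, 3, 2, 5, 4, 3, 1, 6, 5, 4, 3, 2, 0, 7, 6, 5, 4, 3, 2, 1, 3, 4, 5, 6, 7], [3, 2, 4, 3, 1, 6, 5, 4, 3, 2, 0, 2, 3, 1, 4, 3, 2, 5, 4, 3, 1, 6, 5, 4, 3, 2, 0, 7, 6, 5, 4, 3, 2, 1, 3, 4, 5, 6, 7], [1, 3, 2, 4, 3, 1, 5, 4, 3, 2, 0, 2, 3, 1, 4, 3, 2, 5, 4, 3, 1, 6, 5, 4, 3, 2, 0, 7, 6, 5, 4, 3, 2, 1, 3, 4, 5, 6, 7], [6, 5, 4, 3, 1, 7, 6, 5, 4, 3, 2, 0, 3, 1, 4, 3, 2, 5, 4, 3, 1, 6, 5, 4, 3, 2, 0, 7, 6, 5, 4, 3, 2, 1, 3, 4, 5, 6, 7], [6, 5, 4, 3, 1, 7, 6, 5, 4, 3, 2, 0, 2, 3, 1, 4, 3, 2, 5, 4, 3, 1, 6, 5, 4, 3, 2, 0, 7, 6, 5, 4, 3, 2, 1, 3, 4, 5, 6, 7], [2, 5, 4, 3, 1, 7, 6, 5, 4, 3, 2, 0, 2, 3, 1, 4, 3, 2, 5, 4, 3, 1, 6, 5, 4, 3, 2, 0, 7, 6, 5, 4, 3, 2, 1, 3, 4, 5, 6,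 7], [3, 2, 4, 3, 1, 7, 6, 5, 4, 3, 2, 0, 2, 3, 1, 4, 3, 2, 5, 4, 3, 1, 6, 5, 4, 3, 2, 0, 7, 6, 5, 4, 3, 2, 1, 3, 4, 5, 6, 7], [3, 2, 5, 4, 3, 1, 6, 5, 4, 3, 2, 0, 2, 3, 1, 4, 3, 2, 5, 4, 3, 1, 6, 5, 4, 3, 2, 0, 7, 6, 5, 4, 3, 2, 1, 3, 4, 5, 6, 7], [1, 3, 2, 4, 3, 1, 6, 5, 4, 3, 2, 0, 2, 3, 1, 4, 3, 2, 5, 4, 3, 1, 6, 5, 4, 3, 2, 0, 7, 6, 5, 4, 3, 2, 1, 3, 4, 5, 6, 7], [2, 6, 5, 4, 3, 1, 7, 6, 5, 4, 3, 2, 0, 2, 3, 1, 4, 3, 2, 5, 4, 3, 1, 6, 5, 4, 3, 2, 0, 7, 6, 5, 4, 3, 2, 1, 3, 4, 5, 6, 7], [3, 2, 5, 4, 3, 1, 7, 6, 5, 4, 3, 2, 0, 2, 3, 1, 4, 3, 2, 5, 4, 3, 1, 6, 5, 4, 3, 2, 0, 7, 6, 5, 4, 3, 2, 1, 3, 4, 5, 6, 7], [1, 3, 2, 4, 3, 1, 7, 6, 5, 4, 3, 2, 0, 2, 3, 1, 4, 3, 2, 5, 4, 3, 1, 6, 5, 4, 3, 2, 0, 7, 6, 5, 4, 3, 2, 1, 3, 4, 5, 6, 7],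 [4, 3, 2, 5, 4, 3, 1, 6, 5, 4, 3, 2, 0, 2, 3, 1, 4, 3, 2, 5, 4, 3, 1, 6, 5, 4, 3, 2, 0, 7, 6, 5, 4, 3, 2, 1, 3, 4, 5, 6, 7], [1, 3, 2, 5, 4, 3, 1, 6, 5, 4, 3, 2, 0, 2, 3, 1, 4, 3, 2, 5, 4, 3, 1, 6, 5, 4, 3, 2, 0, 7, 6, 5, 4, 3, 2, 1, 3, 4, 5, 6, 7], [3, 2, 6, 5, 4, 3, 1, 7, 6, 5, 4, 3, 2, 0, 2, 3, 1, 4, 3, 2, 5, 4, 3, 1, 6, 5, 4, 3, 2, 0, 7, 6, 5, 4, 3, 2, 1, 3, 4, 5, 6, 7], [4, 3, 2, 5, 4, 3, 1, 7, 6, 5, 4, 3, 2, 0, 2, 3, 1, 4, 3, 2, 5, 4, 3, 1, 6, 5, 4, 3, 2, 0, 7, 6, 5, 4, 3, 2, 1, 3, 4, 5, 6, 7], [1, 3, 2, 5, 4, 3, 1, 7, 6, 5, 4, 3, 2, 0, 2, 3, 1, 4, 3, 2, 5, 4, 3, 1, 6, 5, 4, 3, 2, 0, 7, 6, 5, 4, 3, 2, 1, 3, 4, 5, 6, 7], [1, 4, 3, 2, 5, 4, 3, 1, 6, 5, 4, 3, 2, 0, 2, 3, 1, 4, 3, 2, 5, 4, 3, 1, 6, 5, 4, 3, 2, 0, 7, 6, 5, 4, 3, 2,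 1, 3, 4, 5, 6, 7], [4, 3, 2, 6, 5, 4, 3, 1, 7, 6, 5, 4, 3, 2, 0, 2, 3, 1, 4, 3, 2, 5, 4, 3, 1, 6, 5, 4, 3, 2, 0, 7, 6, 5, 4, 3, 2, 1, 3, 4, 5, 6, 7], [1, 3, 2, 6, 5, 4, 3, 1, 7, 6, 5, 4, 3, 2, 0, 2, 3, 1, 4, 3, 2, 5, 4, 3, 1, 6, 5, 4, 3, 2, 0, 7, 6, 5, 4, 3, 2, 1, 3, 4, 5, 6, 7], [1, 4, 3, 2, 5, 4, 3, 1, 7, 6, 5, 4, 3, 2, 0, 2, 3, 1, 4, 3, 2, 5, 4, 3, 1, 6, 5, 4, 3, 2, 0, 7, 6, 5, 4, 3, 2, 1, 3, 4, 5, 6, 7], [3, 1, 4, 3, 2, 5, 4, 3, 1, 6, 5, 4, 3, 2, 0, 2, 3, 1, 4, 3, 2, 5, 4, 3, 1, 6, 5, 4, 3, 2, 0, 7, 6, 5, 4, 3, 2, 1, 3, 4, 5, 6, 7], [5, 4, 3, 2, 6, 5, 4, 3, 1, 7, 6, 5, 4, 3, 2, 0, 2, 3, 1, 4, 3, 2, 5, 4, 3, 1, 6, 5, 4, 3, 2, 0, 7, 6, 5, 4, 3, 2, 1, 3, 4, 5, 6, 7], [1, 4, 3, 2, 6, 5, 4, 3, 1, 7, 6, 5, 4, 3, 2, 0, 2, 3, 1, 4, 3, 2,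 5, 4, 3, 1, 6, 5, 4, 3, 2, 0, 7, 6, 5, 4, 3, 2, 1, 3, 4, 5, 6, 7], [3, 1, 4, 3, 2, 5, 4, 3, 1, 7, 6, 5, 4, 3, 2, 0, 2, 3, 1, 4, 3, 2, 5, 4, 3, 1, 6, 5, 4, 3, 2, 0, 7, 6, 5, 4, 3, 2, 1, 3, 4, 5, 6, 7], [2, 3, 1, 4, 3, 2, 5, 4, 3, 1, 6, 5, 4, 3, 2, 0, 2, 3, 1, 4, 3, 2, 5, 4, 3, 1, 6, 5, 4, 3, 2, 0, 7, 6, 5, 4, 3, 2, 1, 3, 4, 5, 6, 7], [1, 5, 4, 3, 2, 6, 5, 4, 3, 1, 7, 6, 5, 4, 3, 2, 0, 2, 3, 1, 4, 3, 2, 5, 4, 3, 1, 6, 5, 4, 3, 2, 0, 7, 6, 5, 4, 3, 2, 1, 3, 4, 5, 6, 7], [3, 1, 4, 3, 2, 6, 5, 4, 3, 1, 7, 6, 5, 4, 3, 2, 0, 2, 3, 1, 4, 3, 2, 5, 4, 3, 1, 6, 5, 4, 3, 2, 0, 7, 6, 5, 4, 3, 2, 1, 3, 4, 5, 6, 7], [2, 3, 1, 4, 3, 2, 5, 4, 3, 1, 7, 6, 5, 4, 3, 2, 0, 2, 3, 1, 4, 3, 2, 5, 4, 3, 1, 6, 5, 4, 3, 2, 0, 7, 6, 5, 4, 3, 2, 1, 3, 4, 5, 6, 7],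 [0, 2, 3, 1, 4, 3, 2, 5, 4, 3, 1, 6, 5, 4, 3, 2, 0, 2, 3, 1, 4, 3, 2, 5, 4, 3, 1, 6, 5, 4, 3, 2, 0, 7, 6, 5, 4, 3, 2, 1, 3, 4, 5, 6, 7], [3, 1, 5, 4, 3, 2, 6, 5, 4, 3, 1, 7, 6, 5, 4, 3, 2, 0, 2, 3, 1, 4, 3, 2, 5, 4, 3, 1, 6, 5, 4, 3, 2, 0, 7, 6, 5, 4, 3, 2, 1, 3, 4, 5, 6, 7], [2, 3, 1, 4, 3, 2, 6, 5, 4, 3, 1, 7, 6, 5, 4, 3, 2, 0, 2, 3, 1, 4, 3, 2, 5, 4, 3, 1, 6, 5, 4, 3, 2, 0, 7, 6, 5, 4, 3, 2, 1, 3, 4, 5, 6, 7], [0, 2, 3, 1, 4, 3, 2, 5, 4, 3, 1, 7, 6, 5, 4, 3, 2, 0, 2, 3, 1, 4, 3, 2, 5, 4, 3, 1, 6, 5, 4, 3, 2, 0, 7, 6, 5, 4, 3, 2, 1, 3, 4, 5, 6, 7], [4, 3, 1, 5, 4, 3, 2, 6, 5, 4, 3, 1, 7, 6, 5, 4, 3, 2, 0, 2, 3, 1, 4, 3, 2, 5, 4, 3, 1, 6, 5, 4, 3, 2, 0, 7, 6, 5, 4, 3, 2, 1, 3, 4, 5, 6, 7], [2, 3, 1, 5, 4, 3, 2, 6, 5, 4, 3, 1, 7, 6,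 5, 4, 3, 2, 0, 2, 3, 1, 4, 3, 2, 5, 4, 3, 1, 6, 5, 4, 3, 2, 0, 7, 6, 5, 4, 3, 2, 1, 3, 4, 5, 6, 7], [0, 2, 3, 1, 4, 3, 2, 6, 5, 4, 3, 1, 7, 6, 5, 4, 3, 2, 0, 2, 3, 1, 4, 3, 2, 5, 4, 3, 1, 6, 5, 4, 3, 2, 0, 7, 6, 5, 4, 3, 2, 1, 3, 4, 5, 6, 7], [2, 4, 3, 1, 5, 4, 3, 2, 6, 5, 4, 3, 1, 7, 6, 5, 4, 3, 2, 0, 2, 3, 1, 4, 3, 2, 5, 4, 3, 1, 6, 5, 4, 3, 2, 0, 7, 6, 5, 4, 3, 2, 1, 3, 4, 5, 6, 7], [0, 2, 3, 1, 5, 4, 3, 2, 6, 5, 4, 3, 1, 7, 6, 5, 4, 3, 2, 0, 2, 3, 1, 4, 3, 2, 5, 4, 3, 1, 6, 5, 4, 3, 2, 0, 7, 6, 5, 4, 3, 2, 1, 3, 4, 5, 6, 7], [3, 2, 4, 3, 1, 5, 4, 3, 2, 6, 5, 4, 3, 1, 7, 6, 5, 4, 3, 2, 0, 2, 3, 1, 4, 3, 2, 5, 4, 3, 1, 6, 5, 4, 3, 2, 0, 7, 6, 5, 4, 3, 2, 1, 3, 4, 5, 6, 7], [0, 2, 4, 3, 1, 5, 4, 3, 2, 6, 5, 4, 3, 1, 7, 6, 5, 4, 3, 2,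 0, 2, 3, 1, 4, 3, 2, 5, 4, 3, 1, 6, 5, 4, 3, 2, 0, 7, 6, 5, 4, 3, 2, 1, 3, 4, 5, 6, 7], [1, 3, 2, 4, 3, 1, 5, 4, 3, 2, 6, 5, 4, 3, 1, 7, 6, 5, 4, 3, 2, 0, 2, 3, 1, 4, 3, 2, 5, 4, 3, 1, 6, 5, 4, 3, 2, 0, 7, 6, 5, 4, 3, 2, 1, 3, 4, 5, 6, 7], [0, 3, 2, 4, 3, 1, 5, 4, 3, 2, 6, 5, 4, 3, 1, 7, 6, 5, 4, 3, 2, 0, 2, 3, 1, 4, 3, 2, 5, 4, 3, 1, 6, 5, 4, 3, 2, 0, 7, 6, 5, 4, 3, 2, 1, 3, 4, 5, 6, 7], [0, 1, 3, 2, 4, 3, 1, 5, 4, 3, 2, 6, 5, 4, 3, 1, 7, 6, 5, 4, 3, 2, 0, 2, 3, 1, 4, 3, 2, 5, 4, 3, 1, 6, 5, 4, 3, 2, 0, 7, 6, 5, 4, 3, 2, 1, 3, 4, 5, 6, 7], [2, 0, 3, 2, 4, 3, 1, 5, 4, 3, 2, 6, 5, 4, 3, 1, 7, 6, 5, 4, 3, 2, 0, 2, 3, 1, 4, 3, 2, 5, 4, 3, 1, 6, 5, 4, 3, 2, 0, 7, 6, 5, 4, 3, 2, 1, 3, 4, 5, 6, 7], [2, 0, 1, 3, 2, 4, 3, 1, 5, 4, 3, 2, 6, 5,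 4, 3, 1, 7, 6, 5, 4, 3, 2, 0, 2, 3, 1, 4, 3, 2, 5, 4, 3, 1, 6, 5, 4, 3, 2, 0, 7, 6, 5, 4, 3, 2, 1, 3, 4, 5, 6, 7], [3, 2, 0, 1, 3, 2, 4, 3, 1, 5, 4, 3, 2, 6, 5, 4, 3, 1, 7, 6, 5, 4, 3, 2, 0, 2, 3, 1, 4, 3, 2, 5, 4, 3, 1, 6, 5, 4, 3, 2, 0, 7, 6, 5, 4, 3, 2, 1, 3, 4, 5, 6, 7], [4, 3, 2, 0, 1, 3, 2, 4, 3, 1, 5, 4, 3, 2, 6, 5, 4, 3, 1, 7, 6, 5, 4, 3, 2, 0, 2, 3, 1, 4, 3, 2, 5, 4, 3, 1, 6, 5, 4, 3, 2, 0, 7, 6, 5, 4, 3, 2, 1, 3, 4, 5, 6, 7], [5, 4, 3, 2, 0, 1, 3, 2, 4, 3, 1, 5, 4, 3, 2, 6, 5, 4, 3, 1, 7, 6, 5, 4, 3, 2, 0, 2, 3, 1, 4, 3, 2, 5, 4, 3, 1, 6, 5, 4, 3, 2, 0, 7, 6, 5, 4, 3, 2, 1, 3, 4, 5, 6, 7], [6, 5, 4, 3, 2, 0, 1, 3, 2, 4, 3, 1, 5, 4, 3, 2, 6, 5, 4, 3, 1, 7, 6, 5, 4, 3, 2, 0, 2, 3, 1, 4, 3, 2, 5, 4, 3, 1, 6, 5, 4, 3, 2, 0, 7,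 6, 5, 4, 3, 2, 1, 3, 4, 5, 6, 7], [7, 6, 5, 4, 3, 2, 0, 1, 3, 2, 4, 3, 1, 5, 4, 3, 2, 6, 5, 4, 3, 1, 7, 6, 5, 4, 3, 2, 0, 2, 3, 1, 4, 3, 2, 5, 4, 3, 1, 6, 5, 4, 3, 2, 0, 7, 6, 5, 4, 3, 2, 1, 3, 4, 5, 6, 7]]
def cE8_6 : List (List (Fin 8)) := [[], [6], [5, 6], [4, 5, 6], [3, 4, 5, 6], [1, 3, 4, 5, 6], [2, 3, 4, 5, 6], [2, 1, 3, 4, 5, 6], [0, 2, 3, 4, 5, 6], [3, 2, 1, 3, 4, 5, 6], [0, 2, 1, 3, 4, 5, 6], [4, 3, 2, 1, 3, 4, 5, 6], [0, 3, 2, 1, 3, 4, 5, 6], [5, 4, 3, 2, 1, 3, 4, 5, 6], [0, 4, 3, 2, 1, 3, 4, 5, 6], [2, 0, 3, 2, 1, 3, 4, 5, 6], [6, 5, 4, 3, 2, 1, 3, 4, 5, 6], [0, 5, 4, 3, 2, 1, 3, 4, 5, 6], [2, 0, 4, 3, 2, 1, 3, 4, 5, 6], [0, 6, 5, 4, 3, 2, 1, 3, 4, 5, 6], [2, 0, 5, 4, 3, 2, 1, 3, 4, 5, 6], [3, 2, 0, 4, 3, 2, 1, 3, 4, 5, 6],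 [2, 0, 6, 5, 4, 3, 2, 1, 3, 4, 5, 6], [3, 2, 0, 5, 4, 3, 2, 1, 3, 4, 5, 6], [1, 3, 2, 0, 4, 3, 2, 1, 3, 4, 5, 6], [3, 2, 0, 6, 5, 4, 3, 2, 1, 3, 4, 5, 6], [4, 3, 2, 0, 5, 4, 3, 2, 1, 3, 4, 5, 6], [1, 3, 2, 0, 5, 4, 3, 2, 1, 3, 4, 5, 6], [4, 3, 2, 0, 6, 5, 4, 3, 2, 1, 3, 4, 5, 6], [1, 3, 2, 0, 6, 5, 4, 3, 2, 1, 3, 4, 5, 6], [1, 4, 3, 2, 0, 5, 4, 3, 2, 1, 3, 4, 5, 6], [5, 4, 3, 2, 0, 6, 5, 4, 3, 2, 1, 3, 4, 5, 6], [1, 4, 3, 2, 0, 6, 5, 4, 3, 2, 1, 3, 4, 5, 6], [3, 1, 4, 3, 2, 0, 5, 4, 3, 2, 1, 3, 4, 5, 6], [1, 5, 4, 3, 2, 0, 6, 5, 4, 3, 2, 1, 3, 4, 5, 6], [3, 1, 4, 3, 2, 0, 6, 5, 4, 3, 2, 1, 3, 4, 5, 6], [2, 3, 1, 4, 3, 2, 0, 5, 4, 3, 2, 1, 3, 4, 5, 6], [3, 1, 5, 4, 3, 2, 0, 6, 5, 4, 3, 2, 1, 3, 4, 5, 6], [2, 3, 1, 4, 3, 2, 0, 6, 5, 4,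 3, 2, 1, 3, 4, 5, 6], [0, 2, 3, 1, 4, 3, 2, 0, 5, 4, 3, 2, 1, 3, 4, 5, 6], [4, 3, 1, 5, 4, 3, 2, 0, 6, 5, 4, 3, 2, 1, 3, 4, 5, 6], [2, 3, 1, 5, 4, 3, 2, 0, 6, 5, 4, 3, 2, 1, 3, 4, 5, 6], [0, 2, 3, 1, 4, 3, 2, 0, 6, 5, 4, 3, 2, 1, 3, 4, 5, 6], [2, 4, 3, 1, 5, 4, 3, 2, 0, 6, 5, 4, 3, 2, 1, 3, 4, 5, 6], [0, 2, 3, 1, 5, 4, 3, 2, 0, 6, 5, 4, 3, 2, 1, 3, 4, 5, 6], [3, 2, 4, 3, 1, 5, 4, 3, 2, 0, 6, 5, 4, 3, 2, 1, 3, 4, 5, 6], [0, 2, 4, 3, 1, 5, 4, 3, 2, 0, 6, 5, 4, 3, 2, 1, 3, 4, 5, 6], [1, 3, 2, 4, 3, 1, 5, 4, 3, 2, 0, 6, 5, 4, 3, 2, 1, 3, 4, 5, 6], [0, 3, 2, 4, 3, 1, 5, 4, 3, 2, 0, 6, 5, 4, 3, 2, 1, 3, 4, 5, 6], [0, 1, 3, 2, 4, 3, 1, 5, 4, 3, 2, 0, 6, 5, 4, 3, 2, 1, 3, 4, 5, 6], [2, 0, 3, 2, 4, 3, 1, 5, 4, 3, 2, 0, 6, 5, 4, 3, 2, 1, 3, 4,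 5, 6], [2, 0, 1, 3, 2, 4, 3, 1, 5, 4, 3, 2, 0, 6, 5, 4, 3, 2, 1, 3, 4, 5, 6], [3, 2, 0, 1, 3, 2, 4, 3, 1, 5, 4, 3, 2, 0, 6, 5, 4, 3, 2, 1, 3, 4, 5, 6], [4, 3, 2, 0, 1, 3, 2, 4, 3, 1, 5, 4, 3, 2, 0, 6, 5, 4, 3, 2, 1, 3, 4, 5, 6], [5, 4, 3, 2, 0, 1, 3, 2, 4, 3, 1, 5, 4, 3, 2, 0, 6, 5, 4, 3, 2, 1, 3, 4, 5, 6], [6, 5, 4, 3, 2, 0, 1, 3, 2, 4, 3, 1, 5, 4, 3, 2, 0, 6, 5, 4, 3, 2, 1, 3, 4, 5, 6]]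
def cE8_5 : List (List (Fin 8)) := [[], [5], [4, 5], [3, 4, 5], [1, 3, 4, 5], [2, 3, 4, 5], [2, 1, 3, 4, 5], [0, 2, 3, 4, 5], [3, 2, 1, 3, 4, 5], [0, 2, 1, 3, 4, 5], [4, 3, 2, 1, 3, 4, 5], [0, 3, 2, 1, 3, 4, 5], [5, 4, 3, 2, 1, 3, 4, 5], [0, 4, 3, 2, 1, 3, 4, 5], [2, 0, 3, 2, 1, 3, 4, 5], [0, 5, 4, 3, 2, 1, 3, 4, 5], [2, 0, 4, 3, 2, 1, 3, 4, 5], [2, 0, 5, 4, 3, 2, 1, 3, 4, 5], [3, 2, 0, 4, 3, 2, 1, 3, 4, 5], [3, 2, 0, 5, 4, 3, 2, 1, 3, 4, 5], [1, 3, 2, 0, 4, 3, 2, 1, 3, 4, 5], [4, 3, 2, 0, 5, 4, 3, 2, 1, 3, 4, 5], [1, 3, 2, 0, 5, 4, 3, 2, 1, 3, 4, 5], [1, 4, 3, 2, 0, 5, 4, 3, 2, 1, 3, 4, 5], [3, 1, 4, 3, 2, 0, 5, 4, 3, 2, 1, 3, 4, 5], [2, 3, 1, 4, 3, 2, 0, 5, 4, 3, 2, 1, 3, 4, 5], [0, 2, 3, 1, 4, 3, 2, 0, 5, 4, 3, 2, 1, 3, 4, 5]]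
def cE8_4 : List (List (Fin 8)) := [[], [4], [3, 4], [1, 3, 4], [2, 3, 4], [2, 1, 3, 4], [0, 2, 3, 4], [3, 2, 1, 3, 4], [0, 2, 1, 3, 4], [4, 3, 2, 1, 3, 4], [0, 3, 2, 1, 3, 4], [0, 4, 3, 2, 1, 3, 4], [2, 0, 3, 2, 1, 3, 4], [2, 0, 4, 3, 2, 1, 3, 4], [3, 2, 0, 4, 3, 2, 1, 3, 4], [1, 3, 2, 0, 4, 3, 2, 1, 3, 4]]
def cE8_1 : List (List (Fin 8)) := [[], [1], [3, 1], [2, 3, 1], [0, 2, 3, 1]]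
def cE8_3 : List (List (Fin 8)) := [[], [3], [2, 3], [0, 2, 3]]
def cE8_2 : List (List (Fin 8)) := [[], [2], [0, 2]]
def cE8_0 : List (List (Fin 8)) := [[], [0]]
def cE8 : List (Fin 8 × List (List (Fin 8))) := [(7, cE8_7), (6, cE8_6), (5, cE8_5), (4, cE8_4), (1, cE8_1), (3, cE8_3), (2, cE8_2), (0, cE8_0)]
theorem modelE8 : modelOK 8 AE8 dE8 PE8 (tab ME8) = true := by decide +kernel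
theorem chainE8 : chainOK 8 AE8 cE8 = true := by decide +kernel
theorem matE8 : ∀ i j : Fin 8, (CoxeterMatrix.E₈) i j = tab ME8 i j := by
  intro i j; fin_cases i <;> fin_cases j <;> rfl
theorem allE8 : ∀ i, i ∈ cE8.map Prod.fst := by decide +kernel
theorem lensE8 : cE8.map (fun p => p.2.map List.length) = [[0, 1, 2, 3, 4, 5, 6, 6, 7, 7, 8, 8, 9, 9, 10, 10, 10, 11, 11, 11, 12, 12, 12, 12, 13, 13, 13, 13, 14, 14, 14, 14, 15, 15, 15, 15, 16, 16, 16, 16, 16, 17, 17, 17, 17, 17, 18, 18, 18, 18, 18, 18, 19, 19, 19, 19, 19, 19, 20, 20, 20, 20, 20, 20, 21, 21, 21, 21, 21, 21, 22, 22, 22, 22, 22, 22, 22, 23, 23, 23, 23, 23, 23, 23, 24, 24, 24, 24, 24, 24, 24, 25, 25, 25, 25, 25, 25, 25, 26, 26, 26, 26, 26, 26, 26, 27, 27, 27, 27, 27, 27, 27,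 28, 28, 28, 28, 28, 28, 28, 28, 29, 29, 29, 29, 29, 29, 29, 29, 30, 30, 30, 30, 30, 30, 30, 31, 31, 31, 31, 31, 31, 31, 32, 32, 32, 32, 32, 32, 32, 33, 33, 33, 33, 33, 33, 33, 34, 34, 34, 34, 34, 34, 34, 35, 35, 35, 35, 35, 35, 35, 36, 36, 36, 36, 36, 36, 37, 37, 37, 37, 37, 37, 38, 38, 38, 38, 38, 38, 39, 39, 39, 39, 39, 39, 40, 40, 40, 40, 40, 41, 41, 41, 41, 41, 42, 42, 42, 42, 43, 43, 43, 43, 44, 44, 44, 44, 45, 45, 45, 45, 46, 46, 46, 47, 47, 47, 48, 48, 49, 49, 50, 50, 51, 51, 52, 53, 54, 55, 56, 57], [0, 1, 2, 3, 4, 5, 5, 6, 6, 7, 7, 8, 8, 9, 9, 9, 10, 10, 10, 11, 11, 11, 12, 12, 12, 13, 13, 13, 14, 14, 14, 15, 15, 15, 16, 16, 16, 17, 17, 17, 18, 18, 18, 19, 19, 20, 20, 21, 21, 22, 22, 23, 24, 25, 26, 27], [0, 1, 2, 3, 4, 4, 5,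 5, 6, 6, 7, 7, 8, 8, 8, 9, 9, 10, 10, 11, 11, 12, 12, 13, 14, 15, 16], [0, 1, 2, 3, 3, 4, 4, 5, 5, 6, 6, 7, 7, 8, 9, 10], [0, 1, 2, 3, 4], [0, 1, 2, 3], [0, 1, 2], [0, 1]] := by decide +kernel

theorem poincareE8 {W : Type*} [Group W] (E : ExSys (Fin 8) W)
    (hE : ∀ i j, orderOf (E.s i * E.s j) = (CoxeterMatrix.E₈) i j)
    {S : Type*} [CommRing S] {f : W → S} {q : S} (h1 : f 1 = 1)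
    (hf : ∀ i w, E.pos i w → f (E.s i * w) = q * f w) :
    ∃ T : Finset W, (∀ w, w ∈ T) ∧ (q - 1) ^ 8 * ∑ w ∈ T, f w = (q ^ 2 - 1) * (q ^ 8 - 1) * (q ^ 12 - 1) * (q ^ 14 - 1) * (q ^ 18 - 1) * (q ^ 20 - 1) * (q ^ 24 - 1) * (q ^ 30 - 1) := by
  obtain ⟨T, h2, h3⟩ := sum_all modelE8 matE8 chainE8 allE8 E hE (q := fun _ => q) h1 hf
  refine ⟨T, h2, ?_⟩
  have e : (cE8.map fun p => (p.2.map fun d => (d.map fun _ => q).prod).sum) =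
      (cE8.map (fun p => p.2.map List.length)).map fun l => (l.map fun k => q ^ k).sum := by
    simp only [sum_pow_length, List.map_map, Function.comp_def]
  rw [h3, e, lensE8]
  simp only [List.map_cons, List.map_nil, List.sum_cons, List.sum_nil, List.prod_cons, List.prod_nil]
  ring

theorem cardE8 {W : Type*} [Group W] (E : ExSys (Fin 8) W)
    (hE : ∀ i j, orderOf (E.s i * E.s j) = (CoxeterMatrix.E₈) i j) : Nat.card W = 696729600 := by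
  obtain ⟨T, h2, h3⟩ := sum_all modelE8 matE8 chainE8 allE8 E hE (f := fun _ => (1 : ℕ))
    (q := fun _ => 1) rfl (fun _ _ _ => rfl)
  have e : (cE8.map fun p => (p.2.map fun d => (d.map fun _ => (1 : ℕ)).prod).sum) =
      (cE8.map (fun p => p.2.map List.length)).map fun l => (l.map fun k => 1 ^ k).sum := by
    simp only [sum_pow_length, List.map_map, Function.comp_def]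
  rw [e, lensE8] at h3
  rw [card_of_forall_mem h2, Finset.card_eq_sum_ones, h3]
  decide +kernel

theorem exSysE8 {W : Type*} [Group W] (cs : CoxeterSystem (CoxeterMatrix.E₈) W) :
    ∃ E : ExSys (Fin 8) W, E.toInvSys = invSysOfCox cs ∧
      ∀ i j, orderOf (E.s i * E.s j) = (CoxeterMatrix.E₈) i j :=
  exists_exSys modelE8 matE8 cs

theorem coxOrderE8 {W : Type*} [Group W] (E : ExSys (Fin 8) W)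
    (hE : ∀ i j, orderOf (E.s i * E.s j) = (CoxeterMatrix.E₈) i j) :
    orderOf ((List.finRange 8).map E.s).prod = 30 := by
  obtain ⟨φ, h1, h2, -⟩ := exists_rep modelE8 matE8 E hE
  rw [← orderOf_injective φ h1]
  refine orderOf_eq _ (fun v => (List.finRange 8).foldr (fun i : Fin 8 => rstep AE8 i) v) ?_ _
    (by norm_num) 0 (by decide +kernel) (by decide +kernel)
  intro v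
  generalize List.finRange 8 = l
  induction l with
  | nil => simp
  | cons a l ih =>
    rw [List.map_cons, List.prod_cons, map_mul, LinearEquiv.mul_apply, h2, ofFn_refl, ih,
      List.foldr_cons]

def AI8 : List (List Z2) := [[⟨2, 0⟩, ⟨-1, 0⟩], [⟨-2, -1⟩, ⟨2, 0⟩]]
def dI8 : List Z2 := [⟨2, 1⟩, ⟨1, 0⟩]
def PI8 : List (List Z2) := [[⟨1, 0⟩, ⟨0, 0⟩], [⟨0, 0⟩, ⟨1, 0⟩], [⟨1, 0⟩, ⟨2, 1⟩], [⟨1, 0⟩, ⟨1, 0⟩], [⟨1, 1⟩, ⟨2, 1⟩], [⟨1, 0⟩, ⟨1, 1⟩], [⟨1, 1⟩, ⟨2, 2⟩], [⟨0, 1⟩, ⟨1, 1⟩]]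
def MI8 : List (List ℕ) := [[1, 8], [8, 1]]
def cI8_1 : List (List (Fin 2)) := [[], [1], [0, 1], [1, 0, 1], [0, 1, 0, 1], [1, 0, 1, 0, 1], [0, 1, 0, 1, 0, 1], [1, 0, 1, 0, 1, 0, 1]]
def cI8_0 : List (List (Fin 2)) := [[], [0]]
def cI8 : List (Fin 2 × List (List (Fin 2))) := [(1, cI8_1), (0, cI8_0)]
theorem modelI8 : modelOK 2 AI8 dI8 PI8 (tab MI8) = true := by decide +kernel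
theorem chainI8 : chainOK 2 AI8 cI8 = true := by decide +kernel
theorem matI8 : ∀ i j : Fin 2, (CoxeterMatrix.I 6) i j = tab MI8 i j := by
  intro i j; fin_cases i <;> fin_cases j <;> rfl
theorem allI8 : ∀ i, i ∈ cI8.map Prod.fst := by decide +kernel
theorem lensI8 : cI8.map (fun p => p.2.map List.length) = [[0, 1, 2, 3, 4, 5, 6, 7], [0, 1]] := by decide +kernel

theorem poincareI8 {W : Type*} [Group W] (E : ExSys (Fin 2) W)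
    (hE : ∀ i j, orderOf (E.s i * E.s j) = (CoxeterMatrix.I 6) i j)
    {S : Type*} [CommRing S] {f : W → S} {q : S} (h1 : f 1 = 1)
    (hf : ∀ i w, E.pos i w → f (E.s i * w) = q * f w) :
    ∃ T : Finset W, (∀ w, w ∈ T) ∧ (q - 1) ^ 2 * ∑ w ∈ T, f w = (q ^ 2 - 1) * (q ^ 8 - 1) := by
  obtain ⟨T, h2, h3⟩ := sum_all modelI8 matI8 chainI8 allI8 E hE (q := fun _ => q) h1 hf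
  refine ⟨T, h2, ?_⟩
  have e : (cI8.map fun p => (p.2.map fun d => (d.map fun _ => q).prod).sum) =
      (cI8.map (fun p => p.2.map List.length)).map fun l => (l.map fun k => q ^ k).sum := by
    simp only [sum_pow_length, List.map_map, Function.comp_def]
  rw [h3, e, lensI8]
  simp only [List.map_cons, List.map_nil, List.sum_cons, List.sum_nil, List.prod_cons, List.prod_nil]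
  ring

theorem cardI8 {W : Type*} [Group W] (E : ExSys (Fin 2) W)
    (hE : ∀ i j, orderOf (E.s i * E.s j) = (CoxeterMatrix.I 6) i j) : Nat.card W = 16 := by
  obtain ⟨T, h2, h3⟩ := sum_all modelI8 matI8 chainI8 allI8 E hE (f := fun _ => (1 : ℕ))
    (q := fun _ => 1) rfl (fun _ _ _ => rfl)
  have e : (cI8.map fun p => (p.2.map fun d => (d.map fun _ => (1 : ℕ)).prod).sum) =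
      (cI8.map (fun p => p.2.map List.length)).map fun l => (l.map fun k => 1 ^ k).sum := by
    simp only [sum_pow_length, List.map_map, Function.comp_def]
  rw [e, lensI8] at h3
  rw [card_of_forall_mem h2, Finset.card_eq_sum_ones, h3]
  decide +kernel

theorem exSysI8 {W : Type*} [Group W] (cs : CoxeterSystem (CoxeterMatrix.I 6) W) :
    ∃ E : ExSys (Fin 2) W, E.toInvSys = invSysOfCox cs ∧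
      ∀ i j, orderOf (E.s i * E.s j) = (CoxeterMatrix.I 6) i j :=
  exists_exSys modelI8 matI8 cs

theorem coxOrderI8 {W : Type*} [Group W] (E : ExSys (Fin 2) W)
    (hE : ∀ i j, orderOf (E.s i * E.s j) = (CoxeterMatrix.I 6) i j) :
    orderOf ((List.finRange 2).map E.s).prod = 8 := by
  obtain ⟨φ, h1, h2, -⟩ := exists_rep modelI8 matI8 E hE
  rw [← orderOf_injective φ h1]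
  refine orderOf_eq _ (fun v => (List.finRange 2).foldr (fun i : Fin 2 => rstep AI8 i) v) ?_ _
    (by norm_num) 0 (by decide +kernel) (by decide +kernel)
  intro v
  generalize List.finRange 2 = l
  induction l with
  | nil => simp
  | cons a l ih =>
    rw [List.map_cons, List.prod_cons, map_mul, LinearEquiv.mul_apply, h2, ofFn_refl, ih,
      List.foldr_cons]

theorem poincareB2_two {W : Type*} [Group W] (E : ExSys (Fin 2) W)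
    (hE : ∀ i j, orderOf (E.s i * E.s j) = (CoxeterMatrix.B 2) i j)
    {S : Type*} [CommSemiring S] {f : W → S} {a b : S} (h1 : f 1 = 1)
    (hf : ∀ i w, E.pos i w → f (E.s i * w) = ![a, b] i * f w) :
    ∃ T : Finset W, (∀ w, w ∈ T) ∧ ∑ w ∈ T, f w = (1 + a) * (1 + b) * (1 + a * b) := by
  obtain ⟨T, h2, h3⟩ := sum_all modelB2 matB2 chainB2 allB2 E hE h1 hf
  refine ⟨T, h2, ?_⟩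
  rw [h3]
  simp [cB2, cB2_0, cB2_1]
  ring

theorem poincareG2_two {W : Type*} [Group W] (E : ExSys (Fin 2) W)
    (hE : ∀ i j, orderOf (E.s i * E.s j) = (CoxeterMatrix.G₂) i j)
    {S : Type*} [CommSemiring S] {f : W → S} {a b : S} (h1 : f 1 = 1)
    (hf : ∀ i w, E.pos i w → f (E.s i * w) = ![a, b] i * f w) :
    ∃ T : Finset W, (∀ w, w ∈ T) ∧ ∑ w ∈ T, f w = (1 + a) * (1 + b) * (1 + a * b + a ^ 2 * b ^ 2) := by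
  obtain ⟨T, h2, h3⟩ := sum_all modelG2 matG2 chainG2 allG2 E hE h1 hf
  refine ⟨T, h2, ?_⟩
  rw [h3]
  simp [cG2, cG2_0, cG2_1]
  ring

theorem poincareI8_two {W : Type*} [Group W] (E : ExSys (Fin 2) W)
    (hE : ∀ i j, orderOf (E.s i * E.s j) = (CoxeterMatrix.I 6) i j)
    {S : Type*} [CommSemiring S] {f : W → S} {a b : S} (h1 : f 1 = 1)
    (hf : ∀ i w, E.pos i w → f (E.s i * w) = ![a, b] i * f w) :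
    ∃ T : Finset W, (∀ w, w ∈ T) ∧ ∑ w ∈ T, f w = (1 + a) * (1 + b) * (1 + a * b) * (1 + a ^ 2 * b ^ 2) := by
  obtain ⟨T, h2, h3⟩ := sum_all modelI8 matI8 chainI8 allI8 E hE h1 hf
  refine ⟨T, h2, ?_⟩
  rw [h3]
  simp [cI8, cI8_0, cI8_1]
  ring

theorem poincareF4_two {W : Type*} [Group W] (E : ExSys (Fin 4) W)
    (hE : ∀ i j, orderOf (E.s i * E.s j) = (CoxeterMatrix.F₄) i j)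
    {S : Type*} [CommSemiring S] {f : W → S} {a b : S} (h1 : f 1 = 1)
    (hf : ∀ i w, E.pos i w → f (E.s i * w) = ![a, a, b, b] i * f w) :
    ∃ T : Finset W, (∀ w, w ∈ T) ∧ ∑ w ∈ T, f w = (1 + a) * (1 + a + a ^ 2) * (1 + b) * (1 + b + b ^ 2) * (1 + a * b) * (1 + a ^ 2 * b) * (1 + a * b ^ 2) * (1 + a ^ 2 * b ^ 2) * (1 + a ^ 3 * b ^ 3) := by
  obtain ⟨T, h2, h3⟩ := sum_all modelF4 matF4 chainF4 allF4 E hE h1 hf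
  refine ⟨T, h2, ?_⟩
  rw [h3]
  simp [cF4, cF4_0, cF4_1, cF4_2, cF4_3]
  ring

end Cfsg.Agent.H15.Weyl
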