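import Cfsg.Agent.H15.Ree1

/-! Small Ree groups: fixed points, orders, Sylow 3-subgroups, involutions. -/

set_option autoImplicit false

namespace Cfsg.Agent.H15.Ree

open Matrix MulAction

namespace Model

variable {G : Type*} [Group G] {F : Type*} [Field F] [CharP F 3] (M : Model G F)

theorem row_B {g : G} (hg : g ∈ M.B) {j : Fin 7} (hj : j ≠ 6) : M.mat g 6 j = 0 := by
  obtain ⟨_, ⟨a, b, c, rfl⟩, k, rfl⟩ := hg
  rw [map_mul, M.mat_D, Dm, mul_diagonal, M.mat_S]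
  fin_cases j <;> simp [Sm] at hj ⊢

theorem eq_zero_of_N {a b c : F} (h : M.N a b c = 0) : a = 0 ∧ b = 0 ∧ c = 0 := by
  have h1 := M.mem_B_iff.2 ((M.entry_WSW a b c).trans h)
  have e := fun j hj => M.row_B h1 (j := j) hj
  simp only [map_mul, M.mat_W, mul_Wm, Wm_mul, neg_neg, M.mat_S] at e
  have e1 : a = 0 := e 5 (by decide)
  have e2 : -b = 0 := e 4 (by decide)
  have e3 : a * b - c = 0 := e 3 (by decide)
  grind

theorem eq_one_of_fix_zero {u : G} (hu : u ∈ M.Q) (h : u • M.pt 0 0 0 = M.pt 0 0 0) : u = 1 := by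
  obtain ⟨a, b, c, rfl⟩ := hu
  rw [smul_zero_iff, M.mat_S] at h
  exact M.S_eq_one.2 (M.eq_zero_of_N h)

theorem pt_inj {a b c x y z : F} : M.pt a b c = M.pt x y z ↔ a = x ∧ b = y ∧ c = z := by
  refine ⟨fun h => ?_, fun h => by rw [h.1, h.2.1, h.2.2]⟩
  rw [← S_smul_zero, ← S_smul_zero M x, ← inv_smul_eq_iff, ← mul_smul] at h
  exact M.S_inj.1 (inv_mul_eq_one.1 (M.eq_one_of_fix_zero (mul_mem (inv_mem (M.S_mem _ _ _)) (M.S_mem _ _ _)) h)).symm

theorem eq_inf_of_fix {u : G} (hu : u ∈ M.Q) (h1 : u ≠ 1) {p : M.Pt} (h : u • p = p) : p = M.inf := by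
  rcases M.pt_cases p with rfl | ⟨a, b, c, rfl⟩
  · rfl
  rw [← S_smul_zero, ← inv_smul_eq_iff, ← mul_smul, ← mul_smul] at h
  have := M.eq_one_of_fix_zero (mul_mem (mul_mem (inv_mem (M.S_mem _ _ _)) hu) (M.S_mem _ _ _)) h
  exact absurd (by simpa [mul_assoc, inv_mul_eq_one] using this) h1

theorem exists_D {g : G} (h1 : g • M.inf = M.inf) (h2 : g • M.pt 0 0 0 = M.pt 0 0 0) : ∃ k, g = M.D k := by
  obtain ⟨u, hu, k, rfl⟩ := M.smul_inf_iff.1 h1
  rw [mul_smul, D_smul_zero] at h2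
  exact ⟨k, by rw [M.eq_one_of_fix_zero hu h2, one_mul]⟩

theorem exists_smul_inf (p : M.Pt) : ∃ g : G, g • p = M.inf := exists_smul_eq G p _

theorem exists_smul_two {p p' : M.Pt} (h : p ≠ p') : ∃ g : G, g • p = M.inf ∧ g • p' = M.pt 0 0 0 := by
  obtain ⟨g, hg⟩ := M.exists_smul_inf p
  rcases M.pt_cases (g • p') with h1 | ⟨x, y, z, h1⟩
  · exact absurd (MulAction.injective g (hg.trans h1.symm)) h
  · exact ⟨(M.S x y z)⁻¹ * g, by rw [mul_smul, hg, inv_smul_eq_iff, S_smul_inf],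
      by rw [mul_smul, h1, inv_smul_eq_iff, S_smul_zero]⟩

theorem two_trans : IsMultiplyPretransitive G M.Pt 2 := by
  rw [is_two_pretransitive_iff]
  intro a b c d hab hcd
  obtain ⟨g, e1, e2⟩ := M.exists_smul_two hab
  obtain ⟨h, e3, e4⟩ := M.exists_smul_two hcd
  exact ⟨h⁻¹ * g, by rw [mul_smul, e1, ← e3, inv_smul_smul], by rw [mul_smul, e2, ← e4, inv_smul_smul]⟩

include M in
theorem finite [Finite F] : Finite G := Finite.of_injective _ M.inj

theorem card_Pt [Finite F] : Nat.card M.Pt = Nat.card F ^ 3 + 1 := by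
  rw [pow_three, ← Nat.card_prod, ← Nat.card_prod, ← Finite.card_option]
  symm
  refine Nat.card_eq_of_bijective (fun p => p.elim M.inf fun p => M.pt p.1 p.2.1 p.2.2) ⟨?_, fun p => ?_⟩
  · rintro (_ | p) (_ | p') h
    · rfl
    · exact absurd h.symm (M.pt_ne_inf _ _ _)
    · exact absurd h (M.pt_ne_inf _ _ _)
    · have h1 := M.pt_inj.1 h
      exact congrArg _ (Prod.ext h1.1 (Prod.ext h1.2.1 h1.2.2))
  · rcases M.pt_cases p with rfl | ⟨a, b, c, rfl⟩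
    exacts [⟨none, rfl⟩, ⟨some (a, b, c), rfl⟩]

include M in
theorem card_G [Finite F] : Nat.card G = Nat.card F ^ 3 * (Nat.card F - 1) * (Nat.card F ^ 3 + 1) := by
  rw [← M.B.card_mul_index, card_B, ← M.card_Pt]; rfl

theorem sq_eq_one_of {k : F} (h : k * M.σ k = 1) : k ^ 2 = 1 := by
  have := congrArg M.σ h
  rw [map_mul, M.σσ, map_one] at this
  grind

theorem eq_one_of {k : F} (h : k ^ 2 * M.σ k = 1) : k = 1 := by
  have := congrArg M.σ h
  rw [map_mul, map_pow, M.σσ, map_one] at this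
  grind

theorem scale_fix {k : Fˣ} {a b c : F} (h : k * a = a ∧ k * M.σ k * b = b ∧ k ^ 2 * M.σ k * c = c) :
    k = 1 ∨ (k = -1 ∧ a = 0 ∧ c = 0) ∨ (a = 0 ∧ b = 0 ∧ c = 0) := by
  by_cases h1 : k = 1
  · exact Or.inl h1
  have h2 : (k : F) ≠ 1 := fun e => h1 (Units.ext e)
  have ha : a = 0 := by grind
  have hc : c = 0 := by_contra fun hc => h2 (M.eq_one_of (by grind))
  by_cases hb : b = 0
  · exact Or.inr (Or.inr ⟨ha, hb, hc⟩)
  have := M.sq_eq_one_of (k := k) (by grind)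
  exact Or.inr (Or.inl ⟨Units.ext (by simp only [Units.val_neg, Units.val_one]; grind), ha, hc⟩)

theorem D_fix {k : Fˣ} (h1 : k ≠ 1) (h2 : k ≠ -1) {p : M.Pt} (h : M.D k • p = p) : p = M.inf ∨ p = M.pt 0 0 0 := by
  rcases M.pt_cases p with rfl | ⟨a, b, c, rfl⟩
  · exact Or.inl rfl
  rw [D_smul_pt, pt_inj] at h
  obtain ⟨rfl, rfl, rfl⟩ := ((M.scale_fix h).resolve_left h1).resolve_left fun h => h2 h.1
  exact Or.inr rfl

theorem D_comm_S {k : Fˣ} {a b c : F} (h : M.D k * M.S a b c = M.S a b c * M.D k) :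
    k = 1 ∨ (k = -1 ∧ a = 0 ∧ c = 0) ∨ (a = 0 ∧ b = 0 ∧ c = 0) := by
  rw [D_mul_S, mul_left_inj, S_inj] at h
  exact M.scale_fix h

/-- the involution of the split torus -/
def h0 : G := M.D (-1)

theorem neg_one_ne : (-1 : Fˣ) ≠ 1 := fun h => by have := congrArg Units.val h; simp only [Units.val_neg, Units.val_one] at this; grind

theorem h0_mul_h0 : M.h0 * M.h0 = 1 := by rw [h0, ← map_mul]; simp

theorem h0_ne_one : M.h0 ≠ 1 := fun h => neg_one_ne (M.D_eq_one.1 h)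

theorem orderOf_h0 : orderOf M.h0 = 2 := H11.orderOf_two_of M.h0_ne_one M.h0_mul_h0

theorem h0_mul_S (a b c : F) : M.h0 * M.S a b c = M.S (-a) b (-c) * M.h0 := by simp [h0, D_mul_S]

theorem h0_smul_pt (a b c : F) : M.h0 • M.pt a b c = M.pt (-a) b (-c) := by simp [h0, D_smul_pt]

theorem h0_mul_W : M.h0 * M.W = M.W * M.h0 := by simp [h0, D_mul_W]

theorem h0_fix {p : M.Pt} : M.h0 • p = p ↔ p = M.inf ∨ ∃ b, p = M.pt 0 b 0 := by
  constructor
  · intro h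
    rcases M.pt_cases p with rfl | ⟨a, b, c, rfl⟩
    · exact Or.inl rfl
    rw [h0_smul_pt, pt_inj] at h
    exact Or.inr ⟨b, by rw [pt_inj]; grind⟩
  · rintro (rfl | ⟨b, rfl⟩)
    exacts [M.D_smul_inf _, by simp [h0_smul_pt]]

theorem three_points {x y z : M.Pt} (h1 : x ≠ y) (h2 : x ≠ z) (h3 : y ≠ z) :
    ∃ g : G, ∀ s ∈ stabilizer G x ⊓ stabilizer G y ⊓ stabilizer G z, g * s * g⁻¹ = 1 ∨ g * s * g⁻¹ = M.h0 := by
  obtain ⟨g, e1, e2⟩ := M.exists_smul_two h1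
  refine ⟨g, fun s hs => ?_⟩
  have key : ∀ p : M.Pt, s • p = p → (g * s * g⁻¹) • g • p = g • p := fun p h => by
    rw [mul_smul, mul_smul, inv_smul_smul, h]
  obtain ⟨k, hk⟩ := M.exists_D (e1 ▸ key x hs.1.1) (e2 ▸ key y hs.1.2)
  by_contra hc
  rcases M.D_fix (k := k) (by rintro rfl; exact hc (Or.inl (hk.trans (map_one _))))
    (by rintro rfl; exact hc (Or.inr hk)) (hk ▸ key z hs.2) with e | e
  exacts [h2 (MulAction.injective g (e1.trans e.symm)), h3 (MulAction.injective g (e2.trans e.symm))]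

theorem card_three_points {x y z : M.Pt} (h1 : x ≠ y) (h2 : x ≠ z) (h3 : y ≠ z) :
    Nat.card ↥(stabilizer G x ⊓ stabilizer G y ⊓ stabilizer G z) ≤ 2 := by
  obtain ⟨g, hg⟩ := M.three_points h1 h2 h3
  rw [← M.orderOf_h0, ← Nat.card_zpowers]
  have : Finite (Subgroup.zpowers M.h0) := Nat.finite_of_card_ne_zero (by simp [orderOf_h0])
  refine Nat.card_le_card_of_injective (fun s => ⟨g * s * g⁻¹, ?_⟩) fun a b h => Subtype.ext (by simpa using h)
  rcases hg s s.2 with e | e <;> simp [e]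

theorem stab_three : stabilizer G M.inf ⊓ stabilizer G (M.pt 0 0 0) ⊓ stabilizer G (M.pt 0 1 0) =
    Subgroup.zpowers M.h0 := by
  refine le_antisymm (fun s hs => ?_) (Subgroup.zpowers_le.2 ⟨⟨M.D_smul_inf _, M.D_smul_zero _⟩,
    M.h0_fix.2 (Or.inr ⟨1, rfl⟩)⟩)
  obtain ⟨k, rfl⟩ := M.exists_D hs.1.1 hs.1.2
  have h : M.D k • M.pt 0 1 0 = _ := hs.2
  rw [D_smul_pt, pt_inj] at h
  rcases M.scale_fix h with rfl | ⟨rfl, -⟩ | h
  exacts [by simp, Subgroup.mem_zpowers _, absurd h.2.1 one_ne_zero]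

theorem isPGroup_Q : IsPGroup 3 M.Q := fun g => ⟨2, Subtype.ext (M.Q_pow_nine g.2)⟩

omit [Group G] in
theorem three_dvd [Finite F] : 3 ∣ Nat.card F := by
  have := Fintype.ofFinite F
  obtain ⟨n, -, h⟩ := FiniteField.card F 3
  rw [Nat.card_eq_fintype_card, h]
  exact dvd_pow_self 3 n.ne_zero

theorem index_Q [Finite F] : M.Q.index = (Nat.card F - 1) * (Nat.card F ^ 3 + 1) := by
  have h := M.Q.card_mul_index
  rw [M.card_G, card_Q, mul_assoc] at h
  exact Nat.eq_of_mul_eq_mul_left (pow_pos Nat.card_pos 3) h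

theorem not_dvd_index_Q [Finite F] : ¬ 3 ∣ M.Q.index := by
  have h1 := three_dvd (F := F)
  have h2 : 0 < Nat.card F := Nat.card_pos
  have h3 := Dvd.dvd.pow h1 three_ne_zero
  rw [index_Q, Nat.prime_three.dvd_mul]
  omega

/-- The unipotent subgroup as a Sylow 3-subgroup. -/
noncomputable def sylow [Finite F] : Sylow 3 G :=
  haveI := M.finite
  M.isPGroup_Q.toSylow M.not_dvd_index_Q

theorem coe_sylow [Finite F] : (M.sylow : Subgroup G) = M.Q := rfl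

theorem mem_B_of_conj {x g : G} (h1 : g ≠ 1) (hg : g ∈ M.Q) (hx : x * g * x⁻¹ ∈ M.Q) : x ∈ M.B :=
  M.smul_inf_iff.1 (M.eq_inf_of_fix hx (conj_ne_one h1) (by rw [mul_smul, mul_smul, inv_smul_smul, M.Q_smul_inf hg]))

theorem S_one_ne : M.S 0 0 1 ≠ 1 := by simp [S_eq_one]

theorem normalizer_Q : Subgroup.normalizer (M.Q : Set G) = M.B := by
  ext x
  refine ⟨fun h => M.mem_B_of_conj M.S_one_ne (M.S_mem _ _ _) ((Subgroup.mem_normalizer_iff.1 h _).1 (M.S_mem _ _ _)),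
    fun h => Subgroup.mem_normalizer_iff.2 fun g => ⟨M.conj_Q h, fun hg => ?_⟩⟩
  simpa [mul_assoc] using M.conj_Q (inv_mem h) hg

theorem isTI_Q : IsTI M.Q := fun _ _ h1 hg hx => M.normalizer_Q ▸ M.mem_B_of_conj h1 hg hx

include M in
theorem sylow_eq_of_mem [Finite F] {P P' : Sylow 3 G} {g : G} (h1 : g ≠ 1)
    (h : g ∈ (P : Subgroup G)) (h' : g ∈ (P' : Subgroup G)) : P = P' := by
  have := M.finite
  obtain ⟨x, rfl⟩ := exists_smul_eq G M.sylow P
  obtain ⟨y, rfl⟩ := exists_smul_eq G M.sylow P'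
  rw [← inv_smul_eq_iff, ← mul_smul, Sylow.smul_eq_iff_mem_normalizer]
  refine M.isTI_Q _ _ (conj_ne_one (x := x⁻¹) h1) (by rw [inv_inv]; exact H11.mem_sylow_smul.1 h) ?_
  rw [show y⁻¹ * x * (x⁻¹ * g * x⁻¹⁻¹) * (y⁻¹ * x)⁻¹ = y⁻¹ * g * y by group]
  exact H11.mem_sylow_smul.1 h'

theorem card_order_three [Finite F] : Nat.card {u : M.Q // orderOf u = 3} = Nat.card F ^ 2 - 1 := by
  have key : ∀ a b c, orderOf (⟨_, M.S_mem a b c⟩ : M.Q) = 3 ↔ a = 0 ∧ (b, c) ≠ 0 := fun a b c => by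
    rw [← Subgroup.orderOf_coe]
    refine ⟨fun h => ?_, fun h => orderOf_eq_prime (M.S_pow_three_eq_one.2 h.1) (by simpa [S_eq_one, h.1] using h.2)⟩
    refine ⟨M.S_pow_three_eq_one.1 (h ▸ pow_orderOf_eq_one _), fun e => ?_⟩
    obtain ⟨rfl, rfl⟩ := Prod.ext_iff.1 e
    obtain rfl := M.S_pow_three_eq_one.1 (h ▸ pow_orderOf_eq_one _)
    simp [M.S_zero] at h
  classical
  have := Fintype.ofFinite F
  rw [show Nat.card F ^ 2 - 1 = Nat.card {p : F × F // p ≠ 0} by simp [Fintype.card_subtype_compl, pow_two]]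
  symm
  refine Nat.card_eq_of_bijective (fun p => ⟨_, (key 0 p.1.1 p.1.2).2 ⟨rfl, p.2⟩⟩) ⟨fun p p' h => ?_, ?_⟩
  · have := M.S_inj.1 (congrArg (fun x => x.1.1) h)
    exact Subtype.ext (Prod.ext this.2.1 this.2.2)
  · rintro ⟨⟨_, a, b, c, rfl⟩, h⟩
    obtain ⟨rfl, h1⟩ := (key a b c).1 h
    exact ⟨⟨(b, c), h1⟩, rfl⟩

theorem not_isSquare_neg_one (M : Model G F) : ¬ IsSquare (-1 : F) := by
  rintro ⟨i, hi⟩
  have a1 := congrArg M.σ hi
  have a2 := M.σσ i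
  rw [map_neg, map_one, map_mul] at a1
  rcases mul_self_eq_mul_self_iff.1 (a1.symm.trans hi) with e | e <;> simp only [e, map_neg, neg_neg] at a2 <;> grind

include M in
theorem card_mod_four [Finite F] : Nat.card F % 4 = 3 := by
  have := Fintype.ofFinite F
  simpa [FiniteField.isSquare_neg_one_iff] using M.not_isSquare_neg_one

include M in
theorem sq_or_neg_sq [Finite F] (k : Fˣ) : ∃ l, k = l * l ∨ k = -(l * l) := by
  classical
  have := Fintype.ofFinite F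
  have key : ∀ k : Fˣ, IsSquare (k : F) → ∃ l, k = l * l := fun k ⟨l, hl⟩ =>
    ⟨Units.mk0 l (by rintro rfl; simp at hl), Units.ext hl⟩
  by_cases hc : IsSquare (k : F)
  · exact (key k hc).imp fun _ => Or.inl
  refine (key (-k) ((quadraticChar_one_iff_isSquare (Units.ne_zero _)).1 ?_)).imp fun _ h => Or.inr (by rw [← h, neg_neg])
  rw [Units.val_neg, ← neg_one_mul, map_mul, quadraticChar_neg_one_iff_not_isSquare.2 M.not_isSquare_neg_one,
    quadraticChar_neg_one_iff_not_isSquare.2 hc]; rfl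

theorem isConj_h0_of_fix {x : G} (h1 : x ≠ 1) (h2 : x * x = 1) {p : M.Pt} (hp : x • p = p) : IsConj M.h0 x := by
  obtain ⟨g, rfl⟩ := exists_smul_eq G M.inf p
  rw [← inv_smul_eq_iff, ← mul_smul, ← mul_smul, smul_inf_iff] at hp
  obtain ⟨u, hu, k, e⟩ := hp
  have h3 : u * (M.D k * u * (M.D k)⁻¹) * M.D (k * k) = 1 * M.D 1 := by
    rw [map_mul, map_one, one_mul, show u * (M.D k * u * (M.D k)⁻¹) * (M.D k * M.D k) = u * M.D k * (u * M.D k) by group,
      ← e, show g⁻¹ * x * g * (g⁻¹ * x * g) = g⁻¹ * (x * x) * g by group, h2]; simp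
  obtain ⟨h4, h5⟩ := M.QD_unique (mul_mem hu (M.D_conj_Q k hu)) (one_mem _) h3
  have h6 : Odd (orderOf u) := Odd.of_dvd_nat (by decide) (orderOf_dvd_of_pow_eq_one (M.Q_pow_nine hu))
  have h7 : k = -1 := by
    refine Units.ext ((mul_self_eq_one_iff.1 (congrArg Units.val h5)).resolve_left fun h => h1 ?_)
    obtain rfl : k = 1 := Units.ext h
    rw [H11.eq_one_of_odd_of_sq h6 (by simpa using h4)] at e
    simpa [mul_assoc, inv_mul_eq_one] using e
  subst h7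
  obtain ⟨n, hn⟩ := H11.exists_sq_eq_of_odd h6
  have h8 : M.h0 * u * M.h0⁻¹ = u⁻¹ := eq_inv_of_mul_eq_one_right h4
  refine isConj_iff.2 ⟨g * u ^ n, ?_⟩
  rw [show x = g * (u * M.h0) * g⁻¹ by rw [h0, ← e]; group, _root_.mul_inv_rev, mul_assoc g, mul_assoc g,
    ← mul_assoc _ _ g⁻¹, mul_assoc (u ^ n), ← inv_pow, ← h8, conj_pow, ← mul_assoc M.h0, ← mul_assoc M.h0, h0_mul_h0,
    one_mul, ← mul_assoc (u ^ n), ← pow_two, hn, inv_eq_of_mul_eq_one_right M.h0_mul_h0, mul_assoc g]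

theorem W_ne_one : M.W ≠ 1 := fun h => M.pt_ne_inf 0 0 0 (by rw [← W_smul_inf, h, one_smul])

theorem WD_mul_self (k : Fˣ) : M.W * M.D k * (M.W * M.D k) = 1 := by
  rw [← mul_assoc, W_D_W, ← map_mul, inv_mul_cancel, map_one]

theorem WD_ne_one (k : Fˣ) : M.W * M.D k ≠ 1 := fun h =>
  M.pt_ne_inf 0 0 0 (by rw [← W_smul_inf, ← M.D_smul_inf k, ← mul_smul, h, one_smul, D_smul_inf])

theorem exists_WD {g : G} (h1 : g • M.inf = M.pt 0 0 0) (h2 : g • M.pt 0 0 0 = M.inf) : ∃ k, g = M.W * M.D k := by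
  obtain ⟨k, hk⟩ := M.exists_D (g := M.W * g) (by rw [mul_smul, h1, W_smul_zero]) (by rw [mul_smul, h2, W_smul_inf])
  exact ⟨k, by rw [← hk, W_W]⟩

theorem isConj_h0 [Finite F] {x : G} (h1 : x ≠ 1) (h2 : x * x = 1) : IsConj M.h0 x := by
  by_cases h : x • M.inf = M.inf
  · exact M.isConj_h0_of_fix h1 h2 h
  obtain ⟨g, e1, e2⟩ := M.exists_smul_two (Ne.symm h)
  obtain ⟨k, hk⟩ := M.exists_WD (g := g * x * g⁻¹) (by rw [← e1, mul_smul, inv_smul_smul, mul_smul, e2])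
    (by rw [← e2, mul_smul, inv_smul_smul, mul_smul, ← mul_smul x, h2, one_smul, e1])
  refine IsConj.trans ?_ (H11.isConj_conj g x).symm
  have key : ∀ k l, IsConj (M.W * M.D k) (M.W * M.D (k * (l * l))) := fun k l => isConj_iff.2 ⟨M.D l⁻¹, by
    rw [← mul_assoc, D_mul_W, ← map_inv, inv_inv, mul_assoc, mul_assoc, ← map_mul, ← map_mul, mul_left_comm]⟩
  obtain ⟨l, rfl | rfl⟩ := M.sq_or_neg_sq k
  · exact (M.isConj_h0_of_fix M.W_ne_one M.W_mul_W M.W_fix).trans (by simpa [hk] using key 1 l)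
  · exact (M.isConj_h0_of_fix (M.WD_ne_one _) (M.WD_mul_self _) M.WD_fix).trans (by simpa [hk] using key (-1) l)

end Model

end Cfsg.Agent.H15.Ree
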