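import Cfsg.Agent.H15.Ree2
import Cfsg.Agent.H12.PSL2Dih
import Cfsg.Agent.H12.Root2

/-! Small Ree groups: the centraliser of an involution. -/

set_option autoImplicit false

namespace Cfsg.Agent.H15.Ree

open Matrix MulAction
open scoped MatrixGroups

section
variable {F : Type*} [Field F] [CharP F 3] (σ : F →+* F)

/-- the representation of the matrix monoid of degree two -/
def Phi (g : Matrix (Fin 2) (Fin 2) F) : Matrix (Fin 7) (Fin 7) F :=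
  !![g 0 0 * σ (g 0 0), 0, -(g 0 1 * σ (g 0 0)), 0, -(g 0 0 * σ (g 0 1)), 0, -(g 0 1 * σ (g 0 1));
    0, g 0 0 ^ 2, 0, g 0 0 * g 0 1, 0, -g 0 1 ^ 2, 0;
    -(g 1 0 * σ (g 0 0)), 0, g 1 1 * σ (g 0 0), 0, g 1 0 * σ (g 0 1), 0, g 1 1 * σ (g 0 1);
    0, -(g 0 0 * g 1 0), 0, g 0 0 * g 1 1 + g 0 1 * g 1 0, 0, g 0 1 * g 1 1, 0;
    -(g 0 0 * σ (g 1 0)), 0, g 0 1 * σ (g 1 0), 0, g 0 0 * σ (g 1 1), 0, g 0 1 * σ (g 1 1);
    0, -g 1 0 ^ 2, 0, -(g 1 0 * g 1 1), 0, g 1 1 ^ 2, 0;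
    -(g 1 0 * σ (g 1 0)), 0, g 1 1 * σ (g 1 0), 0, g 1 0 * σ (g 1 1), 0, g 1 1 * σ (g 1 1)]

theorem Phi_mul (g h : Matrix (Fin 2) (Fin 2) F) : Phi σ (g * h) = Phi σ g * Phi σ h := by
  ext i j
  rw [mul_apply, Fin.sum_univ_seven]
  fin_cases i <;> fin_cases j <;> simp [Phi, mul_apply, Fin.sum_univ_two] <;> grind

theorem Phi_one : Phi σ 1 = 1 := by
  ext i j
  fin_cases i <;> fin_cases j <;> simp [Phi]

theorem Phi_neg (g : Matrix (Fin 2) (Fin 2) F) : Phi σ (-g) = Phi σ g := by simp [Phi]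

theorem Phi_upper (b : F) : Phi σ !![1, b; 0, 1] = Sm σ 0 b 0 := by
  ext i j
  fin_cases i <;> fin_cases j <;> simp [Phi, Sm, mul_comm]

theorem Phi_lower (b : F) : Phi σ !![1, 0; b, 1] = Wm F * Sm σ 0 (-b) 0 * Wm F := by
  ext i j
  rw [mul_Wm, Wm_mul]
  fin_cases i <;> fin_cases j <;> simp [Phi, Sm, mul_comm]

theorem Phi_J : Phi σ !![0, -1; 1, 0] = Wm F := by
  ext i j
  fin_cases i <;> fin_cases j <;> simp [Phi, Wm]

theorem Phi_diag (hσ : ∀ t, σ (σ t) = t ^ 3) {l : F} (hl : l ≠ 0) : Phi σ !![l, 0; 0, l⁻¹] = Dm σ (σ l / l) := by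
  have h1 : σ l ≠ 0 := by simpa using hl
  ext i j
  fin_cases i <;> fin_cases j <;> simp [Phi, Dm, hσ] <;> field_simp

theorem Phi_comm (g : Matrix (Fin 2) (Fin 2) F) : Dm σ (-1) * Phi σ g = Phi σ g * Dm σ (-1) := by
  ext i j
  rw [Dm, diagonal_mul, mul_diagonal]
  fin_cases i <;> fin_cases j <;> simp [Phi]

theorem Phi_eq_diag {g : SL(2, F)} {v : Fin 7 → F} (h : Phi σ g = diagonal v) (h1 : v 1 = 1) : g = 1 ∨ g = -1 := by
  have e := fun i j => congrFun (congrFun h i) j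
  have e1 := e 1 1
  have e2 := e 1 5
  have e3 := e 5 1
  have e4 := g.2
  rw [det_fin_two] at e4
  simp [Phi, h1] at e1 e2 e3
  rcases e1 with e1 | e1
  · left; ext i j; fin_cases i <;> fin_cases j <;> simp <;> grind
  · right; ext i j; fin_cases i <;> fin_cases j <;> simp <;> grind

theorem sl2_cube (g : SL(2, F)) : g.1 * g.1 * g.1 = (g.1.trace ^ 2 - 1) • g.1 - g.1.trace • 1 := by
  rw [H12.sl2_mul_self, sub_mul, smul_mul_assoc, H12.sl2_mul_self, one_mul]; module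

theorem Phi_plus (g : SL(2, F)) : (Phi σ g ^ 3 - (g.1.trace ^ 2 - 1) • Phi σ g ^ 2 + (g.1.trace ^ 2 - 1) • Phi σ g - 1) *
    (1 + Dm σ (-1)) = 0 := by
  have e4 := g.2
  rw [det_fin_two] at e4
  have : (1 + Dm σ (-1) : Matrix (Fin 7) (Fin 7) F) = diagonal ![0, 2, 0, 2, 0, 2, 0] := by
    ext i j; fin_cases i <;> fin_cases j <;> simp [Dm] <;> grind
  simp only [this, pow_succ (Phi _ _), pow_zero, one_mul, ← Phi_mul]
  rw [sl2_cube, H12.sl2_mul_self, trace_fin_two]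
  ext i j
  rw [mul_diagonal]
  fin_cases j <;> simp <;> fin_cases i <;> simp [Phi, one_apply, Fin.ext_iff] <;> grind

theorem Phi_minus (g : SL(2, F)) : (Phi σ g ^ 4 - (g.1.trace * σ g.1.trace) • Phi σ g ^ 3 +
    (g.1.trace ^ 2 + σ g.1.trace ^ 2 - 2) • Phi σ g ^ 2 - (g.1.trace * σ g.1.trace) • Phi σ g + 1) *
    (1 - Dm σ (-1)) = 0 := by
  have e4 := g.2
  rw [det_fin_two] at e4
  have e5 := congrArg σ e4
  simp only [map_sub, map_mul, map_one] at e5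
  have : (1 - Dm σ (-1) : Matrix (Fin 7) (Fin 7) F) = diagonal ![2, 0, 2, 0, 2, 0, 2] := by
    ext i j; fin_cases i <;> fin_cases j <;> simp [Dm] <;> grind
  have h4 : g.1 * g.1 * g.1 * g.1 = (g.1.trace ^ 3 - 2 * g.1.trace) • g.1 - (g.1.trace ^ 2 - 1) • 1 := by
    rw [sl2_cube, sub_mul, smul_mul_assoc, H12.sl2_mul_self, smul_mul_assoc, one_mul]; module
  simp only [this, pow_succ (Phi _ _), pow_zero, one_mul, ← Phi_mul]
  rw [h4, sl2_cube, H12.sl2_mul_self, trace_fin_two]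
  ext i j
  rw [mul_diagonal]
  fin_cases j <;> simp <;> fin_cases i <;> simp [Phi, one_apply, Fin.ext_iff] <;> grind

end

end Cfsg.Agent.H15.Ree
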