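import Cfsg.Agent.H15.Ree3

/-! Small Ree groups: the centraliser of an involution. -/

set_option autoImplicit false

namespace Cfsg.Agent.H15

open Matrix MulAction Polynomial
open scoped MatrixGroups

theorem commute_aeval {F R : Type*} [CommSemiring F] [Semiring R] [Algebra F R] {A Y : R} (h : Commute A Y) (p : F[X]) :
    Commute A (aeval Y p) := by
  induction p using Polynomial.induction_on' with
  | add p q hp hq => rw [map_add]; exact hp.add_right hq
  | monomial n c => rw [aeval_monomial]; exact (Algebra.commute_algebraMap_right c A).mul_right (h.pow_right n)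

theorem comm_of_coprime {F R : Type*} [Field F] [Ring R] [Algebra F R] {f χ : F[X]} (hc : IsCoprime f χ) {Y H A : R}
    (h2 : (2 : F) ≠ 0) (hA : Commute A Y) (hH : Commute H Y) (hf : aeval Y f * (1 + H) = 0)
    (hχ : aeval Y χ * (1 - H) = 0) : A * H = H * A := by
  have key : ∀ {f χ : F[X]} {P Q : R}, IsCoprime f χ → Commute Q Y → aeval Y f * P = 0 → aeval Y χ * Q = 0 →
      Q * A * P = 0 := by
    rintro f χ P Q ⟨u, v, e⟩ hQ h1 h2
    have h3 := congrArg (fun p => Q * A * (aeval Y p * P)) e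
    simp only [map_add, map_mul, map_one, one_mul, add_mul, mul_add, mul_assoc (aeval Y u), h1, mul_zero,
      zero_add] at h3
    rw [← h3, ← map_mul, ← mul_assoc, (commute_aeval (hQ.mul_left hA) _).eq, map_mul, ← mul_assoc, mul_assoc (aeval Y v), h2]
    simp
  have e1 := key hc ((Commute.one_left Y).sub_left hH) hf hχ
  have e2 := key hc.symm ((Commute.one_left Y).add_left hH) hχ hf
  have e3 : (2 : F) • (A * H) = (2 : F) • (H * A) := by
    rw [two_smul, two_smul, ← sub_eq_zero, ← sub_self (0 : R)]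
    nth_rw 1 [← e1, ← e2]; noncomm_ring
  exact smul_right_injective R h2 e3

namespace Ree.Model

variable {G : Type*} [Group G] {F : Type*} [Field F] [CharP F 3] (M : Model G F)

theorem exists_phi (g : SL(2, F)) : ∃ x, M.mat x = Phi M.σ g := by
  have key : ∀ (g : SL(2, F)) x, M.mat x = Phi M.σ g → M.mat x⁻¹ = Phi M.σ (g⁻¹ : SL(2, F)) := fun g x h => by
    rw [← mul_one (M.mat x⁻¹), ← Phi_one M.σ, ← Matrix.SpecialLinearGroup.coe_one, ← mul_inv_cancel g, Matrix.SpecialLinearGroup.coe_mul,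
      Phi_mul, ← h, ← mul_assoc, ← map_mul, inv_mul_cancel, map_one, one_mul]
  let H : Subgroup SL(2, F) :=
    { carrier := {g | ∃ x, M.mat x = Phi M.σ g}
      one_mem' := ⟨1, by rw [map_one, Matrix.SpecialLinearGroup.coe_one, Phi_one]⟩
      mul_mem' := by
        rintro a b ⟨x, hx⟩ ⟨y, hy⟩
        exact ⟨x * y, by rw [map_mul, hx, hy, Matrix.SpecialLinearGroup.coe_mul, Phi_mul]⟩
      inv_mem' := by
        rintro a ⟨x, hx⟩
        exact ⟨_, key a x hx⟩ }
  have : H = ⊤ := H12.SL2_eq_top_of_upper_lower (fun b => ⟨M.S 0 b 0, by rw [M.mat_S, H12.upper_coe, Phi_upper]⟩)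
    fun b => ⟨M.W * M.S 0 (-b) 0 * M.W, by rw [map_mul, map_mul, M.mat_W, M.mat_S, H12.lower_coe, Phi_lower]⟩
  exact (this ▸ Subgroup.mem_top g : g ∈ H)

/-- the homomorphism from `SL₂` -/
noncomputable def φ : SL(2, F) →* G :=
  MonoidHom.mk' (fun g => (M.exists_phi g).choose) fun g h => M.inj (by
    rw [map_mul, (M.exists_phi _).choose_spec, (M.exists_phi _).choose_spec, (M.exists_phi _).choose_spec,
      Matrix.SpecialLinearGroup.coe_mul, Phi_mul])

theorem mat_φ (g : SL(2, F)) : M.mat (M.φ g) = Phi M.σ g := (M.exists_phi g).choose_spec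

theorem φ_upper (b : F) : M.φ (H12.upper b) = M.S 0 b 0 := M.inj (by rw [mat_φ, M.mat_S, H12.upper_coe, Phi_upper])

theorem φ_J : M.φ (H12.comp 0) = M.W := M.inj (by rw [mat_φ, M.mat_W, ← Phi_J M.σ]; rfl)

theorem φ_neg (g : SL(2, F)) : M.φ (-g) = M.φ g := M.inj (by rw [mat_φ, mat_φ, ← Phi_neg _ g.1]; rfl)

theorem mat_h0 : M.mat M.h0 = Dm M.σ (-1) := by rw [h0, M.mat_D]; rfl

theorem φ_eq_one {g : SL(2, F)} : M.φ g = 1 ↔ g = 1 ∨ g = -1 :=
  ⟨fun h => Phi_eq_diag M.σ (v := fun _ => 1) (by rw [← mat_φ, h, map_one]; rfl) rfl, by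
    rintro (rfl | rfl); exacts [map_one _, (M.φ_neg 1).trans (map_one _)]⟩

theorem φ_eq_φ {g h : SL(2, F)} : M.φ g = M.φ h ↔ g = h ∨ g = -h := by
  rw [← mul_inv_eq_one, ← map_inv, ← map_mul, φ_eq_one, mul_inv_eq_one, mul_inv_eq_iff_eq_mul, neg_one_mul]

theorem φ_ne_h0 (g : SL(2, F)) : M.φ g ≠ M.h0 := fun h =>
  M.h0_ne_one (h ▸ M.φ_eq_one.2 (Phi_eq_diag M.σ (by rw [← mat_φ, h, mat_h0, Dm]) (by simp)))

theorem φ_ne_h0_mul (g h : SL(2, F)) : M.φ g ≠ M.h0 * M.φ h := fun e =>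
  M.φ_ne_h0 (g * h⁻¹) (by rw [map_mul, e, map_inv, mul_inv_cancel_right])

theorem h0_φ (g : SL(2, F)) : M.h0 * M.φ g = M.φ g * M.h0 := M.inj (by rw [map_mul, map_mul, mat_h0, mat_φ, Phi_comm])

theorem h0_h0 (g : G) : M.h0 * (M.h0 * g) = g := by rw [← mul_assoc, h0_mul_h0, one_mul]

theorem h0_inv : M.h0⁻¹ = M.h0 := inv_eq_of_mul_eq_one_right M.h0_mul_h0

theorem D_sq (l : Fˣ) : ∃ g, M.D (l * l) = M.φ g := by
  have h1 := l.ne_zero
  have h2 := M.σ_ne h1
  refine ⟨H12.mkSL2 (l * M.σ l) 0 0 (l * M.σ l)⁻¹ (by field_simp; simp), M.inj ?_⟩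
  rw [mat_φ, H12.mkSL2_coe, Phi_diag _ M.σσ (mul_ne_zero h1 h2), M.mat_D, map_mul, M.σσ]
  congr 1; simp; field_simp

/-- The centraliser of the standard involution. -/
theorem cent_h0 [Finite F] {x : G} : x * M.h0 = M.h0 * x ↔ ∃ g, x = M.φ g ∨ x = M.h0 * M.φ g := by
  have key : ∀ x : G, x * M.h0 = M.h0 * x → x • M.inf = M.inf → ∃ g, x = M.φ g ∨ x = M.h0 * M.φ g := by
    intro x h1 h2
    obtain ⟨_, ⟨a, b, c, rfl⟩, k, rfl⟩ := M.smul_inf_iff.1 h2
    rw [← mul_assoc, h0_mul_S, h0, mul_assoc, mul_assoc, D_comm, mul_left_inj, S_inj] at h1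
    obtain rfl : a = 0 := by grind
    obtain rfl : c = 0 := by grind
    obtain ⟨l, rfl | rfl⟩ := M.sq_or_neg_sq k <;> obtain ⟨g, hg⟩ := M.D_sq l
    · exact ⟨_, Or.inl (by rw [hg, ← φ_upper, ← map_mul])⟩
    · exact ⟨H12.upper b * g, Or.inr (by
        rw [← neg_one_mul, map_mul, hg, ← φ_upper, map_mul, ← mul_assoc, ← mul_assoc, h0_φ, h0])⟩
  refine ⟨fun h => ?_, by rintro ⟨g, rfl | rfl⟩; exacts [(M.h0_φ g).symm, by rw [mul_assoc, h0_φ]]⟩
  rcases M.h0_fix.1 (show M.h0 • x • M.inf = x • M.inf by rw [← mul_smul, ← h, mul_smul, h0, D_smul_inf]) with e | ⟨b, e⟩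
  · exact key x h e
  obtain ⟨g, hg⟩ := key ((M.φ (H12.upper b * H12.comp 0))⁻¹ * x)
    (by rw [mul_assoc, h, ← map_inv, ← mul_assoc, ← h0_φ, mul_assoc])
    (by rw [mul_smul, e, inv_smul_eq_iff, map_mul, φ_upper, φ_J, mul_smul, pt_eq])
  refine ⟨H12.upper b * H12.comp 0 * g, hg.imp (fun e => ?_) fun e => ?_⟩
  · rw [map_mul, ← e, mul_inv_cancel_left]
  · rw [map_mul, ← mul_assoc, h0_φ, mul_assoc, ← e, mul_inv_cancel_left]

theorem h0_pow_add (i j : ZMod 2) : M.h0 ^ (i + j).val = M.h0 ^ i.val * M.h0 ^ j.val :=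
  H11.pow_val_add (by rw [pow_two, h0_mul_h0]) i j

/-- the embedding of `Z₂ × PSL₂` -/
noncomputable def ψ : Multiplicative (ZMod 2) × PSL(2, F) →* G :=
  (MonoidHom.mk' (fun i => M.h0 ^ i.toAdd.val) fun i j => M.h0_pow_add _ _).noncommCoprod
    (QuotientGroup.lift _ M.φ fun _ hg => M.φ_eq_one.2 (H12.mem_center_SL2.1 hg)) fun i g => by
      obtain ⟨g, rfl⟩ := QuotientGroup.mk_surjective g
      exact Commute.pow_left (M.h0_φ g) _

theorem ψ_apply (i : ZMod 2) (g : SL(2, F)) : M.ψ (Multiplicative.ofAdd i, g) = M.h0 ^ i.val * M.φ g := rfl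

theorem ψ_inj : Function.Injective M.ψ := by
  rw [injective_iff_map_eq_one]
  rintro ⟨i, g⟩ h
  obtain ⟨g, rfl⟩ := QuotientGroup.mk_surjective g
  obtain ⟨i, rfl⟩ := Multiplicative.ofAdd.surjective i
  rw [ψ_apply] at h
  fin_cases i
  · exact Prod.ext rfl (H12.psl2_mk_eq_one_iff.2 (M.φ_eq_one.1 (by simpa [ZMod.val] using h)))
  · exact absurd (by rw [map_one, ← h]; simp [ZMod.val]) (M.φ_ne_h0_mul 1 g)

theorem ψ_range [Finite F] : M.ψ.range = Subgroup.centralizer {M.h0} := by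
  ext x
  rw [H11.mem_cent1, cent_h0]
  constructor
  · rintro ⟨⟨i, g⟩, rfl⟩
    obtain ⟨g, rfl⟩ := QuotientGroup.mk_surjective g
    obtain ⟨i, rfl⟩ := Multiplicative.ofAdd.surjective i
    rw [ψ_apply]
    fin_cases i
    · exact ⟨g, Or.inl (by simp [ZMod.val])⟩
    · exact ⟨g, Or.inr (by simp [ZMod.val])⟩
  · rintro ⟨g, rfl | rfl⟩
    · exact ⟨(Multiplicative.ofAdd 0, g), by rw [ψ_apply]; simp⟩
    · exact ⟨(Multiplicative.ofAdd 1, g), by simp [ψ_apply, ZMod.val_one]⟩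

/-- the centraliser of the standard involution -/
noncomputable def centEquiv [Finite F] : Subgroup.centralizer {M.h0} ≃* Multiplicative (ZMod 2) × PSL(2, F) :=
  (MulEquiv.subgroupCongr M.ψ_range.symm).trans (MonoidHom.ofInjective M.ψ_inj).symm

theorem card_cent_h0 [Finite F] : Nat.card (Subgroup.centralizer {M.h0}) = Nat.card F * (Nat.card F ^ 2 - 1) := by
  have := Fintype.ofFinite F
  have h := M.card_mod_four
  rw [Nat.card_congr M.centEquiv.toEquiv, Nat.card_prod, ← H12.card_PSL2 (F := F) Nat.card_eq_fintype_card.symm,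
    Nat.gcd_eq_left (by omega)]
  simp

theorem comm_h0_of_comm_φ {g : SL(2, F)} (hτ : g.1.trace ^ 3 ≠ g.1.trace) {x : G} (h : x * M.φ g = M.φ g * x) :
    x * M.h0 = M.h0 * x := by
  have h1 : M.σ g.1.trace ≠ g.1.trace := fun e => hτ (by rw [← M.σσ, e, e])
  have h2 : M.σ g.1.trace ≠ g.1.trace ^ 3 := fun e => h1 (M.σ.injective (by rw [M.σσ, e]))
  refine M.inj ?_
  rw [map_mul, map_mul, mat_h0]
  refine comm_of_coprime (F := F) (Y := Phi M.σ g)
    (f := X ^ 3 - C (g.1.trace ^ 2 - 1) * X ^ 2 + C (g.1.trace ^ 2 - 1) * X - 1)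
    (χ := X ^ 4 - C (g.1.trace * M.σ g.1.trace) * X ^ 3 + C (g.1.trace ^ 2 + M.σ g.1.trace ^ 2 - 2) * X ^ 2 -
      C (g.1.trace * M.σ g.1.trace) * X + 1) ?_ (by grind) (by rw [Commute, SemiconjBy, ← mat_φ, ← map_mul, h, map_mul])
    (Phi_comm _ _) (by simpa [Algebra.smul_def] using Phi_plus M.σ g) (by simpa [Algebra.smul_def] using Phi_minus M.σ g)
  rw [isCoprime_iff_aeval_ne_zero_of_isAlgClosed (k := F) (AlgebraicClosure F)]
  intro a
  have h3 := (algebraMap F (AlgebraicClosure F)).injective.ne h1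
  have h4 := (algebraMap F (AlgebraicClosure F)).injective.ne h2
  simp only [map_add, map_sub, map_mul, map_pow, aeval_X, aeval_C, map_one, map_ofNat] at h4 ⊢
  grind

end Ree.Model

end Cfsg.Agent.H15
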