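import Cfsg.Agent.H15.Ree4
import Cfsg.Agent.H3.Fusion

/-! Small Ree groups: four-groups, the torus of order `q + 1` and the Sylow 2-subgroups. -/

set_option autoImplicit false

namespace Cfsg.Agent.H15

open Matrix MulAction
open scoped MatrixGroups

theorem card_eq_ncard_mul {G : Type*} [Group G] (H : Subgroup G) (x : G) :
    Nat.card H = {y | ∃ g ∈ H, g * x * g⁻¹ = y}.ncard * Nat.card (H ⊓ Subgroup.centralizer {x} : Subgroup G) := by
  let _ : MulAction H G := MulAction.compHom G ((MulAut.conj (G := G)).comp H.subtype)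
  have h1 : {y | ∃ g ∈ H, g * x * g⁻¹ = y} = orbit H x :=
    Set.ext fun y => ⟨fun ⟨g, hg, h⟩ => ⟨⟨g, hg⟩, h⟩, fun ⟨g, h⟩ => ⟨g, g.2, h⟩⟩
  have h2 : stabilizer H x = (H ⊓ Subgroup.centralizer {x}).subgroupOf H := by
    ext g
    rw [Subgroup.inf_subgroupOf_left, Subgroup.mem_subgroupOf, H11.mem_cent1, ← mul_inv_eq_iff_eq_mul]; rfl
  rw [h1, ← index_stabilizer, ← Nat.card_congr (Subgroup.subgroupOfEquivOfLe inf_le_left).toEquiv, ← h2,
    Subgroup.index_mul_card]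

theorem mem_normalizer_of_le {G : Type*} [Group G] [Finite G] {T : Subgroup G} {x : G} (h : ∀ t ∈ T, x * t * x⁻¹ ∈ T) :
    x ∈ Subgroup.normalizer (T : Set G) := Subgroup.mem_normalizer_fintype h

theorem conj_comm {G : Type*} [Group G] {a b : G} (x : G) (h : a * b = b * a) :
    x * a * x⁻¹ * (x * b * x⁻¹) = x * b * x⁻¹ * (x * a * x⁻¹) := by rw [conj_mul, conj_mul, h]

namespace Ree.Model

variable {G : Type*} [Group G] {F : Type*} [Field F] [CharP F 3] [Finite F] (M : Model G F)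

include M in
theorem card_mod_eight : Nat.card F % 8 = 3 := by
  have := Fintype.ofFinite F
  have h := M.not_isSquare_neg_one
  have h4 := M.card_mod_four
  rw [show (-1 : F) = 2 by grind, FiniteField.isSquare_two_iff, ← Nat.card_eq_fintype_card] at h
  omega

omit [CharP F 3] [Finite F] in
theorem J_mul_J : H12.comp (0 : F) * H12.comp 0 = -1 := H12.sl2_mul_self_of_trace (H12.trace_comp 0)

include M in
theorem exists_tw : ∃ p : SL(2, F) × SL(2, F), orderOf p.1 = Nat.card F + 1 ∧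
    Subgroup.centralizer {H12.comp (0 : F)} = Subgroup.zpowers p.1 ∧ p.2 * p.1 * p.2⁻¹ = p.1⁻¹ ∧ p.2 * p.2 = -1 := by
  have := Fintype.ofFinite F
  have h4 := M.card_mod_four
  obtain ⟨t, h1, h2, h3⟩ := H12.exists_torus_of_mul_self (F := F) (by grind) J_mul_J (Or.inr rfl)
    (by rw [← Nat.card_eq_fintype_card]; omega)
  obtain ⟨w, h4, h5⟩ := H12.exists_inverting h2
  exact ⟨(t, w), by rw [h1, Nat.card_eq_fintype_card], h3, h4, h5⟩

/-- a generator of the non-split torus of `SL₂` -/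
noncomputable def t : SL(2, F) := M.exists_tw.choose.1

/-- the inverting involution -/
noncomputable def s : G := M.φ M.exists_tw.choose.2

theorem orderOf_t : orderOf M.t = Nat.card F + 1 := M.exists_tw.choose_spec.1

theorem mem_t {g : SL(2, F)} : g ∈ Subgroup.zpowers M.t ↔ g * H12.comp 0 = H12.comp 0 * g := by
  rw [t, ← M.exists_tw.choose_spec.2.1, H11.mem_cent1]

theorem s_mul_s : M.s * M.s = 1 := by rw [s, ← map_mul, M.exists_tw.choose_spec.2.2.2, φ_neg, map_one]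

theorem s_inv : M.s⁻¹ = M.s := inv_eq_of_mul_eq_one_right M.s_mul_s

theorem h0_s : M.h0 * M.s = M.s * M.h0 := M.h0_φ _

/-- the torus of order `q + 1` -/
def T0 : Subgroup G where
  carrier := {x | ∃ g ∈ Subgroup.zpowers M.t, x = M.φ g ∨ x = M.h0 * M.φ g}
  one_mem' := ⟨1, one_mem _, Or.inl (map_one _).symm⟩
  mul_mem' := by
    rintro _ _ ⟨g, hg, rfl | rfl⟩ ⟨h, hh, rfl | rfl⟩ <;> refine ⟨g * h, mul_mem hg hh, ?_⟩
    · exact Or.inl (map_mul _ _ _).symm
    · exact Or.inr (by rw [← mul_assoc, ← h0_φ, map_mul, mul_assoc])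
    · exact Or.inr (by rw [map_mul, mul_assoc])
    · exact Or.inl (by rw [mul_assoc, ← mul_assoc (M.φ g), ← h0_φ, mul_assoc, h0_h0, map_mul])
  inv_mem' := by
    rintro _ ⟨g, hg, rfl | rfl⟩ <;> refine ⟨g⁻¹, inv_mem hg, ?_⟩
    · exact Or.inl (map_inv _ _).symm
    · exact Or.inr (by rw [_root_.mul_inv_rev, h0_inv, h0_φ, map_inv])

theorem φ_mem_T0 {g : SL(2, F)} (hg : g ∈ Subgroup.zpowers M.t) : M.φ g ∈ M.T0 := ⟨g, hg, Or.inl rfl⟩

theorem h0_mem_T0 : M.h0 ∈ M.T0 := ⟨1, one_mem _, Or.inr (by simp)⟩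

theorem W_mem_T0 : M.W ∈ M.T0 := ⟨_, M.mem_t.2 rfl, Or.inl M.φ_J.symm⟩

theorem T0_comm {x y : G} (hx : x ∈ M.T0) (hy : y ∈ M.T0) : x * y = y * x := by
  obtain ⟨g, ⟨i, rfl⟩, hx⟩ := hx
  obtain ⟨h, ⟨j, rfl⟩, hy⟩ := hy
  have h1 : Commute (M.φ (M.t ^ i)) (M.φ (M.t ^ j)) := (Commute.zpow_zpow_self _ i j).map _
  have h2 : ∀ g, Commute M.h0 (M.φ g) := M.h0_φ
  rcases hx with rfl | rfl <;> rcases hy with rfl | rfl
  exacts [h1, (h2 _).symm.mul_right h1, (h2 _).mul_left h1,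
    ((Commute.refl _).mul_right (h2 _)).mul_left ((h2 _).symm.mul_right h1)]

theorem s_conj {x : G} (hx : x ∈ M.T0) : M.s * x * M.s⁻¹ = x⁻¹ := by
  obtain ⟨g, ⟨i, rfl⟩, hx⟩ := hx
  have h1 : M.s * M.φ (M.t ^ i) * M.s⁻¹ = (M.φ (M.t ^ i))⁻¹ := by
    rw [s, ← map_inv, ← map_mul, ← map_mul, t, H11.conj_zpow_of_inv M.exists_tw.choose_spec.2.2.1, ← map_inv,
      _root_.zpow_neg]
  rcases hx with rfl | rfl
  · exact h1
  · rw [← mul_assoc, ← h0_s, mul_assoc, mul_assoc, ← mul_assoc M.s, h1, ← map_inv, h0_φ, map_inv, _root_.mul_inv_rev, h0_inv]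

theorem sT0_sq {x : G} (hx : x ∈ M.T0) : M.s * x * (M.s * x) = 1 := by
  have := M.s_conj hx
  rw [s_inv] at this
  rw [← mul_assoc, this, inv_mul_cancel]

theorem neg_one_mem_t : -1 ∈ Subgroup.zpowers M.t := M.mem_t.2 (by simp)

theorem φ_mem_T0_iff {g : SL(2, F)} : M.φ g ∈ M.T0 ↔ g ∈ Subgroup.zpowers M.t := by
  refine ⟨?_, M.φ_mem_T0⟩
  rintro ⟨h, hh, e | e⟩
  · rcases M.φ_eq_φ.1 e with rfl | rfl
    exacts [hh, by simpa using mul_mem M.neg_one_mem_t hh]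
  · exact absurd e (M.φ_ne_h0_mul _ _)

omit [Finite F] in
theorem neg_ne_self (g : SL(2, F)) : -g ≠ g := fun h => by
  have := congrArg (fun x : SL(2, F) => x.1.trace) (mul_right_cancel (b := g) (a := -1) (c := 1) (by simpa using h))
  simp at this; grind

theorem s_not_mem : M.s ∉ M.T0 := fun h => by
  obtain ⟨h1, h2, h3, h4⟩ := M.exists_tw.choose_spec
  obtain ⟨k, hk⟩ := M.φ_mem_T0_iff.1 h
  have h5 : M.t = M.t⁻¹ := by rw [t, ← h3, ← hk]; simp only [t]; group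
  have := Nat.le_of_dvd two_pos (orderOf_dvd_of_pow_eq_one (show M.t ^ 2 = 1 by rw [pow_two]; nth_rw 1 [h5]; simp))
  rw [orderOf_t] at this
  have := M.card_mod_four
  omega

theorem card_T0 : Nat.card M.T0 = Nat.card F + 1 := by
  have h1 : M.T0 = ((⊤ : Subgroup (Multiplicative (ZMod 2))).prod
      ((Subgroup.zpowers M.t).map (QuotientGroup.mk' (Subgroup.center SL(2, F))))).map M.ψ := by
    ext x
    constructor
    · rintro ⟨g, hg, rfl | rfl⟩
      · exact ⟨(Multiplicative.ofAdd 0, g), ⟨trivial, g, hg, rfl⟩, by rw [ψ_apply]; simp⟩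
      · exact ⟨(Multiplicative.ofAdd 1, g), ⟨trivial, g, hg, rfl⟩, by simp [ψ_apply, ZMod.val_one]⟩
    · rintro ⟨⟨i, _⟩, ⟨-, g, hg, rfl⟩, rfl⟩
      exact mul_mem (pow_mem M.h0_mem_T0 _) (M.φ_mem_T0 hg)
  have := Fintype.ofFinite F
  have h4 := M.card_mod_four
  have h2 : M.t.1.trace ^ 2 ≠ 4 := by
    rcases H12.central_or_trace_ne (g := M.t) H12.natCast_card_add_one_ne_zero
      (Or.inl (by rw [← Nat.card_eq_fintype_card, ← M.orderOf_t, pow_orderOf_eq_one])) with h | h | h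
    · have := M.orderOf_t; rw [h, orderOf_one] at this; omega
    · have := Nat.le_of_dvd two_pos (orderOf_dvd_of_pow_eq_one (show M.t ^ 2 = 1 by rw [h]; simp))
      rw [orderOf_t] at this; omega
    · exact h
  rw [h1, Subgroup.card_map_of_injective M.ψ_inj, Nat.card_congr (Subgroup.prodEquiv _ _).toEquiv, Nat.card_prod,
    MonoidHom.map_zpowers, Nat.card_zpowers, QuotientGroup.mk'_apply, H12.psl_orderOf_mk h2, orderOf_t,
    Nat.gcd_eq_left (by omega), Subgroup.card_top, Nat.card_congr Multiplicative.toAdd, Nat.card_zmod]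
  omega

theorem t_pow_half {g : SL(2, F)} (hg : g ∈ Subgroup.zpowers M.t) : M.φ g ^ ((Nat.card F + 1) / 2) = 1 := by
  have h4 := M.card_mod_four
  rw [← map_pow, φ_eq_one]
  refine H12.sl2_eq_of_mul_self (by grind) ?_
  rw [← pow_add, show (Nat.card F + 1) / 2 + (Nat.card F + 1) / 2 = orderOf M.t by rw [orderOf_t]; omega]
  exact orderOf_dvd_iff_pow_eq_one.1 (orderOf_dvd_of_mem_zpowers hg)

theorem T0_pow {x : G} (hx : x ∈ M.T0) : x ^ ((Nat.card F + 1) / 2) = 1 := by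
  have h4 := M.card_mod_four
  obtain ⟨g, hg, rfl | rfl⟩ := hx
  · exact M.t_pow_half hg
  · rw [Commute.mul_pow (M.h0_φ g), M.t_pow_half hg, mul_one, ← orderOf_dvd_iff_pow_eq_one, orderOf_h0]; omega

theorem T0_sq_of_four {x : G} (hx : x ∈ M.T0) (h : x ^ 4 = 1) : x * x = 1 := by
  have h8 := M.card_mod_eight
  have := M.T0_pow hx
  rwa [show (Nat.card F + 1) / 2 = 4 * (Nat.card F / 8) + 2 by omega, pow_add, pow_mul, h, one_pow, one_mul, pow_two] at this

omit [Finite F] in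
theorem comm_of_φ_comm {g h : SL(2, F)} (hg : g.1.trace ≠ 0) (e : M.φ h * M.φ g = M.φ g * M.φ h) : h * g = g * h := by
  rw [← map_mul, ← map_mul, φ_eq_φ] at e
  refine e.resolve_right fun e => hg ?_
  have := H12.sl2_trace_conj g h
  rw [e, neg_mul, mul_inv_cancel_right] at this
  simp at this; grind

theorem cent_T0 {x : G} (hx : x ∈ M.T0) (h2 : x * x ≠ 1) : Subgroup.centralizer {x} = M.T0 := by
  have := Fintype.ofFinite F
  refine le_antisymm (fun y hy => ?_) fun y hy => H11.mem_cent1.2 (M.T0_comm hy hx)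
  have h3 : x * x * (x * x) ≠ 1 := fun e => h2 (M.T0_sq_of_four hx (by rw [← e]; simp [pow_succ, mul_assoc]))
  obtain ⟨g, hg, e⟩ : ∃ g ∈ Subgroup.zpowers M.t, x * x = M.φ g := by
    obtain ⟨g, hg, rfl | rfl⟩ := hx <;> refine ⟨g * g, mul_mem hg hg, ?_⟩
    · rw [map_mul]
    · rw [mul_assoc, ← mul_assoc (M.φ g), ← h0_φ, mul_assoc, h0_h0, map_mul]
  have h4 : g ^ (Fintype.card F + 1) = 1 := by
    rw [← Nat.card_eq_fintype_card, ← M.orderOf_t]
    exact orderOf_dvd_iff_pow_eq_one.1 (orderOf_dvd_of_mem_zpowers hg)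
  have h5 : g.1.trace ^ 2 ≠ 4 := ((H12.central_or_trace_ne H12.natCast_card_add_one_ne_zero (Or.inl h4)).resolve_left
    fun e' => h2 (by rw [e, e', map_one])).resolve_left fun e' => h2 (by rw [e, e', φ_neg, map_one])
  have h6 : g.1.trace ≠ 0 := fun e' => h3 (by rw [e, ← map_mul, H12.sl2_mul_self_of_trace e', φ_neg, map_one])
  have h7 : y * M.φ g = M.φ g * y := by
    rw [← e]; exact (Commute.mul_right (H11.mem_cent1.1 hy) (H11.mem_cent1.1 hy) :)
  obtain ⟨t', a1, -, a2⟩ := H12.exists_torus (Or.inr rfl) h5 h4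
  have h8 : Subgroup.zpowers M.t = Subgroup.centralizer {g} := by
    refine Subgroup.eq_of_le_of_card_ge ?_ (by rw [a2, Nat.card_zpowers, Nat.card_zpowers, a1, orderOf_t]; simp)
    obtain ⟨k, rfl⟩ := hg
    rintro _ ⟨l, rfl⟩
    exact H11.mem_cent1.2 (Commute.zpow_zpow_self _ l k)
  obtain ⟨h, rfl | rfl⟩ := M.cent_h0.1 (M.comm_h0_of_comm_φ (by grind) h7)
  · exact M.φ_mem_T0 (h8 ▸ H11.mem_cent1.2 (M.comm_of_φ_comm h6 h7))
  · rw [← mul_assoc, ← h0_φ, mul_assoc, mul_assoc, mul_right_inj] at h7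
    exact mul_mem M.h0_mem_T0 (M.φ_mem_T0 (h8 ▸ H11.mem_cent1.2 (M.comm_of_φ_comm h6 h7)))

omit [Finite F] in
theorem φ_sq {g : SL(2, F)} (h : M.φ g * M.φ g = 1) : M.φ g = 1 ∨ g * g = -1 := by
  rw [← map_mul, φ_eq_one] at h
  exact h.imp_left fun h => M.φ_eq_one.2 (H12.sl2_eq_of_mul_self (by grind) h)

theorem T0_sq {x : G} (hx : x ∈ M.T0) (h : x * x = 1) : x = 1 ∨ x = M.h0 ∨ x = M.W ∨ x = M.h0 * M.W := by
  have key : ∀ g ∈ Subgroup.zpowers M.t, M.φ g * M.φ g = 1 → M.φ g = 1 ∨ M.φ g = M.W := fun g hg h =>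
    (M.φ_sq h).imp_right fun h => by
      rcases H12.eq_or_eq_inv_of_commute (g := H12.comp (0 : F)) (by simp; grind) rfl (M.mem_t.1 hg)
        (by rw [H12.sl2_trace_of_mul_self h, H12.trace_comp]) with e | e
      · rw [e, φ_J]
      · rw [e, map_inv, φ_J, W_inv]
  obtain ⟨g, hg, rfl | rfl⟩ := hx
  · rcases key g hg h with e | e <;> simp [e]
  · rw [mul_assoc, ← mul_assoc (M.φ g), ← h0_φ, mul_assoc, h0_h0] at h
    rcases key g hg h with e | e <;> simp [e]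

theorem cent_V {x : G} : x * M.h0 = M.h0 * x ∧ x * M.W = M.W * x ↔ x ∈ M.T0 ∨ M.s * x ∈ M.T0 := by
  have key : ∀ g, M.φ g * M.W = M.W * M.φ g → M.φ g ∈ M.T0 ∨ M.s * M.φ g ∈ M.T0 := fun g h => by
    rw [← φ_J, ← map_mul, ← map_mul, φ_eq_φ] at h
    refine h.imp (fun h => M.φ_mem_T0 (M.mem_t.2 h)) fun h => ?_
    rw [s, ← map_mul]
    obtain ⟨k, hk⟩ := M.mem_t.2 (rfl : H12.comp (0 : F) * _ = _)
    have h1 := H11.conj_zpow_of_inv (a := M.t) M.exists_tw.choose_spec.2.2.1 k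
    rw [_root_.zpow_neg, show M.t ^ k = _ from hk, mul_inv_eq_iff_eq_mul,
      show (H12.comp (0 : F))⁻¹ = -H12.comp 0 from inv_eq_of_mul_eq_one_right (by rw [mul_neg, J_mul_J, neg_neg])] at h1
    exact M.φ_mem_T0 (M.mem_t.2 (by rw [mul_assoc, h, mul_neg, ← mul_assoc, h1]; simp [mul_assoc]))
  constructor
  · rintro ⟨h1, h2⟩
    obtain ⟨g, rfl | rfl⟩ := M.cent_h0.1 h1
    · exact key g h2
    · rw [← mul_assoc, ← h0_mul_W, mul_assoc, mul_assoc, mul_right_inj] at h2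
      exact (key g h2).imp (mul_mem M.h0_mem_T0) fun h => by
        rw [← mul_assoc, ← h0_s, mul_assoc]; exact mul_mem M.h0_mem_T0 h
  · rintro (h | h)
    · exact ⟨M.T0_comm h M.h0_mem_T0, M.T0_comm h M.W_mem_T0⟩
    · have h1 : ∀ v ∈ M.T0, v⁻¹ = v → x * v = v * x := fun v hv e => by
        have := M.T0_comm h hv
        rwa [← mul_assoc, ← e, ← M.s_conj hv, inv_mul_cancel_right, M.s_conj hv, e, mul_assoc, mul_assoc, mul_right_inj] at this
      exact ⟨h1 _ M.h0_mem_T0 M.h0_inv, h1 _ M.W_mem_T0 M.W_inv⟩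

end Ree.Model

end Cfsg.Agent.H15
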