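import Cfsg.Agent.H15.Ree5

/-! Small Ree groups: the normalisers of a four-group and of a Sylow 2-subgroup. -/

set_option autoImplicit false

namespace Cfsg.Agent.H15.Ree.Model

open Matrix MulAction
open scoped MatrixGroups Pointwise

variable {G : Type*} [Group G] {F : Type*} [Field F] [CharP F 3] [Finite F] (M : Model G F)

theorem invol_cent_h0 {b : G} (h1 : b ≠ 1) (h0 : b ≠ M.h0) (h2 : b * b = 1) (h : b * M.h0 = M.h0 * b) :
    ∃ g, M.φ g * b * (M.φ g)⁻¹ = M.W ∨ M.φ g * b * (M.φ g)⁻¹ = M.h0 * M.W := by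
  have key : ∀ g, M.φ g ≠ 1 → M.φ g * M.φ g = 1 → ∃ k, M.φ k * M.φ g * (M.φ k)⁻¹ = M.W := fun g h1 h2 => by
    have h3 := H12.sl2_trace_of_mul_self ((M.φ_sq h2).resolve_left h1)
    obtain ⟨k, hk⟩ := H12.exists_conj_of_trace_eq (g := g) (h := H12.comp 0) (by rw [h3]; grind) (by rw [h3]; simp)
    exact ⟨k, by rw [← φ_J, ← hk, map_mul, map_mul, map_inv]⟩
  obtain ⟨g, rfl | rfl⟩ := M.cent_h0.1 h
  · exact (key g h1 h2).imp fun _ => Or.inl
  · rw [mul_assoc, ← mul_assoc (M.φ g), ← h0_φ, mul_assoc, h0_h0] at h2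
    exact (key g (fun e => h0 (by rw [e, mul_one])) h2).imp fun k hk => Or.inr (by
      rw [← hk, ← mul_assoc, ← h0_φ]; simp only [mul_assoc])

theorem φ_conj_h0 (g : SL(2, F)) : M.φ g * M.h0 * (M.φ g)⁻¹ = M.h0 := by rw [← h0_φ, mul_inv_cancel_right]

theorem klein_conj {a b : G} (ha1 : a ≠ 1) (ha : a * a = 1) (hb1 : b ≠ 1) (hb : b * b = 1) (hab : a ≠ b)
    (h : a * b = b * a) : ∃ x, x * a * x⁻¹ = M.h0 ∧ (x * b * x⁻¹ = M.W ∨ x * b * x⁻¹ = M.h0 * M.W) := by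
  obtain ⟨y, hy⟩ := isConj_iff.1 (M.isConj_h0 ha1 ha).symm
  obtain ⟨g, hg⟩ := M.invol_cent_h0 (b := y * b * y⁻¹) (conj_ne_one hb1) (by rw [← hy]; simpa using hab.symm)
    (by rw [conj_mul, hb]; simp) (by rw [← hy]; exact conj_comm y h.symm)
  refine ⟨M.φ g * y, ?_, by simpa [mul_assoc] using hg⟩
  rw [← M.φ_conj_h0 g, ← hy]; group

include M in
theorem sq_of_four {x : G} (h : x ^ 4 = 1) : x * x = 1 := by
  by_contra h1
  obtain ⟨y, hy⟩ := isConj_iff.1 (M.isConj_h0 h1 (by rw [← h]; simp [pow_succ, mul_assoc])).symm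
  rw [← conj_mul] at hy
  obtain ⟨g, e | e⟩ := (M.cent_h0 (x := y * x * y⁻¹)).1 (by rw [← hy]; simp only [mul_assoc]) <;> rw [e] at hy
  · exact M.φ_ne_h0 _ (by rw [map_mul, hy])
  · rw [mul_assoc, ← mul_assoc (M.φ g), ← h0_φ, mul_assoc, h0_h0, ← map_mul] at hy
    exact M.φ_ne_h0 _ hy

include M in
theorem sq_of_isPGroup {P : Subgroup G} (hP : IsPGroup 2 P) {x : G} (hx : x ∈ P) : x * x = 1 := by
  obtain ⟨k, hk⟩ := hP ⟨x, hx⟩
  replace hk : x ^ 2 ^ k = 1 := congrArg Subtype.val hk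
  clear hx
  induction k generalizing x with
  | zero => simp_all
  | succ k ih => exact M.sq_of_four (by simpa [pow_succ, mul_assoc] using ih (x := x * x) (by rwa [← pow_two, ← pow_mul, ← pow_succ']))

include M in
theorem card_sylow_two (P : Sylow 2 G) : Nat.card P = 8 := by
  have := M.finite
  have h8 := M.card_mod_eight
  obtain ⟨k, hk⟩ : ∃ k, Nat.card F = 8 * k + 3 := ⟨Nat.card F / 8, by omega⟩
  rw [P.card_eq_multiplicity, M.card_G, hk, show 8 * k + 3 - 1 = 2 * (4 * k + 1) by omega,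
    show (8 * k + 3) ^ 3 * (2 * (4 * k + 1)) * ((8 * k + 3) ^ 3 + 1) =
      2 ^ 3 * ((8 * k + 3) ^ 3 * (4 * k + 1) * ((2 * k + 1) * (2 * (32 * k ^ 2 + 20 * k + 3) + 1))) by ring,
    Nat.factorization_eq_of_coprime_left (Nat.Coprime.pow_left _ (Nat.coprime_two_left.2 ?_)) (by simp), Nat.prime_two.factorization_pow]
  · simp
  · exact ((Odd.pow ⟨4 * k + 1, by ring⟩).mul ⟨2 * k, by ring⟩).mul (Odd.mul ⟨k, rfl⟩ ⟨_, rfl⟩)

omit [Finite F] in
theorem h0_ne_W : M.h0 ≠ M.W := M.φ_J ▸ (M.φ_ne_h0 _).symm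

omit [Finite F] in
theorem h0W_mul_self : M.h0 * M.W * (M.h0 * M.W) = 1 := by
  rw [mul_assoc, ← mul_assoc M.W, ← h0_mul_W, mul_assoc, h0_h0, W_mul_W]

omit [Finite F] in
theorem h0W_ne_one : M.h0 * M.W ≠ 1 := fun h => M.h0_ne_W (by rw [← M.h0_h0 M.W, h, mul_one])

omit [Finite F] in
theorem W_ne_h0W : M.W ≠ M.h0 * M.W := by simpa using M.h0_ne_one

omit [Finite F] in
theorem h0_ne_h0W : M.h0 ≠ M.h0 * M.W := by simpa using M.W_ne_one

theorem h0W_mem_T0 : M.h0 * M.W ∈ M.T0 := mul_mem M.h0_mem_T0 M.W_mem_T0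

theorem sq_of_s_mul {x : G} (h : M.s * x ∈ M.T0) : x * x = 1 := by
  have := M.sT0_sq h
  rwa [← mul_assoc M.s M.s, s_mul_s, one_mul] at this

theorem mem_normalizer_T0 {x : G} (h1 : x * M.h0 * x⁻¹ ∈ M.T0) (h2 : x * M.W * x⁻¹ ∈ M.T0) :
    x ∈ Subgroup.normalizer (M.T0 : Set G) := by
  have := M.finite
  have hV : ∀ {v}, v ∈ M.T0 → v * v = 1 → x * v * x⁻¹ ∈ M.T0 := fun hv e => by
    rcases M.T0_sq hv e with rfl | rfl | rfl | rfl
    exacts [by simp, h1, h2, by rw [← conj_mul]; exact mul_mem h1 h2]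
  rw [← inv_mem_iff]
  refine mem_normalizer_of_le fun z hz => ?_
  have key : ∀ v, x * v * x⁻¹ ∈ M.T0 → x⁻¹ * z * x⁻¹⁻¹ * v = v * (x⁻¹ * z * x⁻¹⁻¹) := fun v hv => by
    simpa [mul_assoc] using conj_comm x⁻¹ (M.T0_comm hz hv)
  by_cases h : z * z = 1
  · let f : {v // v ∈ M.T0 ∧ v * v = 1} → {v // v ∈ M.T0 ∧ v * v = 1} := fun v =>
      ⟨x * v * x⁻¹, hV v.2.1 v.2.2, by rw [conj_mul, v.2.2]; simp⟩
    obtain ⟨v, hv⟩ := Finite.injective_iff_surjective.1 (show Function.Injective f from fun a b e =>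
      Subtype.ext (by simpa [f] using e)) ⟨z, hz, h⟩
    rw [← show x * v * x⁻¹ = z from congrArg Subtype.val hv]
    simpa [mul_assoc] using v.2.1
  · exact (M.cent_V.1 ⟨key _ h1, key _ h2⟩).resolve_right fun e => h (by
      simpa [-inv_inv, conj_mul] using M.sq_of_s_mul e)

theorem normalizer_inf_cent : Subgroup.normalizer (M.T0 : Set G) ⊓ Subgroup.centralizer {M.h0} =
    Subgroup.centralizer {M.h0} ⊓ Subgroup.centralizer {M.W} := by
  ext x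
  simp only [Subgroup.mem_inf, H11.mem_cent1]
  refine ⟨fun ⟨h1, h2⟩ => ⟨h2, ?_⟩, fun ⟨h1, h2⟩ => ⟨M.mem_normalizer_T0 (by simpa [h1] using M.h0_mem_T0)
    (by simpa [h2] using M.W_mem_T0), h1⟩⟩
  obtain ⟨g, hg⟩ : ∃ g, x * M.W * x⁻¹ = M.φ g := by
    obtain ⟨g, rfl | rfl⟩ := M.cent_h0.1 h2 <;> refine ⟨g * H12.comp 0 * g⁻¹, ?_⟩ <;> rw [map_mul, map_mul, map_inv, ← φ_J]
    rw [_root_.mul_inv_rev, ← map_inv, ← mul_assoc, mul_assoc M.h0, mul_assoc M.h0, ← map_mul, ← map_mul, h0_φ,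
      mul_inv_cancel_right, map_mul, map_mul]
  rw [← mul_inv_eq_iff_eq_mul]
  rcases M.T0_sq ((Subgroup.mem_normalizer_iff.1 h1 _).1 M.W_mem_T0) (by rw [conj_mul, W_mul_W]; simp) with e | e | e | e
  · exact absurd e (conj_ne_one M.W_ne_one)
  · exact absurd (hg.symm.trans e) (M.φ_ne_h0 g)
  · exact e
  · exact absurd (hg.symm.trans (e.trans (by rw [φ_J]))) (M.φ_ne_h0_mul g (H12.comp 0))

theorem card_cent_V : Nat.card (Subgroup.centralizer {M.h0} ⊓ Subgroup.centralizer {M.W} : Subgroup G) =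
    2 * (Nat.card F + 1) := by
  have h : ∀ {x}, x ∈ (Subgroup.centralizer {M.h0} ⊓ Subgroup.centralizer {M.W} : Subgroup G) ↔
      x ∈ M.T0 ∨ M.s * x ∈ M.T0 := by simp only [Subgroup.mem_inf, H11.mem_cent1, cent_V, implies_true]
  have h1 : M.T0 ≤ _ := fun x hx => h.2 (Or.inl hx)
  rw [← M.card_T0, ← Nat.card_congr (Subgroup.subgroupOfEquivOfLe h1).toEquiv, ← Subgroup.index_mul_card (M.T0.subgroupOf _)]
  congr 1
  rw [Subgroup.index_eq_two_iff']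
  refine ⟨⟨M.s, h.2 (Or.inr (by rw [s_mul_s]; exact one_mem _))⟩, fun x => ?_⟩
  rcases h.1 x.2 with e | e
  · exact Or.inr ⟨e, fun e' => M.s_not_mem ((mul_mem_cancel_right e).1 e')⟩
  · exact Or.inl ⟨e, fun e' => M.s_not_mem ((mul_mem_cancel_right (show x.1 ∈ M.T0 from e')).1 e)⟩

theorem card_normalizer_T0 : Nat.card (Subgroup.normalizer (M.T0 : Set G)) = 6 * (Nat.card F + 1) := by
  rw [card_eq_ncard_mul _ M.h0, normalizer_inf_cent, card_cent_V,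
    show {y | ∃ g ∈ Subgroup.normalizer (M.T0 : Set G), g * M.h0 * g⁻¹ = y} = {M.h0, M.W, M.h0 * M.W} from ?_,
    Set.ncard_eq_three.2 ⟨_, _, _, M.h0_ne_W, M.h0_ne_h0W, M.W_ne_h0W, rfl⟩]
  · ring
  ext y
  constructor
  · rintro ⟨x, hx, rfl⟩
    exact (M.T0_sq ((Subgroup.mem_normalizer_iff.1 hx _).1 M.h0_mem_T0) (by rw [conj_mul, h0_mul_h0]; simp)).resolve_left
      (conj_ne_one M.h0_ne_one)
  have key : ∀ y x, x * y * x⁻¹ = M.h0 → x ∈ Subgroup.normalizer (M.T0 : Set G) →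
      ∃ g ∈ Subgroup.normalizer (M.T0 : Set G), g * M.h0 * g⁻¹ = y := fun y x h hx =>
    ⟨x⁻¹, inv_mem hx, by rw [← h]; group⟩
  rintro (rfl | rfl | rfl)
  · exact ⟨1, one_mem _, by simp⟩
  · obtain ⟨x, h1, h2⟩ := M.klein_conj M.W_ne_one M.W_mul_W M.h0_ne_one M.h0_mul_h0 M.h0_ne_W.symm M.h0_mul_W.symm
    exact key _ x h1 (M.mem_normalizer_T0 (by rcases h2 with e | e <;> rw [e]; exacts [M.W_mem_T0, M.h0W_mem_T0])
      (h1 ▸ M.h0_mem_T0))
  · obtain ⟨x, h1, h2⟩ := M.klein_conj M.h0W_ne_one M.h0W_mul_self M.h0_ne_one M.h0_mul_h0 M.h0_ne_h0W.symm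
      (by rw [mul_assoc, h0_mul_W])
    have h3 : x * M.h0 * x⁻¹ ∈ M.T0 := by rcases h2 with e | e <;> rw [e]; exacts [M.W_mem_T0, M.h0W_mem_T0]
    exact key _ x h1 (M.mem_normalizer_T0 h3 ((mul_mem_cancel_left h3).1 (by rw [conj_mul, h1]; exact M.h0_mem_T0)))

include M in
theorem comm_of_isPGroup {P : Subgroup G} (hP : IsPGroup 2 P) {x y : G} (hx : x ∈ P) (hy : y ∈ P) : x * y = y * x := by
  have := inv_eq_of_mul_eq_one_right (M.sq_of_isPGroup hP (mul_mem hx hy))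
  rwa [_root_.mul_inv_rev, inv_eq_of_mul_eq_one_right (M.sq_of_isPGroup hP hx),
    inv_eq_of_mul_eq_one_right (M.sq_of_isPGroup hP hy), eq_comm] at this

theorem exists_sylow_two : ∃ P : Sylow 2 G, M.h0 ∈ P ∧ M.W ∈ P ∧ M.s ∈ P := by
  have h1 : ∀ v ∈ M.T0, v⁻¹ = v → M.s * v = v * M.s := fun v hv e => by rw [← mul_inv_eq_iff_eq_mul, M.s_conj hv, e]
  have h2 := h1 _ M.h0_mem_T0 M.h0_inv
  have h3 := h1 _ M.W_mem_T0 M.W_inv
  have h4 := M.h0_mul_W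
  let _ := Subgroup.closureCommGroupOfComm (k := ({M.h0, M.W, M.s} : Set G)) (by
    rintro _ (rfl | rfl | rfl) _ (rfl | rfl | rfl) <;> simp only [h2, h3, h4])
  obtain ⟨P, hP⟩ := IsPGroup.exists_le_sylow (p := 2) (P := Subgroup.closure ({M.h0, M.W, M.s} : Set G)) (by
    rintro ⟨x, hx⟩
    refine ⟨1, ?_⟩
    induction hx using Subgroup.closure_induction with
    | mem x hx => rcases hx with rfl | rfl | rfl <;> exact Subtype.ext (by simp [pow_two, h0_mul_h0, W_mul_W, s_mul_s])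
    | one => exact one_pow _
    | mul x y hx hy e e' => exact (mul_pow (⟨x, hx⟩ : Subgroup.closure _) ⟨y, hy⟩ _).trans (by rw [e, e', one_mul])
    | inv x hx e => exact (inv_pow (⟨x, hx⟩ : Subgroup.closure _) _).trans (by rw [e, inv_one]))
  exact ⟨P, hP (Subgroup.subset_closure (by simp)), hP (Subgroup.subset_closure (by simp)),
    hP (Subgroup.subset_closure (by simp))⟩

theorem mem_sylow_of {P : Sylow 2 G} (h1 : M.h0 ∈ P) (h2 : M.W ∈ P) (h3 : M.s ∈ P) {x : G}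
    (a1 : x * M.h0 = M.h0 * x) (a2 : x * M.W = M.W * x) (a3 : x * M.s * x⁻¹ ∈ P) : x ∈ P := by
  have key : ∀ x ∈ M.T0, x * M.s * x⁻¹ ∈ P → x ∈ P := fun x hx h => by
    have h4 := M.sq_of_isPGroup P.isPGroup' (mul_mem h h3)
    rw [← M.s_conj hx, show x * M.s * (M.s * x * M.s⁻¹) * M.s = x * (M.s * M.s) * x by group, s_mul_s, mul_one] at h4
    rcases M.T0_sq hx (M.sq_of_four (by rw [← h4]; simp [pow_succ, mul_assoc])) with rfl | rfl | rfl | rfl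
    exacts [one_mem _, h1, h2, mul_mem h1 h2]
  rcases M.cent_V.1 ⟨a1, a2⟩ with h | h
  · exact key x h a3
  · exact (mul_mem_cancel_left h3).1 (key _ h (by simpa [mul_assoc] using mul_mem (mul_mem h3 a3) (inv_mem h3)))

include M in
theorem sylow_two (P : Sylow 2 G) : Subgroup.centralizer ((P : Subgroup G) : Set G) = P ∧
    Nat.card (Subgroup.normalizer ((P : Subgroup G) : Set G)) = 168 := by
  have := M.finite
  have := Fact.mk Nat.prime_two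
  obtain ⟨P₀, h1, h2, h3⟩ := M.exists_sylow_two
  obtain ⟨g, rfl⟩ := exists_smul_eq G P₀ P
  have hc : ∀ {x y}, x ∈ P₀ → y ∈ P₀ → x * y = y * x := M.comm_of_isPGroup P₀.isPGroup'
  have hN : ∀ {x y}, x ∈ Subgroup.normalizer ((P₀ : Subgroup G) : Set G) → y ∈ P₀ → x * y * x⁻¹ ∈ P₀ :=
    fun hx hy => (Subgroup.mem_normalizer_iff.1 hx _).1 hy
  constructor
  · refine le_antisymm (fun x hx => ?_) fun x hx y hy => M.comm_of_isPGroup (g • P₀).isPGroup' hy hx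
    have key : ∀ v ∈ P₀, g⁻¹ * x * g * v = v * (g⁻¹ * x * g) := fun v hv => by
      simpa [mul_assoc] using conj_comm g⁻¹ (hx (g * v * g⁻¹) (H11.mem_sylow_smul.2 (by simpa [mul_assoc] using hv))).symm
    exact H11.mem_sylow_smul.2 (M.mem_sylow_of h1 h2 h3 (key _ h1) (key _ h2) (by rwa [key _ h3, mul_inv_cancel_right]))
  rw [Sylow.coe_subgroup_smul, H11.conj_smul_eq_map, ← Subgroup.map_equiv_normalizer_eq _ (MulAut.conj g), H11.card_map_conj]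
  set N := Subgroup.normalizer ((P₀ : Subgroup G) : Set G)
  have hP : ((P₀ : Subgroup G) : Set G).ncard = 8 := by rw [← Nat.card_coe_set_eq]; exact M.card_sylow_two P₀
  have e1 : {y | ∃ g ∈ N, g * M.h0 * g⁻¹ = y} = ((P₀ : Subgroup G) : Set G) \ {1} := by
    ext y
    constructor
    · rintro ⟨x, hx, rfl⟩
      exact ⟨hN hx h1, conj_ne_one M.h0_ne_one⟩
    · rintro ⟨hy, hy1⟩
      obtain ⟨x, rfl⟩ := isConj_iff.1 (M.isConj_h0 hy1 (M.sq_of_isPGroup P₀.isPGroup' hy))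
      exact H3.exists_normalizer_conj_of_centralizer P₀ (fun _ h => hc h h1) fun _ h => hc h hy
  have e2 : (N ⊓ Subgroup.centralizer {M.h0}) ⊓ Subgroup.centralizer {M.W} = P₀ := by
    refine le_antisymm (fun x hx => ?_) fun x hx =>
      ⟨⟨Subgroup.le_normalizer hx, H11.mem_cent1.2 (hc hx h1)⟩, H11.mem_cent1.2 (hc hx h2)⟩
    exact M.mem_sylow_of h1 h2 h3 (H11.mem_cent1.1 hx.1.2) (H11.mem_cent1.1 hx.2) (hN hx.1.1 h3)
  set O := {y | ∃ g ∈ N ⊓ Subgroup.centralizer {M.h0}, g * M.W * g⁻¹ = y}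
  have hO : ∀ y ∈ O, ∃ g, y = M.φ g := by
    rintro _ ⟨x, hx, rfl⟩
    obtain ⟨g, rfl | rfl⟩ := M.cent_h0.1 (H11.mem_cent1.1 hx.2) <;> refine ⟨g * H12.comp 0 * g⁻¹, ?_⟩ <;>
      rw [map_mul, map_mul, map_inv, ← φ_J]
    rw [_root_.mul_inv_rev, ← map_inv, ← mul_assoc, mul_assoc M.h0, mul_assoc M.h0, ← map_mul, ← map_mul, h0_φ,
      mul_inv_cancel_right, map_mul, map_mul]
  have e3 : O ∪ (M.h0 * ·) '' O = ((P₀ : Subgroup G) : Set G) \ {1, M.h0} := by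
    have key : ∀ y ∈ P₀, ∀ k, M.φ k * y * (M.φ k)⁻¹ = M.W → y ∈ O := fun y hy k e => by
      obtain ⟨d, hd, hd'⟩ := H3.exists_mul_mem_normalizer P₀
        (H := Subgroup.centralizer {M.h0} ⊓ Subgroup.centralizer {M.W})
        (fun x hx => ⟨H11.mem_cent1.2 (hc hx h1), H11.mem_cent1.2 (hc hx h2)⟩) (g := M.φ k) (by
          rintro _ ⟨x, hx, rfl⟩
          exact ⟨H11.mem_cent1.2 (M.φ_conj_h0 k ▸ conj_comm _ (hc hx h1)), H11.mem_cent1.2 (e ▸ conj_comm _ (hc hx hy))⟩)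
      refine ⟨(d * M.φ k)⁻¹, inv_mem ⟨hd', mul_mem hd.1 (H11.mem_cent1.2 (M.h0_φ k).symm)⟩, ?_⟩
      rw [inv_inv, _root_.mul_inv_rev, mul_assoc, mul_assoc, ← mul_assoc M.W, ← H11.mem_cent1.1 hd.2, ← e]; group
    ext y
    constructor
    · rintro (hy | ⟨y, hy, rfl⟩) <;> obtain ⟨g, hg⟩ := hO y hy <;> obtain ⟨x, hx, rfl⟩ := hy
      · exact ⟨hN hx.1 h2, by simp only [Set.mem_insert_iff, Set.mem_singleton_iff, not_or]
                              exact ⟨conj_ne_one M.W_ne_one, hg ▸ M.φ_ne_h0 g⟩⟩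
      · refine ⟨mul_mem h1 (hN hx.1 h2), ?_⟩
        simp only [Set.mem_insert_iff, Set.mem_singleton_iff, not_or, mul_eq_left]
        exact ⟨hg ▸ map_one M.φ ▸ (M.φ_ne_h0_mul 1 g).symm, conj_ne_one M.W_ne_one⟩
    · rintro ⟨hy, hy1⟩
      simp only [Set.mem_insert_iff, Set.mem_singleton_iff, not_or] at hy1
      obtain ⟨k, e | e⟩ := M.invol_cent_h0 hy1.1 hy1.2 (M.sq_of_isPGroup P₀.isPGroup' hy) (hc hy h1)
      · exact Or.inl (key y hy k e)
      · exact Or.inr ⟨_, key _ (mul_mem h1 hy) k (by rw [← conj_mul, φ_conj_h0, e, h0_h0]), M.h0_h0 y⟩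
  have e4 := congrArg Set.ncard e3
  rw [Set.ncard_union_eq (Set.disjoint_left.2 ?_), Set.ncard_image_of_injective _ (mul_right_injective _),
    Set.ncard_sdiff (by rintro _ (rfl | rfl); exacts [one_mem _, h1]), hP, Set.ncard_pair M.h0_ne_one.symm] at e4
  · rw [card_eq_ncard_mul N M.h0, card_eq_ncard_mul _ M.W, e1, e2, Set.ncard_sdiff_singleton_of_mem (one_mem _), hP,
      M.card_sylow_two P₀, show O.ncard = 3 by omega]
  · rintro y hy ⟨z, hz, rfl⟩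
    obtain ⟨g, hg⟩ := hO _ hy
    obtain ⟨h, rfl⟩ := hO _ hz
    exact M.φ_ne_h0_mul g h hg.symm

end Cfsg.Agent.H15.Ree.Model
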