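import Cfsg.Agent.H15.Ree6
import Cfsg.Agent.H15.TI2

/-! Small Ree groups: classification and counting of elements. -/

set_option autoImplicit false

namespace Cfsg.Agent.H15

open MulAction

theorem card_conj_of_cent {G : Type*} [Group G] [Finite G] {T : Subgroup G}
    (hT : ∀ u ∈ T, u * u ≠ 1 → Subgroup.centralizer {u} = T) (p : ℕ → Prop) (hp : ∀ n, p n → 2 < n) :
    {g | p (orderOf g) ∧ ∃ x, x * g * x⁻¹ ∈ T}.ncard * Nat.card (Subgroup.normalizer (T : Set G)) =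
      Nat.card G * {t | t ∈ T ∧ p (orderOf t)}.ncard := by
  have key : ∀ u : G, p (orderOf u) → u * u ≠ 1 := fun u h e =>
    (hp _ h).not_ge (Nat.le_of_dvd two_pos (orderOf_dvd_of_pow_eq_one (by rwa [pow_two])))
  rw [← card_conj_union (P := {t | t ∈ T ∧ p (orderOf t)})]
  · congr 2; ext g; simp only [Set.mem_ofPred_eq, H11.orderOf_conj, exists_and_right]; exact and_comm
  · exact fun n hn t ht => ⟨(Subgroup.mem_normalizer_iff.1 hn _).1 ht.1, by rw [H11.orderOf_conj]; exact ht.2⟩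
  · intro x t h1 h2
    rw [← H11.map_conj_eq_iff_mem_normalizer, ← hT _ h1.1 (key _ h1.2), ← centralizer_conj, hT _ h2.1 (key _ h2.2),
      hT _ h1.1 (key _ h1.2)]

theorem conj_mem_of_cent {G : Type*} [Group G] {T : Subgroup G} {g x : G} {n : ℕ}
    (h : Subgroup.centralizer {x * g ^ n * x⁻¹} ≤ T) : x * g * x⁻¹ ∈ T :=
  h (H11.mem_cent1.2 (conj_comm x (Commute.self_pow g n)))

namespace Ree.Model

variable {G : Type*} [Group G] {F : Type*} [Field F] [CharP F 3] (M : Model G F)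

theorem QD_pow {u : G} (hu : u ∈ M.Q) (k : Fˣ) (n : ℕ) : ∃ v ∈ M.Q, (u * M.D k) ^ n = v * M.D (k ^ n) := by
  induction n with
  | zero => exact ⟨1, one_mem _, by simp⟩
  | succ n ih =>
    obtain ⟨v, hv, e⟩ := ih
    exact ⟨_, mul_mem hv (M.D_conj_Q (k ^ n) hu), by rw [pow_succ, e, pow_succ, map_mul]; group⟩

theorem pow_eq_one_of_mem {u : G} (hu : u ∈ M.Q) {k : Fˣ} {n : ℕ} (h : (u * M.D k) ^ n ∈ M.Q) : k ^ n = 1 := by
  obtain ⟨v, hv, e⟩ := M.QD_pow hu k n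
  exact (M.QD_unique hv h (by rw [map_one, mul_one, e])).2

theorem mem_Q_of_cube {g : G} (hg : g ∈ M.B) (h : g ^ 3 ∈ M.Q) : g ∈ M.Q := by
  obtain ⟨u, hu, k, rfl⟩ := hg
  have := congrArg Units.val (M.pow_eq_one_of_mem hu h)
  rw [Units.val_pow_eq_pow_val, Units.val_one] at this
  rwa [show k = 1 from Units.ext (by rw [Units.val_one]; grind), map_one, mul_one]

theorem cases_of_sq {g : G} (hg : g ∈ M.B) (h : g ^ 2 ∈ M.Q) : g ∈ M.Q ∨ ∃ a b c, g = M.S a b c * M.h0 := by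
  obtain ⟨u, hu, k, rfl⟩ := hg
  rcases sq_eq_one_iff.1 (congrArg Units.val (M.pow_eq_one_of_mem hu h)) with e | e
  · left; rwa [show k = 1 from Units.ext e, map_one, mul_one]
  · obtain ⟨a, b, c, rfl⟩ := hu
    exact Or.inr ⟨a, b, c, by rw [show k = -1 from Units.ext e, h0]⟩

theorem Sh0_sq (a b c : F) : (M.S a b c * M.h0) ^ 2 = M.S 0 (a * M.σ a - b) (a * b - a ^ 2 * M.σ a) := by
  rw [pow_two, mul_assoc, ← mul_assoc M.h0, h0_mul_S, mul_assoc, h0_mul_h0, mul_one, S_mul, S_inj, map_neg]; grind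

theorem Sh0_pow_six (a b c : F) : (M.S a b c * M.h0) ^ 6 = 1 := by
  rw [show 6 = 2 * 3 from rfl, pow_mul, Sh0_sq, S_pow_three_eq_one]

theorem Sh0_not_mem (a b c : F) : M.S a b c * M.h0 ∉ M.Q := fun h =>
  neg_one_ne (M.QD_unique (M.S_mem a b c) h (by rw [map_one, mul_one, h0])).2

theorem cent_Q {u x : G} (hu : u ∈ M.Q) (h1 : u ≠ 1) (h : x * u = u * x) : x ∈ M.B ∧ x ^ 2 ∈ M.Q := by
  have hx : x ∈ M.B := M.mem_B_of_conj h1 hu (by rwa [h, mul_inv_cancel_right])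
  refine ⟨hx, ?_⟩
  classical
  obtain ⟨_, ⟨x, y, z, rfl⟩, k, rfl⟩ := hx
  obtain ⟨a, b, c, rfl⟩ := hu
  rw [mul_assoc, D_mul_S, ← mul_assoc, ← mul_assoc, mul_left_inj, S_mul, S_mul, S_inj] at h
  have hk : k ^ 2 = 1 := by
    by_cases ha : a = 0
    · subst ha
      simp only [mul_zero, map_zero] at h
      rcases M.scale_fix (k := k) (a := 0) (b := b) (c := if b = 0 then c else 0) (by split_ifs <;> grind) with
        rfl | ⟨rfl, -⟩ | ⟨-, rfl, e⟩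
      exacts [one_pow _, neg_one_sq, absurd (M.S_eq_one.2 ⟨rfl, rfl, by simpa using e⟩) h1]
    · rw [show k = 1 from Units.ext (by rw [Units.val_one]; grind), one_pow]
  obtain ⟨v, hv, e⟩ := M.QD_pow (M.S_mem x y z) k 2
  rwa [e, hk, map_one, mul_one]

theorem norm_D {a : Fˣ} (h1 : a ≠ 1) (h2 : a ≠ -1) {g : G} {b : Fˣ} (hb : M.D b = g * M.D a * g⁻¹) :
    (∃ b, g = M.D b) ∨ ∃ b, g = M.W * M.D b := by
  have key : ∀ p, M.D b • p = p → g⁻¹ • p = M.inf ∨ g⁻¹ • p = M.pt 0 0 0 := fun p hp =>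
    M.D_fix h1 h2 (by rw [eq_inv_smul_iff, ← mul_smul, ← mul_smul, ← hb, hp])
  have h3 : g⁻¹ • M.inf ≠ g⁻¹ • M.pt 0 0 0 := fun e => M.pt_ne_inf 0 0 0 (MulAction.injective _ e).symm
  rcases key _ (M.D_smul_inf b) with e | e <;> rcases key _ (M.D_smul_zero b) with e' | e'
  · exact absurd (e.trans e'.symm) h3
  · exact Or.inl (M.exists_D (inv_smul_eq_iff.1 e).symm (inv_smul_eq_iff.1 e').symm)
  · exact Or.inr (M.exists_WD (inv_smul_eq_iff.1 e').symm (inv_smul_eq_iff.1 e).symm)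
  · exact absurd (e.trans e'.symm) h3

theorem WD_conj (a b : Fˣ) : M.W * M.D b * M.D a * (M.W * M.D b)⁻¹ = M.D a⁻¹ := by
  rw [← W_D_W, mul_assoc M.W, D_comm, _root_.mul_inv_rev, W_inv]; group

theorem D_sq_ne {a : Fˣ} : M.D a * M.D a ≠ 1 ↔ a ≠ 1 ∧ a ≠ -1 := by
  rw [← map_mul, Ne, D_eq_one, Units.ext_iff, Units.val_mul, Units.val_one, mul_self_eq_one_iff, not_or, Ne, Ne,
    Units.ext_iff, Units.ext_iff]; rfl

theorem cent_D {x : G} (hx : x ∈ M.D.range) (h2 : x * x ≠ 1) : Subgroup.centralizer {x} = M.D.range := by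
  obtain ⟨a, rfl⟩ := hx
  ext g
  rw [H11.mem_cent1]
  refine ⟨fun h => ?_, by rintro ⟨b, rfl⟩; exact M.D_comm b a⟩
  rcases M.norm_D (M.D_sq_ne.1 h2).1 (M.D_sq_ne.1 h2).2 (g := g) (b := a) (by rw [h, mul_inv_cancel_right]) with
    ⟨b, rfl⟩ | ⟨b, rfl⟩
  · exact ⟨b, rfl⟩
  · have h1 := M.WD_conj a b
    rw [h, mul_inv_cancel_right] at h1
    exact absurd (by nth_rw 1 [h1]; rw [← map_mul, inv_mul_cancel, map_one]) h2

omit [CharP F 3] in
theorem exists_unit [Finite F] (hF : 3 < Nat.card F) : ∃ a : Fˣ, a ≠ 1 ∧ a ≠ -1 := by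
  by_contra! h
  have : Nat.card Fˣ ≤ ({1, -1} : Set Fˣ).ncard := by
    rw [← Set.ncard_univ]; exact Set.ncard_le_ncard fun a _ => or_iff_not_imp_left.2 (h a)
  have := Set.ncard_insert_le (1 : Fˣ) {-1}
  rw [Set.ncard_singleton] at this
  rw [Nat.card_units] at *; omega

theorem card_normalizer_D [Finite F] (hF : 3 < Nat.card F) :
    Nat.card (Subgroup.normalizer (M.D.range : Set G)) = 2 * (Nat.card F - 1) := by
  have := M.finite
  obtain ⟨a, h1, h2⟩ := exists_unit hF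
  have hN : M.W ∈ Subgroup.normalizer (M.D.range : Set G) :=
    mem_normalizer_of_le (by rintro _ ⟨c, rfl⟩; exact ⟨c⁻¹, by rw [W_inv, W_D_W]⟩)
  rw [card_eq_ncard_mul _ (M.D a), M.cent_D ⟨a, rfl⟩ (M.D_sq_ne.2 ⟨h1, h2⟩), inf_eq_right.2 Subgroup.le_normalizer, card_D,
    show {y | ∃ g ∈ Subgroup.normalizer (M.D.range : Set G), g * M.D a * g⁻¹ = y} = {M.D a, M.D a⁻¹} from ?_,
    Set.ncard_pair fun e => M.D_sq_ne.2 ⟨h1, h2⟩ (by nth_rw 1 [e]; rw [← map_mul, inv_mul_cancel, map_one])]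
  ext y
  constructor
  · rintro ⟨g, hg, rfl⟩
    obtain ⟨b, hb⟩ := (Subgroup.mem_normalizer_iff.1 hg _).1 ⟨a, rfl⟩
    rcases M.norm_D h1 h2 hb with ⟨b, rfl⟩ | ⟨b, rfl⟩
    exacts [Or.inl (by rw [D_comm, mul_inv_cancel_right]), Or.inr (M.WD_conj a b)]
  · rintro (rfl | rfl)
    exacts [⟨1, one_mem _, by simp⟩, ⟨_, hN, by rw [W_inv, W_D_W]⟩]

theorem isCyclic_D [Finite F] : IsCyclic M.D.range :=
  isCyclic_of_surjective _ (MonoidHom.ofInjective M.D_inj).surjective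

variable [Finite F]

omit [Group G] in
theorem arith : ∃ k, Nat.card F = 3 * k + 3 ∧ Nat.card F - 1 = 3 * k + 2 ∧
    Nat.card F ^ 2 - Nat.card F + 1 = 9 * k ^ 2 + 15 * k + 7 := by
  obtain ⟨k, hk⟩ := three_dvd (F := F)
  obtain ⟨k, rfl⟩ : ∃ l, k = l + 1 := ⟨k - 1, by have := Nat.card_pos (α := F); omega⟩
  refine ⟨k, hk, by omega, ?_⟩
  rw [hk, show (3 * (k + 1)) ^ 2 = 9 * k ^ 2 + 15 * k + 6 + 3 * (k + 1) by ring]; omega

include M in
theorem card_G' : Nat.card G = Nat.card F ^ 3 * (Nat.card F - 1) * (Nat.card F + 1) * (Nat.card F ^ 2 - Nat.card F + 1) := by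
  obtain ⟨k, h1, h2, h3⟩ := arith (F := F)
  rw [M.card_G, h3, h2, h1]; ring

omit [Group G] in
theorem coprime_n6 : (Nat.card F ^ 2 - Nat.card F + 1).Coprime (Nat.card F * (Nat.card F - 1) * (Nat.card F + 1)) := by
  obtain ⟨k, h1, h2, h3⟩ := arith (F := F)
  rw [h3, h2, h1]
  refine Nat.Coprime.mul_right ?_ ?_
  · rw [show 9 * k ^ 2 + 15 * k + 7 = 1 + (3 * k + 3) * (3 * k + 2) by ring]; simp
  · rw [show 9 * k ^ 2 + 15 * k + 7 = 3 + (3 * k + 1) * (3 * k + 3 + 1) by ring, Nat.coprime_add_mul_right_left,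
      show 3 * k + 3 + 1 = 1 + 3 * (k + 1) by ring]; simp

omit [Group G] in
theorem dvd_cases {r : ℕ} (hr : r.Prime) (h : r ∣ Nat.card F ^ 3) : r = 3 := by
  have := Fintype.ofFinite F
  obtain ⟨n, -, e⟩ := FiniteField.card F 3
  rw [Nat.card_eq_fintype_card, e, ← pow_mul] at h
  exact (Nat.prime_dvd_prime_iff_eq hr Nat.prime_three).1 (hr.dvd_of_dvd_pow h)

theorem of_three_dvd {g : G} (h : 3 ∣ orderOf g) : ∃ x, x * g * x⁻¹ ∈ M.B ∧ (x * g * x⁻¹) ^ 2 ∈ M.Q := by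
  have := M.finite
  obtain ⟨n, hn⟩ := exists_pow_prime h
  obtain ⟨x, hx⟩ := exists_conj_mem_of_not_dvd_index Nat.prime_three hn M.not_dvd_index_Q
  exact ⟨x, M.cent_Q hx (conj_ne_one (by rintro e; simp [e] at hn)) (conj_comm x (Commute.self_pow g n))⟩

include M in
theorem order_of_three_dvd {g : G} (h : 3 ∣ orderOf g) : orderOf g = 3 ∨ orderOf g = 6 ∨ orderOf g = 9 := by
  obtain ⟨x, h1, h2⟩ := M.of_three_dvd h
  rw [← H11.orderOf_conj x] at h ⊢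
  rcases M.cases_of_sq h1 h2 with e | ⟨a, b, c, e⟩
  · have h3 := orderOf_dvd_of_pow_eq_one (M.Q_pow_nine e)
    have := Nat.le_of_dvd (by decide) h3
    generalize orderOf (x * g * x⁻¹) = n at *
    interval_cases n <;> omega
  · have h3 := orderOf_dvd_of_pow_eq_one (e ▸ M.Sh0_pow_six a b c : (x * g * x⁻¹) ^ 6 = 1)
    have := Nat.le_of_dvd (by decide) h3
    generalize orderOf (x * g * x⁻¹) = n at *
    interval_cases n <;> omega

theorem sq_ne_one_of {g : G} {r : ℕ} (hr : r.Prime) (h2 : r ≠ 2) (h : orderOf g = r) : g * g ≠ 1 := fun e =>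
  h2 ((Nat.prime_dvd_prime_iff_eq hr Nat.prime_two).1 (h ▸ orderOf_dvd_of_pow_eq_one (by rwa [pow_two])))

theorem not_dvd_index_D {r : ℕ} (hr : r.Prime) (h2 : r ≠ 2) (hq : r ∣ Nat.card F - 1) : ¬ r ∣ M.D.range.index := by
  have := M.finite
  have h := M.D.range.card_mul_index
  obtain ⟨k, h1, h3, -⟩ := arith (F := F)
  rw [M.card_G, card_D, mul_comm (_ ^ 3), mul_assoc] at h
  rw [Nat.eq_of_mul_eq_mul_left (by omega) h, hr.dvd_mul, h1]
  rw [h3] at hq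
  rintro (e | e)
  · exact hr.not_dvd_one ((Nat.dvd_add_right hq).1 (hr.dvd_of_dvd_pow e))
  · rw [show (3 * k + 3) ^ 3 + 1 = (3 * k + 2) * (9 * k ^ 2 + 21 * k + 13) + 2 by ring, Nat.dvd_add_right (hq.mul_right _)] at e
    exact h2 ((Nat.prime_dvd_prime_iff_eq hr Nat.prime_two).1 e)

theorem not_dvd_index_T0 {r : ℕ} (hr : r.Prime) (h2 : r ≠ 2) (hq : r ∣ Nat.card F + 1) : ¬ r ∣ M.T0.index := by
  have := M.finite
  have h := M.T0.card_mul_index
  rw [M.card_G', card_T0, mul_comm _ (Nat.card F + 1), mul_assoc] at h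
  rw [Nat.eq_of_mul_eq_mul_left (by omega) h, hr.dvd_mul, hr.dvd_mul]
  rintro ((e | e) | e)
  · exact hr.not_dvd_one ((Nat.dvd_add_right (hr.dvd_of_dvd_pow e)).1 hq)
  · rw [show Nat.card F + 1 = Nat.card F - 1 + 2 by have := Nat.card_pos (α := F); omega, Nat.dvd_add_right e] at hq
    exact h2 ((Nat.prime_dvd_prime_iff_eq hr Nat.prime_two).1 hq)
  · exact hr.not_dvd_one (Nat.dvd_one.2 (Nat.eq_one_of_dvd_coprimes coprime_n6 e (hq.mul_left _)))

theorem conj_D_of {g : G} {r : ℕ} (hr : r.Prime) (h2 : r ≠ 2) (h : r ∣ orderOf g) (hq : r ∣ Nat.card F - 1) :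
    ∃ x, x * g * x⁻¹ ∈ M.D.range := by
  have := M.finite
  obtain ⟨n, hn⟩ := exists_pow_prime h
  obtain ⟨x, hx⟩ := exists_conj_mem_of_not_dvd_index hr hn (M.not_dvd_index_D hr h2 hq)
  exact ⟨x, conj_mem_of_cent (M.cent_D hx (sq_ne_one_of hr h2 (by rwa [H11.orderOf_conj]))).le⟩

theorem conj_T0_of {g : G} {r : ℕ} (hr : r.Prime) (h2 : r ≠ 2) (h : r ∣ orderOf g) (hq : r ∣ Nat.card F + 1) :
    ∃ x, x * g * x⁻¹ ∈ M.T0 := by
  have := M.finite
  obtain ⟨n, hn⟩ := exists_pow_prime h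
  obtain ⟨x, hx⟩ := exists_conj_mem_of_not_dvd_index hr hn (M.not_dvd_index_T0 hr h2 hq)
  exact ⟨x, conj_mem_of_cent (M.cent_T0 hx (sq_ne_one_of hr h2 (by rwa [H11.orderOf_conj]))).le⟩

theorem order_of_conj_D {g x : G} (h : x * g * x⁻¹ ∈ M.D.range) : orderOf g ∣ Nat.card F - 1 := by
  rw [← H11.orderOf_conj x, ← M.card_D]; exact Subgroup.orderOf_dvd_natCard _ h

theorem order_of_conj_T0 {g x : G} (h : x * g * x⁻¹ ∈ M.T0) : orderOf g ∣ (Nat.card F + 1) / 2 := by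
  rw [← H11.orderOf_conj x]; exact orderOf_dvd_of_pow_eq_one (M.T0_pow h)

include M in
theorem order_of_even {g : G} (h : 2 ∣ orderOf g) : orderOf g ∣ Nat.card F * (Nat.card F - 1) * (Nat.card F + 1) := by
  have := M.finite
  obtain ⟨n, hn⟩ := exists_pow_prime h
  obtain ⟨x, hx⟩ := isConj_iff.1 (M.isConj_h0 (H11.ne_one_of_orderOf_two hn) (H11.mul_self_of_orderOf_two hn)).symm
  have := Subgroup.orderOf_dvd_natCard _ (conj_mem_of_cent (T := Subgroup.centralizer {M.h0}) (by rw [hx]))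
  rwa [H11.orderOf_conj, card_cent_h0, ← one_pow 2, Nat.sq_sub_sq, mul_comm (_ + 1), ← mul_assoc] at this

include M in
theorem prime_cases {r : ℕ} (hr : r.Prime) (h : r ∣ Nat.card G) :
    r = 3 ∨ r ∣ Nat.card F - 1 ∨ r ∣ Nat.card F + 1 ∨ r ∣ Nat.card F ^ 2 - Nat.card F + 1 := by
  rw [M.card_G', hr.dvd_mul, hr.dvd_mul, hr.dvd_mul, or_assoc, or_assoc] at h
  exact h.imp_left (dvd_cases hr)

include M in
theorem exists_odd_prime {g : G} (h : g * g ≠ 1) : ∃ r, r.Prime ∧ r ≠ 2 ∧ r ∣ orderOf g := by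
  have := M.finite
  by_contra! h1
  exact h (M.sq_of_isPGroup (H11.isPGroup_zpowers_of_orderOf (Nat.eq_prime_pow_of_unique_prime_dvd (orderOf_pos g).ne'
    fun hd e => by_contra fun e' => h1 _ hd e' e)) (Subgroup.mem_zpowers g))

include M in
theorem order_dvd_n6 {g : G} {r : ℕ} (hr : r.Prime) (h : r ∣ orderOf g) (hq : r ∣ Nat.card F ^ 2 - Nat.card F + 1) :
    orderOf g ∣ Nat.card F ^ 2 - Nat.card F + 1 := by
  have := M.finite
  have h0 : ¬ r ∣ Nat.card F * (Nat.card F - 1) * (Nat.card F + 1) := fun e =>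
    hr.not_dvd_one (Nat.dvd_one.2 (Nat.eq_one_of_dvd_coprimes coprime_n6 hq e))
  have h4 := M.card_mod_four
  have h3 := three_dvd (F := F)
  have h2 : ¬ 2 ∣ orderOf g := fun e => h0 (h.trans (M.order_of_even e))
  refine (Nat.Coprime.dvd_mul_left (Nat.coprime_of_dvd fun p hp e e' => ?_)).1 (M.card_G' ▸ orderOf_dvd_natCard g)
  have hp2 : p ≠ 2 := by rintro rfl; exact h2 e
  rcases (hp.dvd_mul.1 e').imp_left hp.dvd_mul.1 with (a | a) | a
  · obtain rfl := dvd_cases hp a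
    have h5 : orderOf g ∣ 3 ^ 2 := by rcases M.order_of_three_dvd e with b | b | b <;> simp_all
    obtain rfl := (Nat.prime_dvd_prime_iff_eq hr hp).1 (hr.dvd_of_dvd_pow (h.trans h5))
    exact h0 ((h3.mul_right _).mul_right _)
  · obtain ⟨x, hx⟩ := M.conj_D_of hp hp2 e a
    exact h0 (((h.trans (M.order_of_conj_D hx)).mul_left _).mul_right _)
  · obtain ⟨x, hx⟩ := M.conj_T0_of hp hp2 e a
    exact h0 (((h.trans (M.order_of_conj_T0 hx)).trans (Nat.div_dvd_of_dvd (by omega))).mul_left _)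

theorem classify (g : G) : g * g = 1 ∨ 3 ∣ orderOf g ∨ (∃ x, x * g * x⁻¹ ∈ M.D.range) ∨ (∃ x, x * g * x⁻¹ ∈ M.T0) ∨
    orderOf g ∣ Nat.card F ^ 2 - Nat.card F + 1 := by
  have := M.finite
  refine or_iff_not_imp_left.2 fun h => ?_
  obtain ⟨r, hr, h2, h3⟩ := M.exists_odd_prime h
  exact (M.prime_cases hr (h3.trans (orderOf_dvd_natCard g))).imp (fun e => by rwa [e] at h3)
    (Or.imp (M.conj_D_of hr h2 h3) (Or.imp (M.conj_T0_of hr h2 h3) (M.order_dvd_n6 hr h3)))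

omit [Group G] in
theorem not_dvd_both {d : ℕ} (h : 2 < d) (h1 : d ∣ Nat.card F - 1) (h2 : d ∣ Nat.card F + 1) : False := by
  rw [show Nat.card F + 1 = Nat.card F - 1 + 2 by have := Nat.card_pos (α := F); omega, Nat.dvd_add_right h1] at h2
  exact h.not_ge (Nat.le_of_dvd two_pos h2)

theorem conj_D_of_dvd {g : G} (h : 2 < orderOf g) (hq : orderOf g ∣ Nat.card F - 1) : ∃ x, x * g * x⁻¹ ∈ M.D.range := by
  obtain ⟨r, hr, h2, h3⟩ := M.exists_odd_prime (g := g) fun e =>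
    h.not_ge (Nat.le_of_dvd two_pos (orderOf_dvd_of_pow_eq_one (by rwa [pow_two])))
  exact M.conj_D_of hr h2 h3 (h3.trans hq)

theorem conj_T0_of_dvd {g : G} (h : 2 < orderOf g) (hq : orderOf g ∣ Nat.card F + 1) : ∃ x, x * g * x⁻¹ ∈ M.T0 := by
  obtain ⟨r, hr, h2, h3⟩ := M.exists_odd_prime (g := g) fun e =>
    h.not_ge (Nat.le_of_dvd two_pos (orderOf_dvd_of_pow_eq_one (by rwa [pow_two])))
  exact M.conj_T0_of hr h2 h3 (h3.trans hq)

end Ree.Model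

end Cfsg.Agent.H15
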