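import Cfsg.Agent.H15.Ree7
import Cfsg.Agent.H15.Sz4

/-! Small Ree groups: numbers of elements; the cyclic Hall subgroups of orders `q ± r + 1`. -/

set_option autoImplicit false

namespace Cfsg.Agent.H15.Ree.Model

open MulAction

variable {G : Type*} [Group G] {F : Type*} [Field F] [CharP F 3] [Finite F] (M : Model G F)

include M in
theorem count_two : {g : G | orderOf g = 2}.ncard = Nat.card F ^ 2 * (Nat.card F ^ 2 - Nat.card F + 1) := by
  have h := card_eq_ncard_mul ⊤ M.h0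
  rw [top_inf_eq, card_cent_h0, Subgroup.card_top, M.card_G', ← one_pow 2, Nat.sq_sub_sq,
    show {y | ∃ g ∈ (⊤ : Subgroup G), g * M.h0 * g⁻¹ = y} = {g : G | orderOf g = 2} from Set.ext fun y =>
      ⟨by rintro ⟨g, -, rfl⟩; exact (H11.orderOf_conj _ _).trans M.orderOf_h0, fun hy => by
        simpa using isConj_iff.1 (M.isConj_h0 (H11.ne_one_of_orderOf_two hy) (H11.mul_self_of_orderOf_two hy))⟩] at h
  obtain ⟨k, h1, h2, -⟩ := arith (F := F)
  refine Nat.eq_of_mul_eq_mul_right (show 0 < Nat.card F * ((Nat.card F + 1) * (Nat.card F - 1)) by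
    rw [h2, h1]; positivity) ?_
  rw [← h]; ring

theorem count_B {i : ℕ} (hi : 3 ∣ i) (h0 : 0 < i) :
    {g : G | orderOf g = i}.ncard = (Nat.card F ^ 3 + 1) * {g | g ∈ M.B ∧ orderOf g = i}.ncard := by
  have := M.finite
  have h := card_conj_union (N := M.B) (P := {g | g ∈ M.B ∧ orderOf g = i})
    (fun n hn t ht => ⟨mul_mem (mul_mem hn ht.1) (inv_mem hn), (H11.orderOf_conj _ _).trans ht.2⟩) fun x t h1 h2 => by
      obtain ⟨n, hn⟩ := exists_pow_prime (g := t) (p := 3) (h1.2 ▸ hi)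
      have h3 : (t ^ n) ^ 3 = 1 := hn ▸ pow_orderOf_eq_one _
      exact M.mem_B_of_conj (by rintro e; simp [e] at hn) (M.mem_Q_of_cube (pow_mem h1.1 n) (h3 ▸ one_mem _))
        (M.mem_Q_of_cube (by rw [← conj_pow]; exact pow_mem h2.1 n) (by simp [h3]))
  rw [show {g | ∃ x, x * g * x⁻¹ ∈ {g | g ∈ M.B ∧ orderOf g = i}} = {g : G | orderOf g = i} from Set.ext fun g =>
    ⟨fun ⟨x, hx⟩ => (H11.orderOf_conj x g).symm.trans hx.2, fun hg => (M.of_three_dvd (hg ▸ hi)).imp fun x hx =>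
      ⟨hx.1, (H11.orderOf_conj x g).trans hg⟩⟩, M.card_G, ← M.card_B] at h
  exact Nat.eq_of_mul_eq_mul_right (Nat.card_pos (α := M.B)) (by rw [h]; ring)

include M in
theorem count_three : {g : G | orderOf g = 3}.ncard = (Nat.card F ^ 2 - 1) * (Nat.card F ^ 3 + 1) := by
  rw [M.count_B dvd_rfl three_pos, mul_comm, ← M.card_order_three, ← Nat.card_coe_set_eq]
  congr 1
  exact Nat.card_congr ⟨fun g => ⟨⟨g, M.mem_Q_of_cube g.2.1 (by rw [orderOf_dvd_iff_pow_eq_one.1 g.2.2.dvd]; exact one_mem _)⟩,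
    (Subgroup.orderOf_coe _).symm.trans g.2.2⟩, fun u => ⟨u.1, M.Q_le_B u.1.2, (Subgroup.orderOf_coe _).trans u.2⟩,
    fun _ => rfl, fun _ => rfl⟩

omit [CharP F 3] in
theorem card_unit_prod : Nat.card (Fˣ × F × F) = Nat.card F ^ 2 * (Nat.card F - 1) := by
  rw [Nat.card_prod, Nat.card_prod, Nat.card_units]; ring

omit [Finite F] in
theorem orderOf_S {a : F} (ha : a ≠ 0) (b c : F) : orderOf (M.S a b c) = 9 :=
  orderOf_eq_prime_pow (p := 3) (n := 1) (by simpa [S_pow_three_eq_one] using ha) (M.S_pow_nine a b c)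

omit [Finite F] in
theorem orderOf_Sh0 {a b : F} (h : b ≠ a * M.σ a) (c : F) : orderOf (M.S a b c * M.h0) = 6 := by
  have h1 := orderOf_dvd_of_pow_eq_one (M.Sh0_pow_six a b c)
  have h2 : ¬ orderOf (M.S a b c * M.h0) ∣ 2 := by
    rw [orderOf_dvd_iff_pow_eq_one, Sh0_sq, S_eq_one]; grind
  have h3 : ¬ orderOf (M.S a b c * M.h0) ∣ 3 := fun e => M.Sh0_not_mem a b c
    (M.mem_Q_of_cube ⟨_, M.S_mem a b c, _, rfl⟩ (orderOf_dvd_iff_pow_eq_one.1 e ▸ one_mem _))
  have := Nat.le_of_dvd (by decide) h1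
  generalize orderOf (M.S a b c * M.h0) = n at *
  interval_cases n <;> omega

include M in
theorem count_nine : {g : G | orderOf g = 9}.ncard = Nat.card F ^ 2 * (Nat.card F - 1) * (Nat.card F ^ 3 + 1) := by
  rw [M.count_B (by decide) (by decide), mul_comm, ← card_unit_prod, ← Nat.card_coe_set_eq]
  congr 1
  symm
  refine Nat.card_eq_of_bijective (fun p => ⟨M.S p.1 p.2.1 p.2.2, M.Q_le_B (M.S_mem _ _ _), M.orderOf_S p.1.ne_zero _ _⟩)
    ⟨fun p p' h => ?_, fun ⟨g, hg, h⟩ => ?_⟩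
  · have := M.S_inj.1 (congrArg Subtype.val h)
    exact Prod.ext (Units.ext this.1) (Prod.ext this.2.1 this.2.2)
  obtain ⟨a, b, c, rfl⟩ := M.mem_Q_of_cube hg (M.mem_Q_of_cube (pow_mem hg 3) (by
    rw [← pow_mul, ← show orderOf g = 3 * 3 from h, pow_orderOf_eq_one]; exact one_mem _))
  refine ⟨(Units.mk0 a fun e => ?_, b, c), rfl⟩
  simpa [h] using orderOf_dvd_of_pow_eq_one ((M.S_pow_three_eq_one (b := b) (c := c)).2 e)

include M in
theorem count_six : {g : G | orderOf g = 6}.ncard = Nat.card F ^ 2 * (Nat.card F - 1) * (Nat.card F ^ 3 + 1) := by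
  rw [M.count_B (by decide) (by decide), mul_comm, ← card_unit_prod, ← Nat.card_coe_set_eq]
  congr 1
  symm
  refine Nat.card_eq_of_bijective (fun p => ⟨M.S p.2.1 (p.1 + p.2.1 * M.σ p.2.1) p.2.2 * M.h0, ⟨_, M.S_mem _ _ _, _, rfl⟩,
    M.orderOf_Sh0 (by simp) _⟩) ⟨fun p p' h => ?_, fun ⟨g, hg, h⟩ => ?_⟩
  · have := M.S_inj.1 (mul_right_cancel (congrArg Subtype.val h))
    exact Prod.ext (Units.ext (by grind)) (Prod.ext this.1 this.2.2)
  rcases M.cases_of_sq hg (M.mem_Q_of_cube (pow_mem hg 2) (by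
    rw [← pow_mul, ← show orderOf g = 2 * 3 from h, pow_orderOf_eq_one]; exact one_mem _)) with e | ⟨a, b, c, rfl⟩
  · simpa [h] using orderOf_dvd_of_pow_eq_one (M.Q_pow_nine e)
  refine ⟨(Units.mk0 (b - a * M.σ a) fun e => ?_, a, c), by simp⟩
  simpa [h] using orderOf_dvd_of_pow_eq_one (show (M.S a b c * M.h0) ^ 2 = 1 by rw [Sh0_sq, S_eq_one]; grind)

theorem count_D (hF : 3 < Nat.card F) (p : ℕ → Prop) (hp : ∀ n, p n → 2 < n ∧ n ∣ Nat.card F - 1) :
    {g : G | p (orderOf g)}.ncard * (2 * (Nat.card F - 1)) = Nat.card G * {t | t ∈ M.D.range ∧ p (orderOf t)}.ncard := by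
  have := M.finite
  rw [← card_conj_of_cent (fun _ => M.cent_D) p fun n h => (hp n h).1, M.card_normalizer_D hF]
  congr 2; ext g
  exact (and_iff_left_of_imp fun h => M.conj_D_of_dvd (hp _ h).1 (hp _ h).2).symm

theorem count_T0 (p : ℕ → Prop) (hp : ∀ n, p n → 2 < n ∧ n ∣ Nat.card F + 1) :
    {g : G | p (orderOf g)}.ncard * (6 * (Nat.card F + 1)) = Nat.card G * {t | t ∈ M.T0 ∧ p (orderOf t)}.ncard := by
  have := M.finite
  rw [← card_conj_of_cent (fun _ => M.cent_T0) p fun n h => (hp n h).1, M.card_normalizer_T0]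
  congr 2; ext g
  exact (and_iff_left_of_imp fun h => M.conj_T0_of_dvd (hp _ h).1 (hp _ h).2).symm

omit [Finite F] in
theorem two_lt_orderOf [Finite G] {g : G} : 2 < orderOf g ↔ g * g ≠ 1 := by
  rw [Ne, ← pow_two, ← orderOf_dvd_iff_pow_eq_one, Nat.dvd_prime Nat.prime_two]
  have := orderOf_pos g
  omega

/-- The non-identity elements of order dividing `q² - q + 1`. -/
def Pi (_ : Model G F) (g : G) : Prop := g ≠ 1 ∧ orderOf g ∣ Nat.card F ^ 2 - Nat.card F + 1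

theorem count_Pi (hF : 3 < Nat.card F) : 3 * {g | M.Pi g}.ncard * (Nat.card F ^ 2 - Nat.card F + 1) =
    Nat.card G * (Nat.card F * (Nat.card F - 2)) := by
  have := M.finite
  have h4 := M.card_mod_four
  have c1 := M.count_D hF (fun n => 2 < n ∧ n ∣ Nat.card F - 1) fun _ => id
  have c2 := M.count_T0 (fun n => 2 < n ∧ n ∣ Nat.card F + 1) fun _ => id
  rw [show {t | t ∈ M.D.range ∧ 2 < orderOf t ∧ orderOf t ∣ Nat.card F - 1} = (M.D.range : Set G) \ {1, M.h0} from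
    Set.ext fun t => ?_, Set.ncard_sdiff (by rintro _ (rfl | rfl); exacts [one_mem _, ⟨_, rfl⟩]),
    Set.ncard_pair M.h0_ne_one.symm, show (M.D.range : Set G).ncard = _ from M.card_D] at c1
  swap
  · refine and_congr_right ?_
    rintro ⟨k, rfl⟩
    rw [and_iff_left (M.order_of_conj_D (x := 1) ⟨k, by simp⟩), two_lt_orderOf, D_sq_ne]
    simp [D_eq_one, h0, M.D_inj.eq_iff]
  rw [show {t | t ∈ M.T0 ∧ 2 < orderOf t ∧ orderOf t ∣ Nat.card F + 1} = (M.T0 : Set G) \ {1, M.h0, M.W, M.h0 * M.W} from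
    Set.ext fun t => ?_, Set.ncard_sdiff (by rintro _ (rfl | rfl | rfl | rfl); exacts [one_mem _, M.h0_mem_T0, M.W_mem_T0,
      M.h0W_mem_T0]), Set.ncard_eq_four.2 ⟨_, _, _, _, M.h0_ne_one.symm, M.W_ne_one.symm, M.h0W_ne_one.symm, M.h0_ne_W,
      M.h0_ne_h0W, M.W_ne_h0W, rfl⟩, show (M.T0 : Set G).ncard = _ from M.card_T0] at c2
  swap
  · refine and_congr_right fun ht => ?_
    rw [and_iff_left (M.card_T0 ▸ Subgroup.orderOf_dvd_natCard _ ht), two_lt_orderOf]
    exact not_congr ⟨M.T0_sq ht, by rintro (rfl | rfl | rfl | rfl); exacts [one_mul _, M.h0_mul_h0, M.W_mul_W, M.h0W_mul_self]⟩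
  have hU : (Set.univ : Set G) = {1} ∪ {g | orderOf g = 2} ∪ {g | orderOf g = 3} ∪ {g | orderOf g = 6} ∪ {g | orderOf g = 9} ∪
      {g | 2 < orderOf g ∧ orderOf g ∣ Nat.card F - 1} ∪ {g | 2 < orderOf g ∧ orderOf g ∣ Nat.card F + 1} ∪ {g | M.Pi g} := by
    refine (Set.eq_univ_of_forall fun g => ?_).symm
    simp only [Set.mem_union, Set.mem_ofPred_eq, Set.mem_singleton_iff, Pi, H11.orderOf_two_iff, two_lt_orderOf]
    rcases M.classify g with h | h | ⟨x, h⟩ | ⟨x, h⟩ | h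
    · tauto
    · have := M.order_of_three_dvd h; tauto
    · have := M.order_of_conj_D h; tauto
    · have := (M.order_of_conj_T0 h).trans (Nat.div_dvd_of_dvd (by omega)); tauto
    · tauto
  obtain ⟨k, h1, h2, h3⟩ := arith (F := F)
  have d1 : ∀ d, d ∣ Nat.card F ^ 2 - Nat.card F + 1 → d ∣ Nat.card F * (Nat.card F - 1) * (Nat.card F + 1) → d = 1 :=
    fun d => Nat.eq_one_of_dvd_coprimes coprime_n6
  have c3 := congrArg Set.ncard hU
  rw [Set.ncard_univ] at c3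
  iterate 7 rw [Set.ncard_union_eq] at c3
  any_goals
    rw [Set.disjoint_left]
    intro g
    simp only [Set.mem_union, Set.mem_ofPred_eq, Set.mem_singleton_iff, Pi, Ne]
    rw [← orderOf_eq_one_iff (x := g)]
    generalize orderOf g = d
  · rw [Set.ncard_singleton, M.count_two, M.count_three, M.count_six, M.count_nine] at c3
    have hG := M.card_G'
    generalize {g : G | 2 < orderOf g ∧ orderOf g ∣ Nat.card F - 1}.ncard = a at c1 c3
    generalize {g : G | 2 < orderOf g ∧ orderOf g ∣ Nat.card F + 1}.ncard = b at c2 c3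
    obtain ⟨k, rfl⟩ : ∃ l, k = l + 1 := ⟨k - 1, by omega⟩
    rw [h3, h2] at hG c3
    rw [h2, show 3 * (k + 1) + 2 - 2 = 3 * k + 3 by omega] at c1
    rw [h1] at hG c2 c3
    rw [show 3 * (k + 1) + 3 + 1 - 4 = 3 * k + 3 by omega] at c2
    rw [show (3 * (k + 1) + 3) ^ 2 - 1 = (3 * k + 5) * (3 * k + 7) by
      rw [show (3 * (k + 1) + 3) ^ 2 = (3 * k + 5) * (3 * k + 7) + 1 by ring]; rfl] at c3
    rw [h3, h1, show 3 * (k + 1) + 3 - 2 = 3 * k + 4 by omega]
    refine Nat.eq_of_mul_eq_mul_left (show 0 < 2 * (3 * k + 5) * (3 * k + 7) by positivity) ?_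
    zify at c1 c2 c3 hG ⊢
    rw [hG] at c1 c2 c3 ⊢
    linear_combination -(9 * (k + 1) ^ 2 + 15 * (k + 1) + 7) * (6 * (3 * k + 5) * (3 * k + 7) * c3 +
      3 * (3 * k + 7) * c1 + (3 * k + 5) * c2)
  iterate 4 omega
  · rintro ((((rfl | rfl) | rfl) | rfl) | rfl) h' <;> omega
  · rintro (((((rfl | rfl) | rfl) | rfl) | rfl) | h) h'
    any_goals omega
    exact not_dvd_both h.1 h.2 h'.2
  · rintro ((((((rfl | rfl) | rfl) | rfl) | rfl) | h) | h) h'
    exacts [h'.1 rfl, absurd (d1 _ h'.2 (Dvd.dvd.mul_left (by omega) _)) (by decide), by omega, by omega, by omega,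
      h'.1 (d1 _ h'.2 ((h.2.mul_left _).mul_right _)), h'.1 (d1 _ h'.2 (h.2.mul_left _))]

theorem Pi.conj {M : Model G F} {g : G} (h : M.Pi g) (x : G) : M.Pi (x * g * x⁻¹) :=
  ⟨conj_ne_one h.1, (H11.orderOf_conj x g).symm ▸ h.2⟩

theorem Pi.of_commute {M : Model G F} {g h : G} (hg : M.Pi g) (h1 : h ≠ 1) (e : h * g = g * h) : M.Pi h := by
  have := M.finite
  refine ⟨h1, ?_⟩
  obtain ⟨r, hr, hd⟩ := Nat.exists_prime_and_dvd (orderOf_eq_one_iff.not.2 h1)
  refine M.order_dvd_n6 hr hd (by_contra fun hn => ?_)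
  obtain ⟨n, hn'⟩ := exists_pow_prime hd
  obtain ⟨p, hp, hd'⟩ := Nat.exists_prime_and_dvd (orderOf_eq_one_iff.not.2 hg.1)
  have h2 := Commute.orderOf_mul_eq_mul_orderOf_of_coprime (Commute.pow_left e n)
    (hn' ▸ hr.coprime_iff_not_dvd.2 fun e => hn (e.trans hg.2))
  exact hn ((hn' ▸ h2 ▸ Dvd.intro _ rfl : r ∣ _).trans (M.order_dvd_n6 hp (h2 ▸ hd'.mul_left _) (hd'.trans hg.2)))

theorem Pi.card_cent_dvd {M : Model G F} {g : G} (hg : M.Pi g) :
    Nat.card (Subgroup.centralizer {g}) ∣ Nat.card F ^ 2 - Nat.card F + 1 := by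
  have := M.finite
  refine (Nat.Coprime.dvd_mul_left (Nat.coprime_of_dvd fun p hp e e' => ?_)).1
    (M.card_G' ▸ Subgroup.card_subgroup_dvd_card _)
  have := Fact.mk hp
  obtain ⟨u, hu⟩ := exists_prime_orderOf_dvd_card' p e
  rw [← Subgroup.orderOf_coe] at hu
  refine hp.ne_one (Nat.eq_one_of_dvd_coprimes coprime_n6 (hu ▸ (hg.of_commute (by rintro e; simp [e, hp.ne_one.symm] at hu)
    (H11.mem_cent1.1 u.2)).2) ?_)
  simp only [hp.dvd_mul, pow_three, or_self] at e' ⊢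
  exact e'

theorem Pi.prime {M : Model G F} {g : G} (hg : M.Pi g) (hp : (orderOf g).Prime) :
    IsCyclic (Subgroup.centralizer {g}) ∧ {h | h ∈ Subgroup.centralizer {g} ∧ IsConj g h}.ncard ≤ 6 := by
  have := M.finite
  have := Fact.mk hp
  refine cent_prime_hyper M.mat M.inj hp rfl (fun d h0 h7 e => ?_)
    (((coprime_n6 (F := F)).coprime_dvd_left hg.card_cent_dvd).coprime_dvd_right (Dvd.intro _ rfl))
  have h := hg.2
  have key : ∀ n : ℕ, n ∣ Nat.card F * (Nat.card F - 1) * (Nat.card F + 1) → (n : ZMod (orderOf g)) ≠ 0 := fun n hn e =>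
    hp.ne_one (Nat.eq_one_of_dvd_coprimes coprime_n6 h (((ZMod.natCast_eq_zero_iff _ _).1 e).trans hn))
  have h4 := M.card_mod_four
  have h2 := key 2 (Dvd.dvd.mul_left (by omega) _)
  have h3 := key 3 ((three_dvd.mul_right _).mul_right _)
  rw [← ZMod.natCast_eq_natCast_iff] at e
  rw [← ZMod.natCast_eq_zero_iff, Nat.cast_add, Nat.cast_sub (Nat.le_self_pow two_ne_zero _)] at h
  push_cast at e h h2 h3
  interval_cases d <;> grind

theorem Pi.exists_prime {M : Model G F} {g : G} (hg : M.Pi g) :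
    ∃ u, M.Pi u ∧ (orderOf u).Prime ∧ Subgroup.centralizer {g} = Subgroup.centralizer {u} := by
  have := M.finite
  obtain ⟨p, hp, hd⟩ := Nat.exists_prime_and_dvd (orderOf_eq_one_iff.not.2 hg.1)
  obtain ⟨n, h1⟩ := exists_pow_prime hd
  have hc : g ^ n * g = g * g ^ n := (Commute.pow_self g _).eq
  have hu : M.Pi (g ^ n) := hg.of_commute (by rintro h; rw [h, orderOf_one] at h1; exact hp.ne_one h1.symm) hc
  refine ⟨_, hu, h1 ▸ hp, le_antisymm (fun h hh => H11.mem_cent1.2 (Commute.pow_right (H11.mem_cent1.1 hh) _)) ?_⟩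
  have := (hu.prime (h1 ▸ hp)).1
  exact fun h hh => H11.mem_cent1.2 (congrArg Subtype.val (mul_comm' (⟨h, hh⟩ : Subgroup.centralizer {g ^ n})
    ⟨g, H11.mem_cent1.2 hc.symm⟩))

theorem Pi.isCyclic {M : Model G F} {g : G} (hg : M.Pi g) : IsCyclic (Subgroup.centralizer {g}) := by
  obtain ⟨u, hu, hp, e⟩ := hg.exists_prime
  rw [e]; exact (hu.prime hp).1

theorem Pi.cent_eq {M : Model G F} {g : G} (hg : M.Pi g) (u : G) (hu : u ∈ Subgroup.centralizer {g}) (h1 : u ≠ 1) :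
    Subgroup.centralizer {u} = Subgroup.centralizer {g} := by
  have key : ∀ g u : G, M.Pi g → u * g = g * u → Subgroup.centralizer {g} ≤ Subgroup.centralizer {u} := by
    intro g u hg e h hh
    have := hg.isCyclic
    exact H11.mem_cent1.2 (congrArg Subtype.val (mul_comm' (⟨h, hh⟩ : Subgroup.centralizer {g}) ⟨u, H11.mem_cent1.2 e⟩))
  have e := H11.mem_cent1.1 hu
  exact le_antisymm (key u g (hg.of_commute h1 e) e.symm) (key g u hg e)

theorem Pi.isTI {M : Model G F} {g : G} (hg : M.Pi g) : IsTI (Subgroup.centralizer {g}) := isTI_of_centralizer hg.cent_eq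

theorem Pi.card_normalizer_le {M : Model G F} {g : G} (hg : M.Pi g) :
    Nat.card (Subgroup.normalizer (Subgroup.centralizer {g} : Set G)) ≤ 6 * Nat.card (Subgroup.centralizer {g}) := by
  have := M.finite
  obtain ⟨u, hu, hp, e⟩ := hg.exists_prime
  rw [e]
  exact H15.card_normalizer_le (H11.mem_cent1.2 rfl) rfl (hu.prime hp).2

theorem Pi.of_conjSet {M : Model G F} {g u : G} (hg : M.Pi g) (hu : u ∈ conjSet (Subgroup.centralizer {g})) : M.Pi u := by
  obtain ⟨h1, x, hx⟩ := hu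
  simpa [mul_assoc] using (hg.of_commute (conj_ne_one h1) (H11.mem_cent1.1 hx)).conj x⁻¹

theorem Pi.mem_conjSet_of {M : Model G F} {g h u : G} (hg : M.Pi g) (hh : M.Pi h)
    (hu : u ∈ Subgroup.centralizer {h}) (hu' : u ∈ conjSet (Subgroup.centralizer {g})) :
    ∃ x, Subgroup.centralizer {g} = (Subgroup.centralizer {h}).map (MulAut.conj x).toMonoidHom := by
  obtain ⟨h1, x, hx⟩ := hu'
  exact ⟨x, by rw [← hg.cent_eq _ hx (conj_ne_one h1), centralizer_conj, hh.cent_eq u hu h1]⟩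

theorem Pi.exists_sylow {M : Model G F} {g : G} (hg : M.Pi g) {p : ℕ} [hp : Fact p.Prime]
    (hd : p ∣ Nat.card (Subgroup.centralizer {g})) : ∃ P : Sylow p G, (P : Subgroup G) ≤ Subgroup.centralizer {g} := by
  have := M.finite
  obtain ⟨u, hu⟩ := exists_prime_orderOf_dvd_card' p hd
  rw [← Subgroup.orderOf_coe] at hu
  obtain ⟨P, hP⟩ := H11.exists_sylow_mem (hu.trans (pow_one p).symm)
  have h1 : (u : G) ≠ 1 := by rintro e; simp [e, hp.out.ne_one.symm] at hu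
  have : Nontrivial (P : Subgroup G) := ⟨⟨⟨u, hP⟩, 1, by simpa using h1⟩⟩
  have := P.isPGroup'.center_nontrivial
  obtain ⟨z, hz⟩ := exists_ne (1 : Subgroup.center (P : Subgroup G))
  have hz' : ∀ x ∈ P, x * z.1.1 = z.1.1 * x := fun x hx => congrArg Subtype.val (Subgroup.mem_center_iff.1 z.2 ⟨x, hx⟩)
  refine ⟨P, fun x hx => ?_⟩
  rw [← hg.cent_eq u u.2 h1, ← (hg.of_commute h1 (H11.mem_cent1.1 u.2)).cent_eq z (H11.mem_cent1.2 (hz' _ hP).symm)
    fun e => hz (Subtype.ext (Subtype.ext e))]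
  exact H11.mem_cent1.2 (hz' x hx)

theorem Pi.conj_of_prime {M : Model G F} {g h : G} (hg : M.Pi g) (hh : M.Pi h) {p : ℕ}
    (hp : p.Prime) (hd : p ∣ Nat.card (Subgroup.centralizer {g})) (hd' : p ∣ Nat.card (Subgroup.centralizer {h})) :
    ∃ x, Subgroup.centralizer {g} = (Subgroup.centralizer {h}).map (MulAut.conj x).toMonoidHom := by
  have := M.finite
  have := Fact.mk hp
  obtain ⟨P, hP⟩ := hg.exists_sylow hd
  obtain ⟨u, hu⟩ := exists_prime_orderOf_dvd_card' p hd'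
  rw [← Subgroup.orderOf_coe] at hu
  obtain ⟨x, hx⟩ := H11.exists_conj_mem_sylow (k := 1) P (hu.trans (pow_one p).symm)
  exact hg.mem_conjSet_of hh u.2 ⟨by rintro e; simp [e, hp.ne_one.symm] at hu, x, hP hx⟩

theorem Pi.pow_dvd {M : Model G F} {g : G} (hg : M.Pi g) {p e : ℕ} (hp : p.Prime)
    (hd : p ∣ Nat.card (Subgroup.centralizer {g})) (he : p ^ e ∣ Nat.card F ^ 2 - Nat.card F + 1) :
    p ^ e ∣ Nat.card (Subgroup.centralizer {g}) := by
  have := M.finite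
  have := Fact.mk hp
  obtain ⟨P, hP⟩ := hg.exists_sylow hd
  exact (P.pow_dvd_card_of_pow_dvd_card (M.card_G' ▸ he.mul_left _)).trans (Subgroup.card_dvd_of_le hP)

theorem exists_pi {p : ℕ} (hp : p.Prime) (h : p ∣ Nat.card F ^ 2 - Nat.card F + 1) :
    ∃ g, M.Pi g ∧ p ∣ Nat.card (Subgroup.centralizer {g}) := by
  have := M.finite
  have := Fact.mk hp
  obtain ⟨g, hg⟩ := exists_prime_orderOf_dvd_card' (G := G) p (M.card_G' ▸ h.mul_left _)
  exact ⟨g, ⟨by rintro e; simp [e, hp.ne_one.symm] at hg, hg ▸ h⟩, hg ▸ Subgroup.orderOf_dvd_natCard _ (H11.mem_cent1.2 rfl)⟩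

include M in
theorem not_five_dvd {m : ℕ} (hq : Nat.card F = 3 ^ (2 * m + 1)) : ¬ 5 ∣ Nat.card G := fun h => by
  have h1 : Nat.card F % 5 = 2 ∨ Nat.card F % 5 = 3 := by
    rw [hq, pow_succ, pow_mul, Nat.mul_mod, Nat.pow_mod]
    rcases Nat.even_or_odd' m with ⟨k, rfl | rfl⟩ <;> simp [pow_succ, pow_mul, Nat.pow_mod, Nat.mul_mod]
  have h2 : Nat.card F ≤ Nat.card F ^ 2 := Nat.le_self_pow two_ne_zero _
  have h3 : Nat.card F ^ 2 % 5 = 4 := by rw [Nat.pow_mod]; rcases h1 with e | e <;> rw [e]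
  have := M.prime_cases Nat.prime_five h
  omega

theorem Pi.count {M : Model G F} {m : ℕ} (hq : Nat.card F = 3 ^ (2 * m + 1)) {g : G} (hg : M.Pi g) :
    7 ≤ Nat.card (Subgroup.centralizer {g}) ∧ ∃ n, (n = 1 ∨ n = 2 ∨ n = 3 ∨ n = 4 ∨ n = 6) ∧
      Nat.card (Subgroup.normalizer (Subgroup.centralizer {g} : Set G)) = n * Nat.card (Subgroup.centralizer {g}) := by
  have := M.finite
  have h5 := M.not_five_dvd hq
  constructor
  · have h4 := M.card_mod_four
    have h1 := (coprime_n6 (F := F)).coprime_dvd_left hg.card_cent_dvd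
    have h2 := h1.coprime_dvd_right (Dvd.dvd.mul_left (show 2 ∣ _ by omega) _)
    have h3 := h1.coprime_dvd_right ((three_dvd.mul_right _).mul_right _)
    have h6 : Nat.card (Subgroup.centralizer {g}) ≠ 1 := fun h =>
      hg.1 (Subgroup.mem_bot.1 (Subgroup.card_eq_one.1 h ▸ H11.mem_cent1.2 rfl))
    have h7 : Nat.card (Subgroup.centralizer {g}) ≠ 5 := fun h => h5 (h ▸ Subgroup.card_subgroup_dvd_card _)
    by_contra! h8
    generalize Nat.card (Subgroup.centralizer {g}) = k at *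
    interval_cases k <;> first | omega | exact absurd h3 (by decide) | exact absurd h2 (by decide)
  · obtain ⟨n, hn⟩ := Subgroup.card_dvd_of_le (Subgroup.le_normalizer (H := Subgroup.centralizer {g}))
    have h1 := hg.card_normalizer_le
    have h2 : 0 < Nat.card (Subgroup.normalizer (Subgroup.centralizer {g} : Set G)) := Nat.card_pos
    have h4 : n ≠ 5 := by
      rintro rfl
      exact h5 ((Dvd.intro_left _ hn.symm).trans (Subgroup.card_subgroup_dvd_card _))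
    rw [hn, mul_comm 6] at h1
    have h5 := Nat.le_of_mul_le_mul_left h1 Nat.card_pos
    refine ⟨n, ?_, by rw [hn, mul_comm]⟩
    rcases n with _ | n
    · simp [hn] at h2
    · omega

theorem Pi.disjoint {M : Model G F} {g h : G} (hg : M.Pi g) (hh : M.Pi h) (hn : h ∉ conjSet (Subgroup.centralizer {g})) :
    Disjoint (conjSet (Subgroup.centralizer {g})) (conjSet (Subgroup.centralizer {h})) := by
  rw [Set.disjoint_left]
  rintro u hu ⟨h1, y, hy⟩
  obtain ⟨x, hx⟩ := hg.mem_conjSet_of hh hy (conj_mem_conjSet hu y)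
  exact hn (by rw [hx, Sz.Model.conjSet_map]; exact mem_conjSet_of_mem hh.1 (H11.mem_cent1.2 rfl))

theorem exists_two_tori {m : ℕ} (hm : 1 ≤ m) (hq : Nat.card F = 3 ^ (2 * m + 1)) :
    ∃ g h, M.Pi g ∧ M.Pi h ∧
      Nat.card (Subgroup.centralizer {g}) * Nat.card (Subgroup.centralizer {h}) = Nat.card F ^ 2 - Nat.card F + 1 ∧
      Nat.card (Subgroup.centralizer {g}) + Nat.card (Subgroup.centralizer {h}) = 2 * Nat.card F + 2 ∧
      Nat.card (Subgroup.normalizer (Subgroup.centralizer {g} : Set G)) = 6 * Nat.card (Subgroup.centralizer {g}) ∧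
      Nat.card (Subgroup.normalizer (Subgroup.centralizer {h} : Set G)) = 6 * Nat.card (Subgroup.centralizer {h}) ∧
      ∀ u, M.Pi u → u ∈ conjSet (Subgroup.centralizer {g}) ∨ u ∈ conjSet (Subgroup.centralizer {h}) := by
  have := M.finite
  have h8 : 27 ≤ Nat.card F := hq ▸ Nat.pow_le_pow_right (n := 3) (by decide) (show 3 ≤ _ by omega)
  have hX := M.count_Pi (by omega)
  have hG : 0 < Nat.card G := Nat.card_pos
  obtain ⟨q, hq'⟩ : ∃ q, Nat.card F = q + 2 := ⟨Nat.card F - 2, by omega⟩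
  have h6 : Nat.card F ^ 2 - Nat.card F + 1 = q ^ 2 + 3 * q + 3 := by
    rw [hq', show (q + 2) ^ 2 = q ^ 2 + 3 * q + 2 + (q + 2) by ring]; omega
  rw [h6, hq', Nat.add_sub_cancel] at hX
  have hlt : 3 * {g | M.Pi g}.ncard < Nat.card G :=
    lt_of_mul_lt_mul_right (a := q ^ 2 + 3 * q + 3) (by rw [hX]; exact Nat.mul_lt_mul_of_pos_left (by nlinarith) hG) zero_le
  have hsub : ∀ g, M.Pi g → conjSet (Subgroup.centralizer {g}) ⊆ {g | M.Pi g} := fun g hg u hu => hg.of_conjSet hu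
  have hcount : ∀ g, M.Pi g → ∃ n, (n = 1 ∨ n = 2 ∨ n = 3 ∨ n = 4 ∨ n = 6) ∧
      Nat.card (Subgroup.normalizer (Subgroup.centralizer {g} : Set G)) = n * Nat.card (Subgroup.centralizer {g}) ∧
      (conjSet (Subgroup.centralizer {g})).ncard * (n * Nat.card (Subgroup.centralizer {g})) =
        Nat.card G * (Nat.card (Subgroup.centralizer {g}) - 1) ∧
      6 * Nat.card G ≤ 7 * n * (conjSet (Subgroup.centralizer {g})).ncard := by
    intro g hg
    obtain ⟨h5, n, hn, e⟩ := hg.count hq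
    have h1 := hg.isTI.card_conjSet
    rw [e, Nat.card_coe_set_eq] at h1
    refine ⟨n, hn, e, h1, ?_⟩
    generalize Nat.card (Subgroup.centralizer {g}) = k at *
    obtain ⟨k, rfl⟩ : ∃ l, k = l + 7 := ⟨k - 7, by omega⟩
    rw [show k + 7 - 1 = k + 6 by omega] at h1
    refine Nat.le_of_mul_le_mul_right ?_ (show 0 < k + 7 by omega)
    nlinarith
  have hdvd : ∀ k : ℕ, (∀ p e : ℕ, p.Prime → p ∣ Nat.card F ^ 2 - Nat.card F + 1 → p ^ e ∣ Nat.card F ^ 2 - Nat.card F + 1 →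
      p ^ e ∣ k) → Nat.card F ^ 2 - Nat.card F + 1 ∣ k := by
    intro k h
    rw [Nat.dvd_iff_prime_pow_dvd_dvd]
    intro p e hp he
    rcases e with _ | e
    · simp
    · exact h p _ hp ((dvd_pow_self p e.succ_ne_zero).trans he) he
  have hdvd2 : ∀ g u, M.Pi g → M.Pi u → u ∈ conjSet (Subgroup.centralizer {g}) →
      Nat.card (Subgroup.centralizer {g}) = Nat.card (Subgroup.centralizer {u}) := by
    intro g u hg hu h
    obtain ⟨x, hx⟩ := hg.mem_conjSet_of hu (H11.mem_cent1.2 rfl) h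
    rw [hx, H11.card_map_conj]
  obtain ⟨p, hp, hpd⟩ := Nat.exists_prime_and_dvd (n := Nat.card F ^ 2 - Nat.card F + 1) (by omega)
  obtain ⟨g, hg, -⟩ := M.exists_pi hp hpd
  obtain ⟨n₁, hn₁, e₁, c₁, l₁⟩ := hcount g hg
  by_cases h1 : ∀ u, M.Pi u → u ∈ conjSet (Subgroup.centralizer {g})
  · exfalso
    have h2 : conjSet (Subgroup.centralizer {g}) = {g | M.Pi g} := (hsub g hg).antisymm h1
    have h3 : Nat.card (Subgroup.centralizer {g}) = Nat.card F ^ 2 - Nat.card F + 1 := by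
      refine Nat.dvd_antisymm hg.card_cent_dvd (hdvd _ fun p e hp hd he => ?_)
      obtain ⟨u, hu, hu'⟩ := M.exists_pi hp hd
      exact hg.pow_dvd hp (hdvd2 g u hg hu (h1 u hu) ▸ hu') he
    rw [h2, h3, h6, show q ^ 2 + 3 * q + 3 - 1 = (q + 1) * (q + 2) by ring_nf; omega] at c₁
    have h4 : n₁ * q = 3 * (q + 1) :=
      Nat.eq_of_mul_eq_mul_left (show 0 < Nat.card G * (q + 2) by positivity) (by nlinarith)
    rcases hn₁ with rfl | rfl | rfl | rfl | rfl <;> omega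
  push Not at h1
  obtain ⟨h, hh, hhg⟩ := h1
  obtain ⟨n₂, hn₂, e₂, c₂, l₂⟩ := hcount h hh
  have hd₁₂ := hg.disjoint hh hhg
  have h2 : ∀ u, M.Pi u → u ∈ conjSet (Subgroup.centralizer {g}) ∨ u ∈ conjSet (Subgroup.centralizer {h}) := by
    intro u hu
    by_contra! hn
    obtain ⟨n₃, hn₃, -, -, l₃⟩ := hcount u hu
    have h3 := Set.ncard_le_ncard (Set.union_subset (Set.union_subset (hsub g hg) (hsub h hh)) (hsub u hu))
    rw [Set.ncard_union_eq (Set.disjoint_union_left.2 ⟨hg.disjoint hu hn.1, hh.disjoint hu hn.2⟩),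
      Set.ncard_union_eq hd₁₂] at h3
    rcases hn₁ with rfl | rfl | rfl | rfl | rfl <;> rcases hn₂ with rfl | rfl | rfl | rfl | rfl <;>
      rcases hn₃ with rfl | rfl | rfl | rfl | rfl <;> omega
  have h3 : {g | M.Pi g}.ncard = (conjSet (Subgroup.centralizer {g})).ncard + (conjSet (Subgroup.centralizer {h})).ncard := by
    rw [← Set.ncard_union_eq hd₁₂, (Set.union_subset (hsub g hg) (hsub h hh)).antisymm h2]
  obtain ⟨rfl, rfl⟩ : n₁ = 6 ∧ n₂ = 6 := by
    rcases hn₁ with rfl | rfl | rfl | rfl | rfl <;> rcases hn₂ with rfl | rfl | rfl | rfl | rfl <;> omega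
  have h4 : Nat.card (Subgroup.centralizer {g}) * Nat.card (Subgroup.centralizer {h}) = Nat.card F ^ 2 - Nat.card F + 1 := by
    refine Nat.dvd_antisymm (Nat.Coprime.mul_dvd_of_dvd_of_dvd ?_ hg.card_cent_dvd hh.card_cent_dvd)
      (hdvd _ fun p e hp hd he => ?_)
    · refine Nat.coprime_of_dvd fun p hp h1 h2 => hhg ?_
      obtain ⟨x, hx⟩ := hg.conj_of_prime hh hp h1 h2
      rw [hx, Sz.Model.conjSet_map]; exact mem_conjSet_of_mem hh.1 (H11.mem_cent1.2 rfl)
    · obtain ⟨u, hu, hu'⟩ := M.exists_pi hp hd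
      rcases h2 u hu with h5 | h5
      · exact (hg.pow_dvd hp (hdvd2 g u hg hu h5 ▸ hu') he).mul_right _
      · exact (hh.pow_dvd hp (hdvd2 h u hh hu h5 ▸ hu') he).mul_left _
  refine ⟨g, h, hg, hh, h4, ?_, e₁, e₂, h2⟩
  have k₁ : 0 < Nat.card (Subgroup.centralizer {g}) := Nat.card_pos
  have k₂ : 0 < Nat.card (Subgroup.centralizer {h}) := Nat.card_pos
  rw [h3, ← h6, ← h4] at hX
  rw [h6] at h4
  generalize Nat.card (Subgroup.centralizer {g}) = a at *
  generalize Nat.card (Subgroup.centralizer {h}) = b at *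
  obtain ⟨a, rfl⟩ : ∃ r, a = r + 1 := ⟨a - 1, by omega⟩
  obtain ⟨b, rfl⟩ : ∃ r, b = r + 1 := ⟨b - 1, by omega⟩
  rw [Nat.add_sub_cancel] at c₁ c₂
  have h5 : 2 * ((q + 2) * q) = a * (b + 1) + b * (a + 1) :=
    Nat.eq_of_mul_eq_mul_left hG (by linear_combination (b + 1) * c₁ + (a + 1) * c₂ + 2 * hX.symm)
  rw [hq']; nlinarith

theorem tori {m : ℕ} (hm : 1 ≤ m) (hq : Nat.card F = 3 ^ (2 * m + 1)) :
    ∃ g h, M.Pi g ∧ M.Pi h ∧
      Nat.card (Subgroup.centralizer {g}) = 3 ^ (2 * m + 1) + 3 ^ (m + 1) + 1 ∧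
      Nat.card (Subgroup.centralizer {h}) = 3 ^ (2 * m + 1) - 3 ^ (m + 1) + 1 ∧
      Nat.card (Subgroup.centralizer {g}) * Nat.card (Subgroup.centralizer {h}) = Nat.card F ^ 2 - Nat.card F + 1 ∧
      Nat.card (Subgroup.normalizer (Subgroup.centralizer {g} : Set G)) = 6 * Nat.card (Subgroup.centralizer {g}) ∧
      Nat.card (Subgroup.normalizer (Subgroup.centralizer {h} : Set G)) = 6 * Nat.card (Subgroup.centralizer {h}) ∧
      ∀ u, M.Pi u → u ∈ conjSet (Subgroup.centralizer {g}) ∨ u ∈ conjSet (Subgroup.centralizer {h}) := by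
  obtain ⟨g, h, hg, hh, h1, h2, h3, h4, h5⟩ := M.exists_two_tori hm hq
  have a3 : 3 ^ (m + 1) ≤ 3 ^ (2 * m + 1) := Nat.pow_le_pow_right three_pos (by omega)
  have a4 : (3 ^ (m + 1)) ^ 2 = 3 * 3 ^ (2 * m + 1) := by ring
  have a5 : ((Nat.card (Subgroup.centralizer {g}) : ℤ) - (3 ^ (2 * m + 1) + 3 ^ (m + 1) + 1 : ℕ)) *
      (Nat.card (Subgroup.centralizer {h}) - (3 ^ (2 * m + 1) + 3 ^ (m + 1) + 1 : ℕ)) = 0 := by
    zify [Nat.le_self_pow two_ne_zero (Nat.card F)] at h1 h2 a4 hq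
    rw [hq] at h1 h2
    push_cast
    linear_combination h1 - (3 ^ (2 * m + 1) + 3 ^ (m + 1) + 1) * h2 + a4
  rcases mul_eq_zero.1 a5 with e | e
  · exact ⟨g, h, hg, hh, by omega, by omega, h1, h3, h4, h5⟩
  · exact ⟨h, g, hh, hg, by omega, by omega, by rw [mul_comm, h1], h4, h3, fun u hu => (h5 u hu).symm⟩

end Cfsg.Agent.H15.Ree.Model
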