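import Cfsg.Agent.H15.Ree8
import Cfsg.Agent.H15.Torus
import Cfsg.Agent.H2.Basic

/-! Small Ree groups: the four classes of cyclic Hall subgroups; solvable subgroups. -/

set_option autoImplicit false

namespace Cfsg.Agent.H15.Ree.Model

open MulAction

variable {G : Type*} [Group G] {F : Type*} [Field F] [CharP F 3] [Finite F] (M : Model G F)

/-- the odd part of the split torus -/
def A1 : Subgroup G := (sqHom M.D.range (by rintro _ ⟨a, rfl⟩ _ ⟨b, rfl⟩; exact M.D_comm a b)).range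

/-- the odd part of the torus of order `q + 1` -/
def A2 : Subgroup G := (sqHom M.T0 fun _ ha _ hb => M.T0_comm ha hb).range

theorem torus1 : Torus M.A1 M.D.range :=
  have := M.finite
  have := M.isCyclic_D
  Torus.of_sq _ (isCyclic_of_surjective _ (MonoidHom.rangeRestrict_surjective _)) (fun _ => M.sq_of_four)
    (fun _ => M.cent_D) fun hr h2 hd hg => M.conj_D_of hr h2 (hg ▸ dvd_rfl) (M.card_D ▸ hd)

theorem torus2 : Torus M.A2 M.T0 :=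
  have := M.finite
  Torus.of_sq _ (Subgroup.isCyclic_of_le (H' := Subgroup.zpowers (M.φ M.t)) (by
      rintro _ ⟨⟨_, g, ⟨k, rfl⟩, rfl | rfl⟩, rfl⟩ <;> refine ⟨k + k, ?_⟩
      · simp [sqHom, zpow_add]
      · change _ = M.h0 * _ * (M.h0 * _)
        rw [mul_assoc, ← mul_assoc (M.φ _), ← h0_φ, mul_assoc, h0_h0]; simp [zpow_add]))
    (fun _ => M.sq_of_four) (fun _ => M.cent_T0) fun hr h2 hd hg => M.conj_T0_of hr h2 (hg ▸ dvd_rfl) (M.card_T0 ▸ hd)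

theorem card_A1 : Nat.card M.A1 = (Nat.card F - 1) / 2 := by
  have h := (sqHom M.D.range (by rintro _ ⟨a, rfl⟩ _ ⟨b, rfl⟩; exact M.D_comm a b)).ker.card_mul_index
  rw [Subgroup.index_ker, card_D, card_sqHom, show {t | t ∈ M.D.range ∧ t * t = 1} = {1, M.h0} from Set.ext fun t =>
    ⟨by rintro ⟨⟨k, rfl⟩, h⟩; simpa [D_eq_one, h0, M.D_inj.eq_iff, or_iff_not_imp_left] using mt M.D_sq_ne.2 (not_not.2 h),
      by rintro (rfl | rfl); exacts [⟨one_mem _, one_mul _⟩, ⟨⟨_, rfl⟩, M.h0_mul_h0⟩]⟩, Set.ncard_pair M.h0_ne_one.symm] at h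
  rw [A1]; omega

theorem ker_T0 : Nat.card (sqHom M.T0 fun _ ha _ hb => M.T0_comm ha hb).ker = 4 := by
  rw [card_sqHom, show {t | t ∈ M.T0 ∧ t * t = 1} = {1, M.h0, M.W, M.h0 * M.W} from Set.ext fun t =>
    ⟨fun h => M.T0_sq h.1 h.2, by
      rintro (rfl | rfl | rfl | rfl)
      exacts [⟨one_mem _, one_mul _⟩, ⟨M.h0_mem_T0, M.h0_mul_h0⟩, ⟨M.W_mem_T0, M.W_mul_W⟩, ⟨M.h0W_mem_T0, M.h0W_mul_self⟩]⟩]
  exact Set.ncard_eq_four.2 ⟨_, _, _, _, M.h0_ne_one.symm, M.W_ne_one.symm, M.h0W_ne_one.symm, M.h0_ne_W,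
    M.h0_ne_h0W, M.W_ne_h0W, rfl⟩

theorem card_A2 : Nat.card M.A2 = (Nat.card F + 1) / 4 := by
  have h := (sqHom M.T0 fun _ ha _ hb => M.T0_comm ha hb).ker.card_mul_index
  rw [Subgroup.index_ker, card_T0, ker_T0] at h
  rw [A2]; omega

theorem Pi.torus {M : Model G F} {g : G} (hg : M.Pi g) : Torus (Subgroup.centralizer {g}) (Subgroup.centralizer {g}) := by
  have := M.finite
  have h4 := M.card_mod_four
  refine ⟨hg.isCyclic, le_rfl, Nat.coprime_two_right.1 (((coprime_n6 (F := F)).coprime_dvd_left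
    hg.card_cent_dvd).coprime_dvd_right (Dvd.dvd.mul_left (by omega) _)), hg.cent_eq, fun _ h _ => h, fun hr hd hx => ?_⟩
  have := Fact.mk hr
  obtain ⟨P, hP⟩ := hg.exists_sylow hd
  exact (H11.exists_conj_mem_sylow P (hx.trans (pow_one _).symm)).imp fun _ h => hP h

theorem count_A2 {i : ℕ} (h1 : 1 < i) (hi : i ∣ (Nat.card F + 1) / 4) :
    {t | t ∈ M.T0 ∧ orderOf t = i}.ncard = Nat.totient i ∧ {t | t ∈ M.T0 ∧ orderOf t = 2 * i}.ncard = 3 * Nat.totient i := by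
  have := M.finite
  rw [← M.card_A2] at hi
  have h2 := M.torus2.odd.of_dvd_nat hi
  have h3 : {t | t ∈ M.T0 ∧ orderOf t = i}.ncard = Nat.totient i := by
    rw [← ncard_orderOf_cyclic M.torus2.cyc hi]
    congr 1; ext t
    exact and_congr_left fun h => ⟨fun e => M.torus2.mem t e (h ▸ h2), fun e => M.torus2.le e⟩
  have h4 := ncard_preimage_hom (sqHom M.T0 fun _ ha _ hb => M.T0_comm ha hb) (S := {t | t ∈ M.A2 ∧ orderOf t = i}) fun _ h => h.1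
  rw [ncard_orderOf_cyclic M.torus2.cyc hi, ker_T0, ← Set.ncard_image_of_injective _ M.T0.subtype_injective,
    show M.T0.subtype '' _ = {t | t ∈ M.T0 ∧ orderOf t = i} ∪ {t | t ∈ M.T0 ∧ orderOf t = 2 * i} from Set.ext fun t => ?_,
    Set.ncard_union_eq (Set.disjoint_left.2 fun t a b => by have := a.2.symm.trans b.2; omega), h3] at h4
  · exact ⟨h3, by omega⟩
  have key : orderOf (t * t) = i ↔ orderOf t = i ∨ orderOf t = 2 * i := by
    rw [← pow_two, orderOf_pow]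
    obtain ⟨j, rfl⟩ := h2
    rcases Nat.even_or_odd' (orderOf t) with ⟨k, e | e⟩ <;> rw [e]
    · rw [Nat.gcd_eq_right (Dvd.intro _ rfl)]; omega
    · rw [Nat.Coprime.gcd_eq_one (Nat.coprime_two_right.2 ⟨k, rfl⟩)]; omega
  constructor
  · rintro ⟨u, hu, rfl⟩
    exact (key.1 hu.2).imp (And.intro u.2) (And.intro u.2)
  · rintro (h | h) <;> refine ⟨⟨t, h.1⟩, ⟨⟨_, rfl⟩, key.2 ?_⟩, rfl⟩
    exacts [Or.inl h.2, Or.inr h.2]

theorem Pi.count_order {M : Model G F} {g : G} (hg : M.Pi g) {i : ℕ} (h1 : 1 < i) (hi : i ∣ Nat.card (Subgroup.centralizer {g})) :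
    {u : G | orderOf u = i}.ncard * Nat.card (Subgroup.normalizer (Subgroup.centralizer {g} : Set G)) =
      Nat.card G * Nat.totient i := by
  have := M.finite
  rw [← ncard_orderOf_cyclic hg.isCyclic hi, ← card_conj_of_cent (fun u hu e => hg.cent_eq u hu (by rintro rfl; simp at e))
    (· = i) (by rintro _ rfl; obtain ⟨k, hk⟩ := hg.torus.odd.of_dvd_nat hi; omega)]
  congr 2; ext u
  exact (and_iff_left_of_imp fun h => hg.torus.conj_mem' (h ▸ hi)).symm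

variable {m : ℕ} (hm : 1 ≤ m) (hq : Nat.card F = 3 ^ (2 * m + 1))
include M hm hq

theorem four_tori : ∀ kn ∈ ({((3 ^ (2 * m + 1) - 1) / 2, 2 * (3 ^ (2 * m + 1) - 1)),
    ((3 ^ (2 * m + 1) + 1) / 4, 6 * (3 ^ (2 * m + 1) + 1)),
    (3 ^ (2 * m + 1) - 3 ^ (m + 1) + 1, 6 * (3 ^ (2 * m + 1) - 3 ^ (m + 1) + 1)),
    (3 ^ (2 * m + 1) + 3 ^ (m + 1) + 1, 6 * (3 ^ (2 * m + 1) + 3 ^ (m + 1) + 1))} : Set (ℕ × ℕ)),
    ∃ A T : Subgroup G, Torus A T ∧ Nat.card A = kn.1 ∧ Nat.card (Subgroup.normalizer (T : Set G)) = kn.2 := by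
  obtain ⟨g, h, hg, hh, a1, a2, -, a3, a4, -⟩ := M.tori hm hq
  rintro _ (rfl | rfl | rfl | rfl)
  · exact ⟨_, _, M.torus1, hq ▸ M.card_A1, hq ▸ M.card_normalizer_D
      (hq ▸ lt_of_le_of_lt (by decide) (Nat.pow_lt_pow_right (a := 3) (m := 1) (by decide) (by omega)))⟩
  exacts [⟨_, _, M.torus2, hq ▸ M.card_A2, hq ▸ M.card_normalizer_T0⟩, ⟨_, _, hh.torus, a2, a2 ▸ a4⟩,
    ⟨_, _, hg.torus, a1, a1 ▸ a3⟩]

theorem exists_torus {p : ℕ} (hp : p.Prime) (h2 : p ≠ 2) (h3 : p ≠ 3) (h : p ∣ Nat.card G) :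
    ∃ A T : Subgroup G, Torus A T ∧ p ∣ Nat.card A ∧ (Nat.card A = (3 ^ (2 * m + 1) - 1) / 2 ∨
      Nat.card A = (3 ^ (2 * m + 1) + 1) / 4 ∨ Nat.card A = 3 ^ (2 * m + 1) - 3 ^ (m + 1) + 1 ∨
      Nat.card A = 3 ^ (2 * m + 1) + 3 ^ (m + 1) + 1) := by
  obtain ⟨g, h', hg, hh, a1, a2, a3, -⟩ := M.tori hm hq
  have h4 := M.card_mod_four
  have hc : p.Coprime 2 := (Nat.coprime_primes hp Nat.prime_two).2 h2
  rcases (M.prime_cases hp h).resolve_left h3 with e | e | e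
  · exact ⟨_, _, M.torus1, hc.dvd_of_dvd_mul_left (by rw [card_A1]; convert e; omega), Or.inl (hq ▸ M.card_A1)⟩
  · exact ⟨_, _, M.torus2, (hc.pow_right 2).dvd_of_dvd_mul_left (by rw [card_A2]; convert e; omega),
      Or.inr (Or.inl (hq ▸ M.card_A2))⟩
  · rcases hp.dvd_mul.1 (a3 ▸ e) with e | e
    exacts [⟨_, _, hg.torus, e, Or.inr (Or.inr (Or.inr a1))⟩, ⟨_, _, hh.torus, e, Or.inr (Or.inr (Or.inl a2))⟩]

theorem solvable_le (S : Subgroup G) (hS : Group.IsSolvable S) :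
    ∃ A : Subgroup G, S ≤ Subgroup.normalizer (A : Set G) ∧ ((∃ P : Sylow 2 G, A = P) ∨ (∃ P : Sylow 3 G, A = P) ∨
      (IsCyclic A ∧ (Nat.card A = (3 ^ (2 * m + 1) - 1) / 2 ∨ Nat.card A = (3 ^ (2 * m + 1) + 1) / 4 ∨
        Nat.card A = 3 ^ (2 * m + 1) - 3 ^ (m + 1) + 1 ∨ Nat.card A = 3 ^ (2 * m + 1) + 3 ^ (m + 1) + 1))) := by
  have := M.finite
  have := Fact.mk Nat.prime_two
  set K : Subgroup G → Prop := fun A => (∃ P : Sylow 2 G, A = P) ∨ (∃ P : Sylow 3 G, A = P) ∨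
    (IsCyclic A ∧ (Nat.card A = (3 ^ (2 * m + 1) - 1) / 2 ∨ Nat.card A = (3 ^ (2 * m + 1) + 1) / 4 ∨
      Nat.card A = 3 ^ (2 * m + 1) - 3 ^ (m + 1) + 1 ∨ Nat.card A = 3 ^ (2 * m + 1) + 3 ^ (m + 1) + 1)) with hK
  change ∃ A : Subgroup G, _ ∧ K A
  have hconj : ∀ (S : Subgroup G) (x : G), (∃ A : Subgroup G, S.map (MulAut.conj x).toMonoidHom ≤ Subgroup.normalizer (A : Set G) ∧ K A) →
      ∃ A : Subgroup G, S ≤ Subgroup.normalizer (A : Set G) ∧ K A := by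
    rintro S x ⟨A, h1, h2⟩
    refine ⟨A.map (MulAut.conj x⁻¹).toMonoidHom, ?_, ?_⟩
    · rw [normalizer_map_conj, ← map_conj_inv S x]; exact Subgroup.map_mono h1
    · rcases h2 with ⟨P, rfl⟩ | ⟨P, rfl⟩ | h2
      exacts [Or.inl ⟨x⁻¹ • P, rfl⟩, Or.inr (Or.inl ⟨x⁻¹ • P, rfl⟩),
        Or.inr (Or.inr ⟨isCyclic_map_conj h2.1 _, by rw [H11.card_map_conj]; exact h2.2⟩)]
  have hA2 : M.A2 ≠ ⊥ := by
    have : 27 ≤ Nat.card F := hq ▸ Nat.pow_le_pow_right (n := 3) (by decide) (show 3 ≤ _ by omega)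
    rw [Ne, ← Subgroup.card_eq_one, card_A2]; omega
  have hV : ∀ (S : Subgroup G) (a b : G), a ≠ 1 → a * a = 1 → b ≠ 1 → b * b = 1 → a ≠ b → a * b = b * a →
      (∀ s ∈ S, ∀ T : Subgroup G, a ∈ T → b ∈ T → s * a * s⁻¹ ∈ T ∧ s * b * s⁻¹ ∈ T) →
      ∃ A : Subgroup G, S ≤ Subgroup.normalizer (A : Set G) ∧ K A := by
    intro S a b a1 a2 b1 b2 h1 h2 h3
    obtain ⟨x, e1, e2⟩ := M.klein_conj a1 a2 b1 b2 h1 h2
    refine hconj S x ⟨M.A2, ?_, Or.inr (Or.inr ⟨M.torus2.cyc, Or.inr (Or.inl (hq ▸ M.card_A2))⟩)⟩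
    rintro _ ⟨s, hs, rfl⟩
    obtain ⟨c1, c2⟩ := h3 s hs (M.T0.map (MulAut.conj x⁻¹).toMonoidHom)
      (H11.mem_map_conj.2 (by rw [inv_inv, e1]; exact M.h0_mem_T0))
      (H11.mem_map_conj.2 (by rcases e2 with e | e <;> rw [inv_inv, e]; exacts [M.W_mem_T0, M.h0W_mem_T0]))
    rw [H11.mem_map_conj, inv_inv] at c1 c2
    replace c1 : x * s * x⁻¹ * M.h0 * (x * s * x⁻¹)⁻¹ ∈ M.T0 := by rw [← e1]; simpa [mul_assoc] using c1
    rw [M.torus2.normalizer_eq le_rfl hA2]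
    change x * s * x⁻¹ ∈ _
    refine M.mem_normalizer_T0 c1 (e2.elim (fun e => by rw [← e]; simpa [mul_assoc] using c2) fun e => ?_)
    rw [← mul_mem_cancel_left c1, conj_mul, ← e]; simpa [mul_assoc] using c2
  have key : ∀ (S P : Subgroup G) (p : ℕ), p.Prime → IsPGroup p P → P ≠ ⊥ → S ≤ Subgroup.normalizer (P : Set G) →
      (∃ A : Subgroup G, S ≤ Subgroup.normalizer (A : Set G) ∧ K A) ∨ ∃ a ∈ P, a ≠ 1 ∧ a * a = 1 ∧ ∀ s ∈ S, s * a = a * s := by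
    intro S P p hp hP h0 hS
    have := Fact.mk hp
    obtain ⟨⟨a, ha⟩, h1⟩ := Subgroup.ne_bot_iff_exists_ne_one.1 h0
    replace h1 : a ≠ 1 := fun e => h1 (Subtype.ext e)
    have hN : ∀ {s a}, s ∈ S → a ∈ P → s * a * s⁻¹ ∈ P := fun hs ha => (Subgroup.mem_normalizer_iff.1 (hS hs) _).1 ha
    obtain ⟨Q, hQ⟩ := hP.exists_le_sylow
    by_cases h2 : p = 2
    · subst h2
      have hsq := fun x => M.sq_of_isPGroup hP (x := x)
      by_cases h3 : ∀ b ∈ P, b = 1 ∨ b = a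
      · exact Or.inr ⟨a, ha, h1, hsq a ha, fun s hs =>
          mul_inv_eq_iff_eq_mul.1 ((h3 _ (hN hs ha)).resolve_left (conj_ne_one h1))⟩
      push Not at h3
      obtain ⟨b, hb, b1, b2⟩ := h3
      left
      by_cases h4 : ∀ T : Subgroup G, a ∈ T → b ∈ T → P ≤ T
      · exact hV S a b h1 (hsq a ha) b1 (hsq b hb) b2.symm (M.comm_of_isPGroup hP ha hb) fun s hs T e e' =>
          ⟨h4 T e e' (hN hs ha), h4 T e e' (hN hs hb)⟩
      push Not at h4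
      obtain ⟨T, t1, t2, h4⟩ := h4
      refine ⟨P, hS, Or.inl ⟨Q, Subgroup.eq_of_le_of_card_ge hQ ?_⟩⟩
      have h5 : 3 ≤ Nat.card (P ⊓ T : Subgroup G) := by
        rw [← Set.ncard_eq_three.2 ⟨1, a, b, h1.symm, b1.symm, b2.symm, rfl⟩]
        exact Set.ncard_le_ncard (s := {1, a, b}) (t := (P ⊓ T : Subgroup G))
          (by rintro _ (rfl | rfl | rfl); exacts [one_mem _, ⟨ha, t1⟩, ⟨hb, t2⟩])
      have h6 : Nat.card (P ⊓ T : Subgroup G) ≠ Nat.card P := fun e =>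
        h4 (inf_eq_left.1 (Subgroup.eq_of_le_of_card_ge inf_le_left e.ge))
      have h7 := Subgroup.card_dvd_of_le (inf_le_left : P ⊓ T ≤ P)
      have h8 := Subgroup.card_dvd_of_le hQ
      rw [M.card_sylow_two Q] at h8 ⊢
      have h9 := Nat.le_of_dvd (by decide) h8
      have := Nat.le_of_dvd Nat.card_pos h7
      generalize Nat.card (P ⊓ T : Subgroup G) = i at *
      generalize Nat.card P = j at *
      interval_cases j <;> interval_cases i <;> omega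
    left
    by_cases h3 : p = 3
    · subst h3
      refine ⟨Q, fun s hs => ?_, Or.inr (Or.inl ⟨Q, rfl⟩)⟩
      exact Sylow.smul_eq_iff_mem_normalizer.1 (M.sylow_eq_of_mem (conj_ne_one (x := s) h1)
        (H11.mem_sylow_smul.2 (by simp only [mul_assoc, inv_mul_cancel_left, inv_mul_cancel, mul_one]; exact hQ ha)) (hQ (hN hs ha)))
    obtain ⟨A, T, hA, hd, hc⟩ := M.exists_torus hm hq hp h2 h3 ((hP.card_eq_or_dvd.resolve_left
      (mt Subgroup.card_eq_one.1 h0)).trans P.card_subgroup_dvd_card)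
    obtain ⟨x, hx⟩ := hA.normalizer_pgroup hP h0 hd
    exact ⟨_, hx ▸ hS, Or.inr (Or.inr ⟨isCyclic_map_conj hA.cyc x, by rwa [H11.card_map_conj]⟩)⟩
  have hmin : ∀ S : Subgroup G, Group.IsSolvable S → ∀ N : Subgroup G, (N.subgroupOf S).Normal → N ⊓ S ≠ ⊥ →
      (∃ A : Subgroup G, S ≤ Subgroup.normalizer (A : Set G) ∧ K A) ∨ ∃ a ∈ N, a ≠ 1 ∧ a * a = 1 ∧ ∀ s ∈ S, s * a = a * s := by
    intro S hS N hN h0
    obtain ⟨P, hP, h1⟩ := H2.exists_isMinNormal_le hN (by rwa [Ne, Subgroup.subgroupOf_eq_bot, disjoint_iff])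
    obtain ⟨-, p, hp, h2⟩ := hP.exists_isPGroup inferInstance
    have := hP.normal
    refine (key S (P.map S.subtype) p hp (h2.map _) (mt (Subgroup.map_eq_bot_iff_of_injective _ S.subtype_injective).1 hP.ne_bot) fun s hs =>
      Subgroup.mem_normalizer_fintype ?_).imp_right ?_
    · rintro _ ⟨a, ha, rfl⟩; exact ⟨_, hP.normal.conj_mem a ha ⟨s, hs⟩, rfl⟩
    · rintro ⟨_, ⟨a, ha, rfl⟩, h⟩; exact ⟨a, h1 ha, h⟩
  have h2grp : ∀ S : Subgroup G, IsPGroup 2 S → ∃ A : Subgroup G, S ≤ Subgroup.normalizer (A : Set G) ∧ K A := fun S h =>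
    h.exists_le_sylow.elim fun P hP => ⟨P, hP.trans Subgroup.le_normalizer, Or.inl ⟨P, rfl⟩⟩
  by_cases h0 : S = ⊥
  · exact h2grp S (h0 ▸ IsPGroup.of_bot)
  refine (hmin S hS ⊤ (by simp) (by simpa using h0)).elim id fun ⟨a, _, a1, a2, ha⟩ => ?_
  obtain ⟨x, hx⟩ := isConj_iff.1 (M.isConj_h0 a1 a2).symm
  refine hconj S x ?_
  have h1 : ∀ s ∈ S.map (MulAut.conj x).toMonoidHom, s * M.h0 = M.h0 * s := by
    rintro _ ⟨s, hs, rfl⟩; exact hx ▸ conj_comm x (ha s hs)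
  have h2 : Group.IsSolvable (S.map (MulAut.conj x).toMonoidHom) :=
    Group.isSolvable_of_surjective (f := (S.equivMapOfInjective _ (MulAut.conj x).injective).toMonoidHom) (MulEquiv.surjective _)
  generalize S.map (MulAut.conj x).toMonoidHom = S at h1 h2
  by_cases h3 : M.φ.range ⊓ S = ⊥
  · refine h2grp S fun s => ⟨1, Subtype.ext (Subgroup.mem_bot.1 (h3 ▸ ⟨?_, (s ^ 2 ^ 1).2⟩))⟩
    change s.1 ^ 2 ∈ _
    obtain ⟨g, e | e⟩ := M.cent_h0.1 (h1 s s.2) <;> refine ⟨g * g, ?_⟩ <;> rw [e, pow_two, map_mul]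
    rw [mul_assoc, ← mul_assoc (M.φ g), ← h0_φ, mul_assoc, h0_h0]
  refine (hmin S h2 M.φ.range ⟨?_⟩ h3).elim id fun ⟨b, ⟨g, hg⟩, b1, b2, hb⟩ => ?_
  · rintro ⟨_, hn⟩ ⟨k, rfl⟩ s
    obtain ⟨g, e | e⟩ := M.cent_h0.1 (h1 s s.2) <;> refine ⟨g * k * g⁻¹, ?_⟩ <;> simp only [map_mul, map_inv, Subgroup.coe_mul,
      Subgroup.coe_subtype, Subgroup.coe_inv, e]
    rw [_root_.mul_inv_rev, ← map_inv, ← mul_assoc, mul_assoc M.h0, mul_assoc M.h0, ← map_mul, ← map_mul, h0_φ,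
      mul_inv_cancel_right]
  · exact hV S M.h0 b M.h0_ne_one M.h0_mul_h0 b1 b2 (hg ▸ (M.φ_ne_h0 g).symm) (hg ▸ M.h0_φ g) fun s hs T e e' => by
      rw [h1 s hs, hb s hs, mul_inv_cancel_right, mul_inv_cancel_right]; exact ⟨e, e'⟩

end Cfsg.Agent.H15.Ree.Model
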