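import Cfsg.Agent.H15.Sq3
import Cfsg.Agent.H12.Torus
import Mathlib.LinearAlgebra.SymplecticGroup

/-! A class of `Sp₄(q)` whose square covers the group up to sign. -/

set_option autoImplicit false

namespace Cfsg.Agent.H15

open Matrix SymplecticGroup Polynomial

variable {F : Type*} [Field F]

section blocks

variable {l : Type*} [Fintype l] [DecidableEq l]

/-- the Siegel Levi subgroup -/
noncomputable def levS : GL l F →* symplecticGroup l F where
  toFun P := ⟨fromBlocks P 0 0 (P⁻¹).1ᵀ, fromBlocks_mem_iff.2 ⟨by simp, by simp, by rw [← transpose_mul]; simp⟩⟩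
  map_one' := Subtype.ext (by simp)
  map_mul' P Q := Subtype.ext (by simp [fromBlocks_multiply, Matrix.mul_inv_rev])

/-- upper unipotent block matrices -/
def upS (S : Matrix l l F) (hS : Sᵀ = S) : symplecticGroup l F :=
  ⟨fromBlocks 1 S 0 1, fromBlocks_mem_iff.2 ⟨by simp, by simp [hS], by simp⟩⟩

/-- lower unipotent block matrices -/
def dnS (S : Matrix l l F) (hS : Sᵀ = S) : symplecticGroup l F :=
  ⟨fromBlocks 1 0 S 1, fromBlocks_mem_iff.2 ⟨by simp [hS], by simp, by simp⟩⟩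

theorem isConj_sp {a b : symplecticGroup l F} (u : symplecticGroup l F) (h : u.1 * a.1 = b.1 * u.1) : IsConj a b :=
  isConj_iff.2 ⟨u, mul_inv_eq_iff_eq_mul.2 (Subtype.ext h)⟩

theorem isConj_GL {a b : GL l F} (h : IsConj a.1 b.1) : IsConj a b := by
  obtain ⟨u, hu⟩ := h
  exact isConj_iff.2 ⟨u, mul_inv_eq_iff_eq_mul.2 (Units.ext hu)⟩

theorem exists_blocks (g : symplecticGroup l F) : ∃ A B C D h, g = ⟨fromBlocks A B C D, h⟩ :=
  ⟨_, _, _, _, (fromBlocks_toBlocks g.1).symm ▸ g.2, Subtype.ext (fromBlocks_toBlocks g.1).symm⟩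

theorem sp_gauss {A : GL l F} {B C D : Matrix l l F} (h : fromBlocks A.1 B C D ∈ symplecticGroup l F) :
    ∃ X hX Y hY, (⟨_, h⟩ : symplecticGroup l F) = dnS X hX * levS A * upS Y hY := by
  obtain ⟨h1, -, h3⟩ := fromBlocks_mem_iff.1 h
  obtain ⟨h2, -⟩ := fromBlocks_mem_iff.1 (fromBlocks_transpose A.1 B C D ▸ transpose_mem h)
  have e1 : (A⁻¹).1ᵀ * A.1ᵀ = 1 := by rw [← transpose_mul]; simp
  have e2 : A.1ᵀ * (A⁻¹).1ᵀ = 1 := by rw [← transpose_mul]; simp
  have e3 : (A⁻¹).1ᵀ * Cᵀ = C * (A⁻¹).1 := by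
    rw [← mul_one (_ * Cᵀ), ← A.mul_inv, ← mul_assoc, mul_assoc _ Cᵀ, ← h1, ← mul_assoc, e1, one_mul]
  refine ⟨C * (A⁻¹).1, by rw [transpose_mul, e3], (A⁻¹).1 * B, ?_, Subtype.ext ?_⟩
  · rw [transpose_transpose, transpose_transpose] at h2
    rw [transpose_mul, ← one_mul (Bᵀ * _), ← A.inv_mul, mul_assoc, ← mul_assoc A.1, h2, mul_assoc B, e2, mul_one]
  · change _ = fromBlocks _ _ _ _ * fromBlocks _ _ _ _ * fromBlocks _ _ _ _
    simp only [fromBlocks_multiply, Matrix.mul_zero, Matrix.zero_mul, add_zero, zero_add, Matrix.one_mul, Matrix.mul_one,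
      Units.inv_mul_cancel_right, Units.mul_inv_cancel_left, fromBlocks_inj, true_and]
    rw [← mul_assoc, ← e3, ← one_mul D, ← e1, mul_assoc, sub_eq_iff_eq_add'.1 h3, mul_add, mul_one, mul_assoc]

end blocks

theorem exists_conj_C {g : symplecticGroup (Fin 2) F} (hg : ∀ c : F, g.1 ≠ c • 1) :
    ∃ A B C D h, C ≠ 0 ∧ IsConj (⟨fromBlocks A B C D, h⟩ : symplecticGroup (Fin 2) F) g := by
  by_contra! H
  have H' : ∀ u : symplecticGroup (Fin 2) F, (u.1 * g.1 * (u⁻¹).1).toBlocks₂₁ = 0 := fun u => by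
    obtain ⟨A, B, C, D, h, e⟩ := exists_blocks (u * g * u⁻¹)
    by_contra h0
    exact H A B C D h (fun h1 => h0 (by rw [← toBlocks_fromBlocks₂₁ A B C D] at h1; exact (congrArg (·.1.toBlocks₂₁) e).trans h1))
      (e ▸ (isConj_iff.2 ⟨u, rfl⟩).symm)
  obtain ⟨A, B, C, D, h, rfl⟩ := exists_blocks g
  obtain rfl : C = 0 := by simpa using H' 1
  obtain rfl : B = 0 := by simpa [J, coe_inv, fromBlocks_multiply, fromBlocks_transpose, fromBlocks_neg] using H' (symJ _ F)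
  have h1 : ∀ S : Matrix (Fin 2) (Fin 2) F, Sᵀ = S → S * A = D * S := fun S hS => by
    have := H' (dnS S hS)
    rw [show (dnS S hS)⁻¹ = dnS (-S) (by simp [hS]) from inv_eq_of_mul_eq_one_right (Subtype.ext (by simp [dnS, fromBlocks_multiply]))] at this
    simpa [dnS, fromBlocks_multiply, add_neg_eq_zero] using this
  obtain rfl : A = D := by simpa using h1 1 (by simp)
  have h2 := h1 !![1, 0; 0, 0] (by ext i j; fin_cases i <;> fin_cases j <;> rfl)
  have h3 := h1 !![0, 1; 1, 0] (by ext i j; fin_cases i <;> fin_cases j <;> rfl)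
  have h4 : A 0 1 = 0 := by simpa [Matrix.mul_apply] using congrFun₂ h2 0 1
  have h5 : A 1 0 = 0 := by simpa [Matrix.mul_apply, eq_comm] using congrFun₂ h2 1 0
  have h6 : A 1 1 = A 0 0 := by simpa [Matrix.mul_apply] using congrFun₂ h3 0 1
  refine hg (A 0 0) ?_
  ext (i | i) (j | j) <;> fin_cases i <;> fin_cases j <;> simp [h4, h5, h6]

theorem isConj_comp {A : Matrix (Fin 2) (Fin 2) F} (h : ∀ c : F, A ≠ c • 1) : IsConj !![0, -A.det; 1, A.trace] A := by
  obtain ⟨v, hv⟩ := exists_li h 0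
  let P : Matrix (Fin 2) (Fin 2) F := (of ![v, A *ᵥ v - (0 : F) • v])ᵀ
  refine isConj_of_det P ((isUnit_iff_isUnit_det _).1 (linearIndependent_cols_iff_isUnit.1 hv)).ne_zero ?_
  ext i j
  fin_cases i <;> fin_cases j <;> simp [P, Matrix.mul_apply, mulVec, dotProduct, det_fin_two, trace_fin_two] <;> ring

theorem isConj_of_tr {A B : Matrix (Fin 2) (Fin 2) F} (h : A.trace ^ 2 ≠ 4 * A.det) (h1 : B.trace = A.trace) (h2 : B.det = A.det) :
    IsConj A B := by
  have : ∀ A : Matrix (Fin 2) (Fin 2) F, A.trace ^ 2 ≠ 4 * A.det → ∀ c : F, A ≠ c • 1 := fun A h c e => h (by simp [e]; ring)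
  exact (isConj_comp (this A h)).symm.trans (h1 ▸ h2 ▸ isConj_comp (this B (h1 ▸ h2 ▸ h)))

variable [Fintype F]

theorem exists_symm_sub {n : Matrix (Fin 2) (Fin 2) F} (h1 : n.det ≠ 1) (h2 : (1 + n.det) ^ 2 ≠ n.trace ^ 2)
    {Y : Matrix (Fin 2) (Fin 2) F} (hY : Yᵀ = Y) : ∃ S, Sᵀ = S ∧ n * S * nᵀ - S = Y := by
  let Φ : Matrix (Fin 2) (Fin 2) F →+ Matrix (Fin 2) (Fin 2) F := AddMonoidHom.mk' (fun S => n * S * nᵀ - S) fun S T => by noncomm_ring
  have hi : Function.Injective Φ := (injective_iff_map_eq_zero _).2 fun S hS => by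
    have a1 : n * S * nᵀ = S := sub_eq_zero.1 hS
    have a2 : n * n * S * (nᵀ * nᵀ) = S := by rw [← mul_assoc, mul_assoc n n, mul_assoc n, a1, a1]
    have a3 : S * ((1 - n.det) • ((1 + n.det) • 1 - n.trace • nᵀ)) = 0 := by
      rw [H12.mul_self_fin_two n, sub_mul, sub_mul, smul_mul_assoc, smul_mul_assoc, smul_mul_assoc, ← mul_assoc, a1, one_mul,
        smul_mul_assoc, H12.mul_self_fin_two nᵀ, trace_transpose, det_transpose] at a2
      simp only [mul_sub, mul_smul_comm, mul_one] at a2 ⊢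
      linear_combination (norm := module) -a2
    refine (IsUnit.mul_left_eq_zero ((isUnit_iff_isUnit_det _).2 (Ne.isUnit ?_))).1 a3
    rw [det_smul]
    refine mul_ne_zero (pow_ne_zero _ (sub_ne_zero.2 h1.symm)) fun h => h2 ?_
    simp [det_fin_two, trace_fin_two] at h ⊢
    linear_combination h
  obtain ⟨S, hS⟩ := Finite.surjective_of_injective hi Y
  refine ⟨S, hi ?_, hS⟩
  rw [hS, ← hY, ← hS]
  simp [Φ, mul_assoc]

theorem exists_conic {t τ : F} (d : F) (ht : t ≠ 0) (hτ : τ ≠ 2) : ∃ a c : F, a ^ 2 + τ * a * c + c ^ 2 - t * a - t * c + d = 0 := by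
  by_cases h2 : (2 : F) = 0
  · have h0 : τ ≠ 0 := h2 ▸ hτ
    obtain ⟨c, hc⟩ := FiniteField.isSquare_of_char_two (F := F) (CharP.ringChar_of_prime_eq_zero Nat.prime_two h2)
      (t * (t / τ) - d - (t / τ) ^ 2)
    exact ⟨t / τ, c, by rw [mul_div_cancel₀ _ h0]; linear_combination -hc⟩
  by_cases h3 : τ = -2
  · exact ⟨d / (2 * t), d / (2 * t), by rw [h3]; field_simp; ring⟩
  have h4 : 1 - τ ^ 2 / 4 ≠ 0 := fun h => by
    have : (4 : F) ≠ 0 := by rw [show (4 : F) = 2 * 2 by norm_num]; exact mul_ne_zero h2 h2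
    field_simp at h
    exact mul_ne_zero (sub_ne_zero.2 hτ) (sub_ne_zero.2 h3) (by linear_combination -h)
  obtain ⟨u, c, h⟩ := FiniteField.exists_root_sum_quadratic (f := C (1 : F) * X ^ 2 + C (-t) * X + C 0)
    (g := C (1 - τ ^ 2 / 4) * X ^ 2 + C (t * τ / 2 - t) * X + C d) (degree_quadratic one_ne_zero) (degree_quadratic h4)
    (FiniteField.odd_card_of_char_ne_two fun h => h2 (by simpa [h] using ringChar.Nat.cast_ringChar (R := F)))
  refine ⟨u - τ * c / 2, c, ?_⟩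
  simp only [eval_add, eval_mul, eval_C, eval_pow, eval_X] at h
  obtain ⟨k, rfl⟩ : ∃ k, τ = 2 * k := ⟨τ / 2, by field_simp⟩
  have h5 : (2 * k) ^ 2 / 4 = k ^ 2 := by rw [show (4 : F) = 2 * 2 by norm_num]; field_simp
  rw [h5, show t * (2 * k) / 2 = t * k by field_simp] at h
  rw [show 2 * k * c / 2 = k * c by field_simp]
  linear_combination h

theorem Sq2.map {M N : Type*} [Monoid M] [Monoid N] (f : M →* N) {x g : M} (H : Sq2 x g) : Sq2 (f x) (f g) :=
  let ⟨B, C, h1, h2, h3⟩ := H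
  ⟨f B, f C, f.map_isConj h1, f.map_isConj h2, by rw [h3, map_mul]⟩

/-- the conditions on the element of the Levi subgroup -/
structure SqPar (x : GL (Fin 2) F) : Prop where
  det : x.1.det ≠ 1
  tr : x.1.trace ≠ 0
  pm : (1 + x.1.det) ^ 2 ≠ x.1.trace ^ 2
  disc : x.1.trace ^ 2 ≠ 4 * x.1.det

namespace SqPar

variable {x : GL (Fin 2) F} (H : SqPar x)
include H

theorem dn {m : GL (Fin 2) F} (h1 : m.1.trace = x.1.trace) (h2 : m.1.det = x.1.det) {X : Matrix (Fin 2) (Fin 2) F} (hX : Xᵀ = X) :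
    IsConj (levS x) (dnS X hX * levS m) := by
  obtain ⟨S, a1, a2⟩ := exists_symm_sub (n := m.1ᵀ) (by simpa [h2] using H.det) (by simpa [h1, h2] using H.pm) hX
  refine (levS.map_isConj (isConj_GL (isConj_of_tr H.disc h1 h2))).trans (isConj_sp (dnS (m.1ᵀ * S * m.1) (by simp [a1, mul_assoc])) ?_)
  have e1 : (m⁻¹).1ᵀ * m.1ᵀ = 1 := by rw [← transpose_mul]; simp
  change fromBlocks _ _ _ _ * fromBlocks _ _ _ _ = fromBlocks _ _ _ _ * fromBlocks _ _ _ _ * fromBlocks _ _ _ _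
  simp only [fromBlocks_multiply, Matrix.mul_zero, Matrix.zero_mul, add_zero, zero_add, Matrix.one_mul, Matrix.mul_one,
    fromBlocks_inj, true_and, and_true, ← mul_assoc, e1, ← a2, transpose_transpose]
  rw [sub_mul, sub_add_cancel]

theorem up {m : GL (Fin 2) F} (h1 : m.1.trace = x.1.trace) (h2 : m.1.det = x.1.det) {Y : Matrix (Fin 2) (Fin 2) F} (hY : Yᵀ = Y) :
    IsConj (levS x) (levS m⁻¹ * upS Y hY) := by
  obtain ⟨S, a1, a2⟩ := exists_symm_sub (n := m.1) (h2 ▸ H.det) (h1 ▸ h2 ▸ H.pm) hY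
  let m' : GL (Fin 2) F := ⟨m.1ᵀ, (m⁻¹).1ᵀ, by rw [← transpose_mul]; simp, by rw [← transpose_mul]; simp⟩
  refine ((levS.map_isConj (isConj_GL (b := m') (isConj_of_tr H.disc (by simpa [m']) (by simpa [m'])))).trans
    (isConj_sp (b := levS m⁻¹) (symJ _ F) ?_)).trans (isConj_sp (upS S a1) ?_)
  · change fromBlocks _ _ _ _ * fromBlocks _ _ _ (m⁻¹).1ᵀᵀ = fromBlocks _ _ _ _ * fromBlocks _ _ _ _
    simp [fromBlocks_multiply, m']
  change fromBlocks _ _ _ _ * fromBlocks _ _ _ _ = fromBlocks _ _ _ _ * fromBlocks _ _ _ _ * fromBlocks _ _ _ _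
  simp only [fromBlocks_multiply, Matrix.mul_zero, Matrix.zero_mul, add_zero, zero_add, Matrix.one_mul, Matrix.mul_one,
    fromBlocks_inj, true_and, and_true, ← a2, inv_inv, ← mul_add, add_sub_cancel, mul_assoc, Units.inv_mul_cancel_left]

theorem sq2 {A B C D : Matrix (Fin 2) (Fin 2) F} (h : fromBlocks A B C D ∈ symplecticGroup (Fin 2) F) (h1 : A.det = 1)
    (h2 : A = 1 ∨ A.trace ≠ 2 ∧ ∀ c : F, A ≠ c • 1) : Sq2 (levS x) ⟨_, h⟩ := by
  obtain ⟨m, n, a1, a2, a3, a4, a5⟩ : ∃ m n : Matrix (Fin 2) (Fin 2) F, m.trace = x.1.trace ∧ m.det = x.1.det ∧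
      n.trace = x.1.trace ∧ n.det = x.1.det ∧ A * n = m := by
    rcases h2 with rfl | ⟨h2, h3⟩
    · exact ⟨_, _, rfl, rfl, rfl, rfl, one_mul _⟩
    obtain ⟨P, hP⟩ := isConj_comp h3
    obtain ⟨a, c, e⟩ := exists_conic x.1.det H.tr h2
    refine ⟨P.1 * !![a, A.trace * a + c - x.1.trace; c, x.1.trace - a] * (P⁻¹).1,
      P.1 * (!![A.trace, 1; -1, 0] * !![a, A.trace * a + c - x.1.trace; c, x.1.trace - a]) * (P⁻¹).1, ?_, ?_, ?_, ?_, ?_⟩
    · rw [trace_units_conj]; simp [trace_fin_two]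
    · rw [det_units_conj, det_fin_two_of]; linear_combination -e
    · rw [trace_units_conj]; simp [trace_fin_two]
    · rw [det_units_conj, det_mul, det_fin_two_of, det_fin_two_of]; linear_combination -e
    · rw [← mul_assoc, ← mul_assoc, ← hP.eq, mul_assoc P.1, ← mul_assoc !![0, -A.det; 1, A.trace], h1]
      simp [← one_fin_two]
  have h0 : x.1.det ≠ 0 := x.det_ne_zero
  lift A to GL (Fin 2) F using (isUnit_iff_isUnit_det _).2 (h1 ▸ isUnit_one)
  lift m to GL (Fin 2) F using (isUnit_iff_isUnit_det _).2 (a2 ▸ h0.isUnit)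
  lift n to GL (Fin 2) F using (isUnit_iff_isUnit_det _).2 (a4 ▸ h0.isUnit)
  obtain ⟨X, hX, Y, hY, e⟩ := sp_gauss h
  refine ⟨_, _, H.dn a1 a2 hX, H.up a3 a4 hY, ?_⟩
  rw [e, eq_mul_inv_of_mul_eq (Units.ext a5 : A * n = m), map_mul]
  simp only [mul_assoc]

theorem sq2' {A B C D : Matrix (Fin 2) (Fin 2) F} (h : fromBlocks A B C D ∈ symplecticGroup (Fin 2) F)
    {S : Matrix (Fin 2) (Fin 2) F} (hS : Sᵀ = S) (h1 : (A + S * C).det = 1)
    (h2 : A + S * C = 1 ∨ (A + S * C).trace ≠ 2 ∨ (2 : F) ≠ 0) :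
    Sq2 (QuotientGroup.mk' (Subgroup.center _) (levS x)) (QuotientGroup.mk' _ ⟨_, h⟩) := by
  obtain ⟨B', D', h', e⟩ : ∃ B' D' h', IsConj (⟨_, h⟩ : symplecticGroup (Fin 2) F) ⟨fromBlocks (A + S * C) B' C D', h'⟩ := by
    have e : (upS S hS * ⟨_, h⟩ * upS (-S) (by simp [hS])).1 = fromBlocks (A + S * C) (B + S * D - (A + S * C) * S) C (D - C * S) := by
      simp [upS, fromBlocks_multiply, sub_eq_add_neg, add_comm]
    refine ⟨_, _, e ▸ Subtype.property _, isConj_sp (upS S hS) ?_⟩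
    simp [upS, fromBlocks_multiply]
  refine Sq2.conj ?_ (MonoidHom.map_isConj _ e.symm)
  generalize A + S * C = A at *
  have e1 : QuotientGroup.mk' (Subgroup.center _) (⟨_, h'⟩ : symplecticGroup (Fin 2) F) =
      QuotientGroup.mk' _ ⟨fromBlocks (-A) (-B') (-C) (-D'), fromBlocks_neg A B' C D' ▸ neg_mem h'⟩ :=
    (QuotientGroup.mk'_eq_mk' _).2 ⟨⟨-1, neg_mem (one_mem _)⟩, Subgroup.mem_center_iff.2 fun g => Subtype.ext (by simp),
      Subtype.ext (by simp [fromBlocks_neg])⟩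
  by_cases h3 : ∀ c : F, A ≠ c • 1
  · by_cases h4 : A.trace = 2
    · rcases h2 with h2 | h2 | h2
      · exact absurd (by simp [h2]) (h3 1)
      · exact absurd h4 h2
      rw [e1]
      refine (H.sq2 _ (by simpa [det_neg]) (Or.inr ⟨fun h => mul_ne_zero h2 h2 ?_, fun c h => h3 (-c) ?_⟩)).map _
      · rw [trace_neg, h4] at h; linear_combination -h
      · rw [neg_smul, ← h, neg_neg]
    exact (H.sq2 _ h1 (Or.inr ⟨h4, h3⟩)).map _
  push Not at h3
  obtain ⟨c, rfl⟩ := h3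
  rcases sq_eq_one_iff.1 (show c ^ 2 = 1 by simpa using h1) with rfl | rfl
  · exact (H.sq2 _ h1 (Or.inl (one_smul _ _))).map _
  · rw [e1]
    exact (H.sq2 _ (by simp) (Or.inl (by simp))).map _

theorem sq2_main (h3 : 3 ≤ Fintype.card F) {g : symplecticGroup (Fin 2) F} (hg : ∀ c : F, g.1 ≠ c • 1) :
    Sq2 (QuotientGroup.mk' (Subgroup.center _) (levS x)) (QuotientGroup.mk' _ g) := by
  obtain ⟨A, B, C, D, h, h0, e⟩ := exists_conj_C hg
  refine Sq2.conj ?_ (MonoidHom.map_isConj _ e)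
  clear e hg
  by_cases hC : C.det = 0
  · obtain ⟨w, w0, hw⟩ := exists_mulVec_eq_zero_iff.2 hC
    obtain ⟨P, hP⟩ : ∃ P : GL (Fin 2) F, P.1 *ᵥ ![1, 0] = w := by
      obtain ⟨v, hv⟩ := exists_linearIndependent_pair_of_one_lt_finrank (R := F) (by simp) w0
      exact ⟨(linearIndependent_cols_iff_isUnit (A := (of ![w, v])ᵀ).1 hv).unit, by ext i; simp [mulVec, dotProduct]⟩
    have e : ((levS P)⁻¹ * ⟨_, h⟩ * levS P).1 = fromBlocks ((P⁻¹).1 * A * P.1) ((P⁻¹).1 * B * (P⁻¹).1ᵀ) (P.1ᵀ * C * P.1)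
        (P.1ᵀ * D * (P⁻¹).1ᵀ) := by
      rw [← map_inv]
      simp [levS, fromBlocks_multiply]
    have h' := e ▸ Subtype.property _
    refine Sq2.conj (g := QuotientGroup.mk' _ ⟨_, h'⟩) ?_ (MonoidHom.map_isConj _ (isConj_iff.2 ⟨levS P, ?_⟩))
    swap
    · rw [show (⟨_, h'⟩ : symplecticGroup (Fin 2) F) = (levS P)⁻¹ * ⟨_, h⟩ * levS P from Subtype.ext e.symm]; group
    have a1 : (P.1ᵀ * C * P.1) *ᵥ ![1, 0] = 0 := by rw [← mulVec_mulVec, ← mulVec_mulVec, hP, hw, mulVec_zero]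
    have a2 : P.1ᵀ * C * P.1 ≠ 0 := by
      rwa [Ne, P.isUnit.mul_left_eq_zero, ((isUnit_transpose _).2 P.isUnit).mul_right_eq_zero]
    clear e
    generalize (P⁻¹).1 * A * P.1 = A, (P⁻¹).1 * B * (P⁻¹).1ᵀ = B, P.1ᵀ * C * P.1 = C, P.1ᵀ * D * (P⁻¹).1ᵀ = D at *
    have c0 : C 0 0 = 0 := by simpa [mulVec, dotProduct] using congrFun a1 0
    have c1 : C 1 0 = 0 := by simpa [mulVec, dotProduct] using congrFun a1 1
    have a3 : ∀ u v : F, ∃ S : Matrix (Fin 2) (Fin 2) F, Sᵀ = S ∧ A + S * C = !![A 0 0, u; A 1 0, v] := fun u v => by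
      by_cases c2 : C 0 1 = 0
      · have c3 : C 1 1 ≠ 0 := fun c3 => a2 (by ext i j; fin_cases i <;> fin_cases j <;> assumption)
        refine ⟨!![0, (u - A 0 1) / C 1 1; (u - A 0 1) / C 1 1, (v - A 1 1) / C 1 1], ?_, ?_⟩ <;> ext i j <;>
          fin_cases i <;> fin_cases j <;> simp [Matrix.mul_apply, vecMul, dotProduct, c0, c1, c2, c3]
      · refine ⟨!![(u - A 0 1 - (v - A 1 1) / C 0 1 * C 1 1) / C 0 1, (v - A 1 1) / C 0 1; (v - A 1 1) / C 0 1, 0], ?_, ?_⟩ <;>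
          ext i j <;> fin_cases i <;> fin_cases j <;> simp [Matrix.mul_apply, vecMul, dotProduct, c0, c1, c2]
    by_cases a4 : A 1 0 = 0
    · have a5 : A 0 0 ≠ 0 := fun a5 => by
        simpa [Matrix.mul_apply, a4, a5, c0, c1] using congrFun₂ (fromBlocks_mem_iff.1 h').2.2 0 0
      obtain ⟨S, hS, e⟩ := a3 0 (A 0 0)⁻¹
      refine H.sq2' h' hS (by simp [e, a5]) ?_
      rw [e, a4]
      by_cases a6 : A 0 0 = 1
      · exact Or.inl (by simp [a6, one_fin_two])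
      refine Or.inr (Or.inl fun h => pow_ne_zero 2 (sub_ne_zero.2 a6) ?_)
      rw [trace_fin_two_of] at h
      field_simp at h
      linear_combination h
    · obtain ⟨S, hS, e⟩ := a3 ((A 0 0 * (3 - A 0 0) - 1) / A 1 0) (3 - A 0 0)
      refine H.sq2' h' hS (by simp [e, a4]) (Or.inr (Or.inl fun h => one_ne_zero (α := F) ?_))
      rw [e, trace_fin_two_of] at h
      linear_combination h
  have hC' : IsUnit C.det := Ne.isUnit hC
  set κ := (A * C⁻¹) 0 1 - (A * C⁻¹) 1 0 with hκ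
  have a1 : ∀ a b c : F, ∃ S : Matrix (Fin 2) (Fin 2) F, Sᵀ = S ∧ A + S * C = !![a, b + κ; b, c] * C := fun a b c =>
    ⟨!![a, b + κ; b, c] - A * C⁻¹, by ext i j; fin_cases i <;> fin_cases j <;> simp [hκ] <;> ring, by
      rw [sub_mul, nonsing_inv_mul_cancel_right _ _ hC', add_sub_cancel]⟩
  by_contra hn
  have a2 : ∀ a b : F, a ≠ 0 → (2 : F) = 0 ∧ C 0 0 * a ^ 2 + ((b + κ) * C 1 0 + b * C 0 1) * a + C 1 1 * (C.det⁻¹ + b * (b + κ)) = 0 :=
    fun a b ha => by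
    obtain ⟨S, hS, e⟩ := a1 a b ((C.det⁻¹ + b * (b + κ)) / a)
    have := mt (H.sq2' h hS (by rw [e, det_mul, det_fin_two_of]; field_simp; ring)) hn
    push Not at this
    obtain ⟨-, h1, h2⟩ := this
    simp [e, trace_fin_two, vecMul, dotProduct, h2] at h1
    refine ⟨h2, ?_⟩
    field_simp at h1 ⊢
    linear_combination h1
  have h2 := (a2 1 0 one_ne_zero).1
  obtain ⟨r, r0, hr⟩ := H12.exists_sq_ne_one_of_four_le (F := F) (by
    have := FiniteField.even_card_of_char_two (CharP.ringChar_of_prime_eq_zero Nat.prime_two h2)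
    rw [Nat.card_eq_fintype_card]; omega)
  have r1 : r - 1 ≠ 0 := fun h => hr (by rw [sub_eq_zero.1 h, one_pow])
  have a3 : ∀ α β γ : F, (∀ a : F, a ≠ 0 → α * a ^ 2 + β * a + γ = 0) → α = 0 ∧ β = 0 ∧ γ = 0 := fun α β γ h => by
    have b1 := h 1 one_ne_zero
    have b2 := h r r0
    have b3 := h _ (pow_ne_zero 2 r0)
    have b4 : α * (r + 1) + β = 0 := mul_left_cancel₀ r1 (by linear_combination b2 - b1)
    have b5 : α * (r ^ 2 + r) + β = 0 := mul_left_cancel₀ (mul_ne_zero r0 r1) (by linear_combination b3 - b2)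
    obtain rfl : α = 0 := mul_left_cancel₀ (sub_ne_zero.2 hr) (by linear_combination b5 - b4)
    obtain rfl : β = 0 := by simpa using b4
    simpa using b1
  have a4 := fun b => a3 _ _ _ fun a ha => (a2 a b ha).2
  have c0 := (a4 0).1
  have c1 := (a3 (C 1 1) (C 1 1 * κ) (C 1 1 * C.det⁻¹) fun b _ => by linear_combination (a4 b).2.2).1
  have c2 : C 1 0 ≠ 0 := fun c2 => hC (by simp [det_fin_two, c0, c2])
  have c3 : κ = 0 := by simpa [c2] using (a4 0).2.1
  have c4 : C 0 1 = C 1 0 := by linear_combination (a4 1).2.1 - C 1 0 * c3 - C 1 0 * h2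
  obtain ⟨S, hS, e⟩ := a1 0 (C 1 0)⁻¹ 0
  have e' : A + S * C = 1 := by
    rw [e]; ext i j; fin_cases i <;> fin_cases j <;> simp [Matrix.mul_apply, c0, c1, c2, c3, c4]
  exact hn (H.sq2' h hS (by simp [e']) (Or.inl e'))

end SqPar

theorem exists_sqPar (h3 : 3 ≤ Fintype.card F) : ∃ x : GL (Fin 2) F, SqPar x ∧ x ^ (Fintype.card F ^ 2 - 1) = 1 := by
  set q := Fintype.card F with hq
  have h9 : 2 * q + 1 < q ^ 2 := by nlinarith
  obtain ⟨z, hz⟩ := H12.exists_primitiveRoot_closure (F := F) (N := q ^ 2 - 1) (by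
    rw [Nat.cast_sub (by omega)]; simp [hq])
  have a0 : ∀ k, 0 < k → k ≤ 2 * q → z ^ k ≠ 1 := fun k h1 h2 => hz.pow_ne_one_of_pos_of_lt h1.ne' (by omega)
  have z0 : z ≠ 0 := hz.ne_zero (by omega)
  have a1 : (z ^ q) ^ q = z := by
    rw [← pow_mul, ← sq, show q ^ 2 = q ^ 2 - 1 + 1 by omega, pow_succ, hz.pow_eq_one, one_mul]
  let ι := algebraMap F (AlgebraicClosure F)
  obtain ⟨t, ht⟩ := H12.exists_eq_map_of_pow_card ι (x := z + z ^ q) (by rw [H12.add_pow_card_map ι, a1, add_comm])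
  obtain ⟨d, hd⟩ := H12.exists_eq_map_of_pow_card ι (x := z * z ^ q) (by rw [mul_pow, a1, mul_comm])
  have d0 : d ≠ 0 := fun h => by simp [h, z0] at hd
  have b1 : z ^ q = z * z ^ (q - 1) := by rw [← pow_succ', Nat.sub_add_cancel (by omega)]
  have b2 : z ≠ z ^ q := fun h => a0 (q - 1) (by omega) (by omega) (mul_left_cancel₀ z0 (by rw [← b1, ← h, mul_one]))
  have e1 : ι (!![0, -d; 1, t]).trace = z + z ^ q := by simp [trace_fin_two, ht]
  have e2 : ι (!![0, -d; 1, t]).det = z * z ^ q := by simp [det_fin_two, hd]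
  refine ⟨GeneralLinearGroup.mkOfDetNeZero !![0, -d; 1, t] (by simpa [det_fin_two]), ⟨fun h => ?_, fun h => ?_, fun h => ?_, fun h => ?_⟩,
    Units.ext (H12.Spec.ext b2 (H12.Spec.pow e1 e2 H12.Spec.self _) ?_)⟩
  · exact a0 (q + 1) (by omega) (by omega) (by rw [pow_succ', ← e2]; exact (congrArg ι h).trans (map_one ι))
  · have := e1.symm.trans ((congrArg ι h).trans (map_zero ι))
    refine a0 ((q - 1) * 2) (by omega) (by omega) ?_
    rw [pow_mul, show z ^ (q - 1) = -1 from mul_left_cancel₀ z0 (by linear_combination this - b1), neg_one_sq]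
  · have := congrArg ι h
    rw [map_pow, map_pow, map_add, map_one] at this
    erw [e1, e2] at this
    refine mul_ne_zero (sub_ne_zero.2 (a0 2 two_pos (by omega))) (sub_ne_zero.2 (a0 (q * 2) (by omega) (by omega))) ?_
    rw [pow_mul]
    linear_combination this
  · have := congrArg ι h
    rw [map_pow, map_mul, map_ofNat] at this
    erw [e1, e2] at this
    exact pow_ne_zero 2 (sub_ne_zero.2 b2) (by linear_combination this)
  · rw [hz.pow_eq_one, ← pow_mul, mul_comm, pow_mul, hz.pow_eq_one, one_pow]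
    exact H12.Spec.one

end Cfsg.Agent.H15
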