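import Cfsg.Agent.H15.TwG2
import Cfsg.Agent.H15.Ree1

/-! The Ree groups of type `G₂`: the seven-dimensional matrices. -/

set_option autoImplicit false

namespace Cfsg.Agent.H15

open Cfsg.Agent.H14 Cfsg.Lie Cfsg.Lie.ChevalleyDatum

variable {K : Type*} [Field K] [CharP K 3]

theorem m7_x7 (t : K) : m7 ((XG K).x 7 t) = !![1, 0, 0, 0, 0, 0, 0;
    0, 1, t ^ 3, 0, 0, 0, 0;
    0, 0, 1, 0, 0, 0, 0;
    0, 0, 0, 1, 0, 0, 0;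
    0, 0, 0, 0, 1, -t ^ 3, 0;
    0, 0, 0, 0, 0, 1, 0;
    0, 0, 0, 0, 0, 0, 1] := by
  rw [m7_x]; ext i j; fin_cases i <;> fin_cases j <;> simp [c7, tab7, List.lookup]

theorem m7_x6 (t : K) : m7 ((XG K).x 6 t) = !![1, t, 0, 0, 0, 0, 0;
    0, 1, 0, 0, 0, 0, 0;
    0, 0, 1, t, -t ^ 2, 0, 0;
    0, 0, 0, 1, t, 0, 0;
    0, 0, 0, 0, 1, 0, 0;
    0, 0, 0, 0, 0, 1, -t;
    0, 0, 0, 0, 0, 0, 1] := by
  rw [m7_x]; ext i j; fin_cases i <;> fin_cases j <;> simp [c7, tab7, List.lookup]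

theorem m7_x8 (t : K) : m7 ((XG K).x 8 t) = !![1, 0, 0, 0, -t ^ 3, 0, 0;
    0, 1, 0, 0, 0, 0, 0;
    0, 0, 1, 0, 0, 0, t ^ 3;
    0, 0, 0, 1, 0, 0, 0;
    0, 0, 0, 0, 1, 0, 0;
    0, 0, 0, 0, 0, 1, 0;
    0, 0, 0, 0, 0, 0, 1] := by
  rw [m7_x]; ext i j; fin_cases i <;> fin_cases j <;> simp [c7, tab7, List.lookup]

theorem m7_x9 (t : K) : m7 ((XG K).x 9 t) = !![1, 0, 0, 0, 0, -t ^ 3, 0;
    0, 1, 0, 0, 0, 0, t ^ 3;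
    0, 0, 1, 0, 0, 0, 0;
    0, 0, 0, 1, 0, 0, 0;
    0, 0, 0, 0, 1, 0, 0;
    0, 0, 0, 0, 0, 1, 0;
    0, 0, 0, 0, 0, 0, 1] := by
  rw [m7_x]; ext i j; fin_cases i <;> fin_cases j <;> simp [c7, tab7, List.lookup]

theorem m7_x10 (t : K) : m7 ((XG K).x 10 t) = !![1, 0, -t, 0, 0, 0, 0;
    0, 1, 0, t, 0, -t ^ 2, 0;
    0, 0, 1, 0, 0, 0, 0;
    0, 0, 0, 1, 0, t, 0;
    0, 0, 0, 0, 1, 0, t;
    0, 0, 0, 0, 0, 1, 0;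
    0, 0, 0, 0, 0, 0, 1] := by
  rw [m7_x]; ext i j; fin_cases i <;> fin_cases j <;> simp [c7, tab7, List.lookup]

theorem m7_x11 (t : K) : m7 ((XG K).x 11 t) = !![1, 0, 0, -t, 0, 0, -t ^ 2;
    0, 1, 0, 0, -t, 0, 0;
    0, 0, 1, 0, 0, t, 0;
    0, 0, 0, 1, 0, 0, -t;
    0, 0, 0, 0, 1, 0, 0;
    0, 0, 0, 0, 0, 1, 0;
    0, 0, 0, 0, 0, 0, 1] := by
  rw [m7_x]; ext i j; fin_cases i <;> fin_cases j <;> simp [c7, tab7, List.lookup]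

theorem m7_x3 (t : K) : m7 ((XG K).x 3 t) = !![1, 0, 0, 0, 0, 0, 0;
    0, 1, 0, 0, 0, 0, 0;
    0, 0, 1, 0, 0, 0, 0;
    0, 0, 0, 1, 0, 0, 0;
    -t ^ 3, 0, 0, 0, 1, 0, 0;
    0, 0, 0, 0, 0, 1, 0;
    0, 0, t ^ 3, 0, 0, 0, 1] := by
  rw [m7_x]; ext i j; fin_cases i <;> fin_cases j <;> simp [c7, tab7, List.lookup]

theorem m7_x1 (t : K) : m7 ((XG K).x 1 t) = !![1, 0, 0, 0, 0, 0, 0;
    0, 1, 0, 0, 0, 0, 0;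
    -t, 0, 1, 0, 0, 0, 0;
    0, -t, 0, 1, 0, 0, 0;
    0, 0, 0, 0, 1, 0, 0;
    0, -t ^ 2, 0, -t, 0, 1, 0;
    0, 0, 0, 0, t, 0, 1] := by
  rw [m7_x]; ext i j; fin_cases i <;> fin_cases j <;> simp [c7, tab7, List.lookup]

theorem m7_ef (e f : K) : m7 ((XG K).x 10 e * (XG K).x 11 f) = !![1, 0, -e, -f, 0, -(e * f), -f ^ 2;
    0, 1, 0, e, -f, -e ^ 2, -(e * f);
    0, 0, 1, 0, 0, f, 0;
    0, 0, 0, 1, 0, e, -f;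
    0, 0, 0, 0, 1, 0, e;
    0, 0, 0, 0, 0, 1, 0;
    0, 0, 0, 0, 0, 0, 1] := by
  rw [m7_mul ((XG K).x_mem_grp _ _), m7_x10, m7_x11]
  ext i j; fin_cases i <;> fin_cases j <;> simp [Matrix.mul_apply, Fin.sum_univ_seven] <;> grind

theorem m7_def (d e f : K) : m7 ((XG K).x 9 d * ((XG K).x 10 e * (XG K).x 11 f)) = !![1, 0, -e, -f, 0, -d ^ 3 - e * f, -f ^ 2;
    0, 1, 0, e, -f, -e ^ 2, d ^ 3 - e * f;
    0, 0, 1, 0, 0, f, 0;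
    0, 0, 0, 1, 0, e, -f;
    0, 0, 0, 0, 1, 0, e;
    0, 0, 0, 0, 0, 1, 0;
    0, 0, 0, 0, 0, 0, 1] := by
  rw [m7_mul ((XG K).x_mem_grp _ _), m7_x9, m7_ef]
  ext i j; fin_cases i <;> fin_cases j <;> simp [Matrix.mul_apply, Fin.sum_univ_seven] <;> grind

theorem m7_cdef (c d e f : K) : m7 ((XG K).x 8 c * ((XG K).x 9 d * ((XG K).x 10 e * (XG K).x 11 f))) = !![1, 0, -e, -f, -c ^ 3, -d ^ 3 - e * f, -(c ^ 3 * e) - f ^ 2;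
    0, 1, 0, e, -f, -e ^ 2, d ^ 3 - e * f;
    0, 0, 1, 0, 0, f, c ^ 3;
    0, 0, 0, 1, 0, e, -f;
    0, 0, 0, 0, 1, 0, e;
    0, 0, 0, 0, 0, 1, 0;
    0, 0, 0, 0, 0, 0, 1] := by
  rw [m7_mul ((XG K).x_mem_grp _ _), m7_x8, m7_def]
  ext i j; fin_cases i <;> fin_cases j <;> simp [Matrix.mul_apply, Fin.sum_univ_seven] <;> grind

theorem m7_bcdef (b c d e f : K) :
    m7 ((XG K).x 6 b * ((XG K).x 8 c * ((XG K).x 9 d * ((XG K).x 10 e * (XG K).x 11 f)))) = !![1, b, -e, b * e - f, -(b * f) - c ^ 3, -(b * e ^ 2) - d ^ 3 - e * f, b * d ^ 3 - b * e * f - c ^ 3 * e - f ^ 2;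
    0, 1, 0, e, -f, -e ^ 2, d ^ 3 - e * f;
    0, 0, 1, b, -b ^ 2, b * e + f, c ^ 3 - b * f - b ^ 2 * e;
    0, 0, 0, 1, b, e, b * e - f;
    0, 0, 0, 0, 1, 0, e;
    0, 0, 0, 0, 0, 1, -b;
    0, 0, 0, 0, 0, 0, 1] := by
  rw [m7_mul ((XG K).x_mem_grp _ _), m7_x6, m7_cdef]
  ext i j; fin_cases i <;> fin_cases j <;> simp [Matrix.mul_apply, Fin.sum_univ_seven] <;> grind

theorem m7_neg : m7 ((XG K).x 3 (-1) * (XG K).x 1 (-1)) = !![1, 0, 0, 0, 0, 0, 0;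
    0, 1, 0, 0, 0, 0, 0;
    1, 0, 1, 0, 0, 0, 0;
    0, 1, 0, 1, 0, 0, 0;
    1, 0, 0, 0, 1, 0, 0;
    0, -1, 0, 1, 0, 1, 0;
    -1, 0, -1, 0, -1, 0, 1] := by
  rw [m7_mul ((XG K).x_mem_grp _ _), m7_x3, m7_x1]
  ext i j; fin_cases i <;> fin_cases j <;> simp [Matrix.mul_apply, Fin.sum_univ_seven] <;> grind

theorem m7_neg2 : m7 ((XG K).x 3 (-1) * (XG K).x 1 (-1)) * Ree.Sm (fun t : K => t) 0 1 0 = !![1, 0, -1, 0, -1, 0, -1;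
    0, 1, 0, 1, 0, -1, 0;
    1, 0, 0, 0, -1, 0, 0;
    0, 1, 0, -1, 0, 0, 0;
    1, 0, -1, 0, 0, 0, 0;
    0, -1, 0, 0, 0, 0, 0;
    -1, 0, 0, 0, 0, 0, 0] := by
  rw [m7_neg]
  ext i j; fin_cases i <;> fin_cases j <;> simp [Ree.Sm, Matrix.mul_apply, Fin.sum_univ_seven] <;> grind

theorem m7_reeU {θ : K →+* K} (hθ : ∀ t, θ (θ t) ^ 3 = t) {σ : K → K} (hσ : ∀ t, σ t = θ t ^ 3) (t u v : K) :
    m7 (reeU θ t u v) = Ree.Sm σ t u v := by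
  rw [reeU, m7_mul ((XG K).x_mem_grp _ _), m7_x7, m7_bcdef]
  ext i j; fin_cases i <;> fin_cases j <;> simp [Ree.Sm, hσ, Matrix.mul_apply, Fin.sum_univ_seven] <;> grind

end Cfsg.Agent.H15
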