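import Cfsg.Agent.H9.NPC
import Cfsg.Agent.H22.Inv
import Cfsg.Agent.H23.PSt1
import Cfsg.Agent.H3.Misc1
import Cfsg.Agent.S2834

/-! Glauberman: for odd `p`, the dihedral group of order `2p` is involved in `G` iff it is involved
in `N_G(Z(J(S)))`. -/

set_option autoImplicit false
set_option linter.style.haveILetI false

namespace Cfsg.Agent.H15.ZJD

open Subgroup Cfsg.Agent.H9
open scoped commutatorElement Pointwise

universe u

section basic

variable {G G' : Type*} [Group G] [Group G'] {p : ℕ}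

/-- some nonidentity `p`-element of `H` is inverted in `H` -/
def Inv (p : ℕ) (H : Subgroup G) : Prop :=
  ∃ x ∈ H, ∃ y ∈ H, y ≠ 1 ∧ (∃ k, y ^ p ^ k = 1) ∧ x * y * x⁻¹ = y⁻¹

theorem Inv.mono {H K : Subgroup G} (h : Inv p H) (hHK : H ≤ K) : Inv p K :=
  let ⟨x, hx, y, hy, r⟩ := h; ⟨x, hHK hx, y, hHK hy, r⟩

theorem Inv.map {H : Subgroup G} (h : Inv p H) {f : G →* G'} (hf : Function.Injective f) :
    Inv p (H.map f) := by
  obtain ⟨x, hx, y, hy, h1, ⟨k, h2⟩, h3⟩ := h
  refine ⟨f x, mem_map_of_mem f hx, f y, mem_map_of_mem f hy, fun e => h1 (hf (by rw [e, map_one])),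
    ⟨k, by rw [← map_pow, h2, map_one]⟩, by rw [← map_inv, ← map_mul, ← map_mul, h3, map_inv]⟩

theorem Inv.top {H : Subgroup G} (h : Inv p H) : Inv p (⊤ : Subgroup H) := by
  obtain ⟨x, hx, y, hy, h1, ⟨k, h2⟩, h3⟩ := h
  exact ⟨⟨x, hx⟩, trivial, ⟨y, hy⟩, trivial, fun e => h1 (congrArg Subtype.val e),
    ⟨k, Subtype.ext h2⟩, Subtype.ext h3⟩

theorem Inv.of_subgroupOf {H M : Subgroup G} (h : Inv p (H.subgroupOf M)) : Inv p H :=
  (h.map M.subtype_injective).mono (by rw [subgroupOf_map_subtype]; exact inf_le_left)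

theorem Inv.of_top {H : Subgroup G} (h : Inv p (⊤ : Subgroup H)) : Inv p H :=
  (h.map H.subtype_injective).mono (map_subtype_le _)

theorem conj_odd {x y : G} (h : x * y * x⁻¹ = y⁻¹) {m : ℕ} (hm : Odd m) :
    x ^ m * y * (x ^ m)⁻¹ = y⁻¹ := by
  have := H22I.conj_zpow_of_inv h m
  rw [Int.negOnePow_odd _ (by exact_mod_cast hm)] at this
  simpa using this

variable [hp : Fact p.Prime]

theorem inv_top_iff [Finite G] (hp2 : p ≠ 2) :
    Inv p (⊤ : Subgroup G) ↔ Involves (DihedralGroup p) G := by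
  constructor
  · rintro ⟨x, -, y, -, h1, ⟨k, h2⟩, h3⟩
    obtain ⟨m, j, hm, ho⟩ := H11.exists_pow_two_part x
    obtain ⟨l, -, hl⟩ := (Nat.dvd_prime_pow hp.out).1 (orderOf_dvd_of_pow_eq_one h2)
    exact H22I.dih_of_inv hp2 ho hl h1 (conj_odd h3 hm)
  · intro h
    obtain ⟨x, P, ⟨k, h1⟩, h2, h3, h4⟩ := H22I.norm_of_dih hp2 h
    obtain ⟨x, y, -, ⟨l, hl⟩, h5, h6⟩ := H22I.inv_of_norm h1 h2 h3 h4
    exact ⟨x, trivial, y, trivial, h5, ⟨l, by rw [← hl, pow_orderOf_eq_one]⟩, h6⟩

theorem inv_iff [Finite G] (hp2 : p ≠ 2) {H : Subgroup G} :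
    Inv p H ↔ Involves (DihedralGroup p) H :=
  ⟨fun h => (inv_top_iff hp2).1 h.top, fun h => ((inv_top_iff hp2).2 h).of_top⟩

theorem Inv.of_map [Finite G] [Finite G'] (hp2 : p ≠ 2) {H : Subgroup G} (f : G →* G')
    (h : Inv p (H.map f)) : Inv p H :=
  (inv_iff hp2).2 (involves_of_map f H ((inv_iff hp2).1 h))

omit hp in
theorem exists_invol [Finite G] {X : Subgroup G} (h : ¬ Odd (Nat.card X)) :
    ∃ t ∈ X, orderOf t = 2 := by
  haveI : Fact (Nat.Prime 2) := ⟨Nat.prime_two⟩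
  obtain ⟨t, ht⟩ := exists_prime_orderOf_dvd_card' (G := X) 2
    (even_iff_two_dvd.1 (Nat.not_odd_iff_even.1 h))
  exact ⟨t, t.2, by rwa [orderOf_coe]⟩

omit hp in
theorem ne_two_of_odd [Finite G] {X : Subgroup G} (h : Odd (Nat.card X)) {t : G} (ht : t ∈ X) :
    orderOf t ≠ 2 := fun e => by
  have := orderOf_dvd_natCard (⟨t, ht⟩ : X)
  rw [orderOf_mk, e] at this
  exact (Nat.not_even_iff_odd.2 h) (even_iff_two_dvd.2 this)

omit hp in
theorem sylow_two_comm_of_odd [Finite G] (h : Odd (Nat.card G)) (T : Sylow 2 G) :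
    IsMulCommutative T := by
  haveI : Fact (Nat.Prime 2) := ⟨Nat.prime_two⟩
  have : (T : Subgroup G) = ⊥ := (H3.sylowIn_top T).eq_bot_iff.2 (by
    rw [card_top]; exact fun h' => (Nat.not_even_iff_odd.2 h) (even_iff_two_dvd.2 h'))
  rw [isMulCommutative_iff', this]
  intro a ha b hb
  rw [mem_bot.1 ha, mem_bot.1 hb]

end basic

section quad

variable {p : ℕ} [hp : Fact p.Prime] {W : Type*} [AddCommGroup W] [Module (ZMod p) W] [Finite W]
  {H : Type*} [Group H] [Finite H]

/-- two quadratic elements of a faithful module generate a `p`-group or a group with a central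
involution -/
theorem exists_central (hp2 : p ≠ 2) (ρ : H →* Module.End (ZMod p) W) (hρ : ∀ g, ρ g = 1 → g = 1)
    {a b : H} (ha : Quad ρ a) (hb : Quad ρ b) (hn : ¬ IsPGroup p (closure {a, b} : Subgroup H)) :
    ∃ z ∈ closure ({a, b} : Set H), orderOf z = 2 ∧ z * a = a * z := by
  haveI : Fact (Nat.Prime 2) := ⟨Nat.prime_two⟩
  set K := closure ({a, b} : Set H) with hK
  have hodd : ¬ Odd (Nat.card K) := fun ho => by
    refine not_comm_sylow_two_of_quad_pair hp2 (ρ.comp K.subtype) (closure_pair_subtype a b) ha hb ?_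
      default (sylow_two_comm_of_odd ho _)
    by_contra hc
    push Not at hc
    exact hn fun g => by
      obtain ⟨k, hk⟩ := hc g
      exact ⟨k, Subtype.ext (hρ _ hk)⟩
  obtain ⟨z, hz, ho⟩ := exists_invol hodd
  refine ⟨z, hz, ho, ?_⟩
  have h2u : (2 : ZMod p) ≠ 0 := by
    intro h
    have : ((2 : ℕ) : ZMod p) = 0 := by exact_mod_cast h
    rw [ZMod.natCast_eq_zero_iff] at this
    exact hp2 ((Nat.prime_dvd_prime_iff_eq Fact.out Nat.prime_two).1 this)
  have hzz : z⁻¹ = z := by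
    rw [inv_eq_iff_mul_eq_one, ← sq, ← ho, pow_orderOf_eq_one]
  have := H23.PS.trace_comm (closure_pair_subtype a b) (ρ := ρ.comp K.subtype) (a := ρ a - 1)
    (b := ρ b - 1) (by simp) (by simp) ha hb ⟨z, hz⟩ ⟨a, subset_closure (by simp)⟩
  change Commute (ρ z + ρ z⁻¹) (ρ a) at this
  rw [hzz, ← two_smul (ZMod p)] at this
  have h5 := this.smul_left (2 : ZMod p)⁻¹
  rw [smul_smul, inv_mul_cancel₀ h2u, one_smul] at h5
  have : ρ (z * a * (a * z)⁻¹) = 1 := by
    rw [map_mul, map_mul, h5.eq, ← map_mul, ← map_mul, mul_inv_cancel, map_one]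
  exact mul_inv_eq_one.1 (hρ _ this)

/-- all proper overgroups of a Sylow `p`-subgroup lie in one subgroup of odd order -/
def PM (p : ℕ) (H : Type*) [Group H] : Prop :=
  ∃ (S : Sylow p H) (M : Subgroup H), Odd (Nat.card M) ∧ (S : Subgroup H) ≤ M ∧
    ∀ X : Subgroup H, (S : Subgroup H) ≤ X → X ≠ ⊤ → X ≤ M

theorem PM.of_surjective (h : PM p H) {H' : Type*} [Group H'] (f : H →* H')
    (hf : Function.Surjective f) : PM p H' := by
  obtain ⟨S, M, h1, h2, h3⟩ := h
  refine ⟨S.mapSurjective hf, M.map f, h1.of_dvd_nat (card_map_dvd _ _), map_mono h2,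
    fun X a b => ?_⟩
  rw [← map_comap_eq_self_of_surjective hf X]
  refine map_mono (h3 _ (map_le_iff_le_comap.1 a) fun e => b ?_)
  rw [← map_comap_eq_self_of_surjective hf X, e, map_top_of_surjective _ hf]

theorem mem_pCore_of_pm (hp2 : p ≠ 2) (h : PM p H) (ρ : H →* Module.End (ZMod p) W)
    (hρ : ∀ g, ρ g = 1 → g = 1) {a : H} (ha : Quad ρ a) : a ∈ pCore p H := by
  obtain ⟨S, M, h1, h2, h3⟩ := h
  have hap : ∀ {a}, Quad ρ a → IsPGroup p (zpowers a) := fun ha =>
    isPGroup_of_isEA (isEA_zpowers (hρ _ ha.pow_eq_one))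
  wlog haS : a ∈ (S : Subgroup H) generalizing a
  · obtain ⟨g, -, hg⟩ := (H3.sylowIn_top S).exists_conj_le (hap ha) le_top
    have := this (ha.conj g) (hg (H3.conj_mem_conj_smul.2 (mem_zpowers a)))
    exact (Normal.mem_comm_iff inferInstance).1 (by
      have h5 := Normal.conj_mem inferInstance _ this g⁻¹
      simpa [mul_assoc] using h5) |> fun (h6 : 1 * a ∈ pCore p H) => by simpa using h6
  by_contra hna
  have hcl : ∀ x : H, closure {a, x * a * x⁻¹} =
      zpowers a ⊔ (zpowers a).map (MulAut.conj x).toMonoidHom := fun x => by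
    rw [Set.insert_eq, Subgroup.closure_union, ← zpowers_eq_closure, ← zpowers_eq_closure,
      MonoidHom.map_zpowers]
    rfl
  by_cases hN : normalClosure ((S : Subgroup H) : Set H) ≤ M
  · obtain ⟨N, hn, hNp, hle⟩ := S0199.result _ (hap ha) fun x => by
      rw [← hcl]
      by_contra hc
      obtain ⟨z, hz, ho, -⟩ := exists_central hp2 ρ hρ ha (ha.conj x) hc
      refine ne_two_of_odd h1 (hN ((closure_le _).2 ?_ hz)) ho
      rintro _ (rfl | rfl)
      · exact subset_normalClosure haS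
      · exact Normal.conj_mem inferInstance _ (subset_normalClosure haS) x
    exact hna (H1.le_pCore hNp (hle (mem_zpowers a)))
  have hN' : normalClosure ((S : Subgroup H) : Set H) = ⊤ :=
    by_contra fun e => hN (h3 _ le_normalClosure e)
  have hM : IsCoatom M := ⟨fun e => hN (e ▸ le_top), fun X hX =>
    by_contra fun e => hX.not_ge (h3 X (h2.trans hX.le) e)⟩
  obtain ⟨L, l1, L₀, l2, l3, l4, ⟨g, l5⟩, l6⟩ := S2834.result S
    ⟨hN', M, ⟨hM, h2⟩, fun X hX => ((hX.1.le_iff.1 (h3 X hX.2 hX.1.1)).resolve_left hM.1).symm⟩ M ⟨hM, h2⟩ (zpowers a)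
    (zpowers_le.2 haS) fun e => hna (e (mem_zpowers a))
  obtain ⟨x, hx, hx'⟩ := SetLike.exists_of_lt l3
  have e := l6 x hx hx'
  rw [← hcl] at e
  have haL : a ∈ L := l1 (mem_sup_left (mem_zpowers a))
  have hOL := H24.le_normalizer_pCoreOf p L
  have hnp : ¬ IsPGroup p (closure {a, x * a * x⁻¹} : Subgroup H) := fun hc => by
    have : IsPGroup p L := e ▸ IsPGroup.to_sup_of_normal_right' hc (H24.isPGroup_pCoreOf p L)
      ((le_sup_left.trans e.le).trans hOL)
    exact l3.not_ge ((H24.pCoreOf_eq_self this).ge.trans (le_sup_right.trans l2))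
  obtain ⟨z, hz, ho, hc⟩ := exists_central hp2 ρ hρ ha (ha.conj x) hnp
  have hzL : z ∈ L := e.le (mem_sup_left hz)
  set A := zpowers a ⊔ pCoreOf p L with hA
  have hAL : A ≤ L := l2.trans l3.le
  have hAp : IsPGroup p A := IsPGroup.to_sup_of_normal_right' (hap ha) (H24.isPGroup_pCoreOf p L)
    ((zpowers_le.2 haL).trans hOL)
  have hzA : z ∈ normalizer (A : Set H) := by
    rw [← zpowers_le]
    refine le_normalizer_sup (le_normalizer_of_le_centralizer ?_) ((zpowers_le.2 hzL).trans hOL)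
    rw [zpowers_le, centralizer_zpowers, mem_centralizer_singleton_iff]
    exact hc
  by_cases hq : L ≤ normalizer (A : Set H)
  · have h4 : a ∈ pCoreOf p L := H24.le_pCoreOf hAL hAp hq (mem_sup_left (mem_zpowers a))
    refine l3.not_ge (e.ge.trans (sup_le ((closure_le _).2 ?_) (le_sup_right.trans l2)))
    rintro _ (rfl | rfl)
    · exact l2 (mem_sup_right h4)
    · exact l2 (mem_sup_right (conj_mem_of_mem_normalizer (hOL hx) h4))
  · have := l4 (L ⊓ normalizer (A : Set H)) (le_inf hAL le_normalizer) (inf_lt_left.2 hq) ⟨hzL, hzA⟩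
    rw [l5] at this
    exact ne_two_of_odd (by rwa [card_map_conj]) this.2 ho

theorem mem_opMod_of_pm (hp2 : p ≠ 2) (h : PM p H) (ρ : H →* Module.End (ZMod p) W) {a : H}
    (ha : Quad ρ a) : a ∈ opMod p ρ.ker := by
  let ρ' : H ⧸ ρ.ker →* Module.End (ZMod p) W := QuotientGroup.lift ρ.ker ρ le_rfl
  refine mem_opMod.2 (mem_pCore_of_pm hp2 (h.of_surjective _ (QuotientGroup.mk'_surjective _)) ρ'
    (fun g hg => ?_) ha)
  obtain ⟨g, rfl⟩ := QuotientGroup.mk_surjective g
  exact (QuotientGroup.eq_one_iff _).2 hg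

theorem isPStableOn_of_pm (hp2 : p ≠ 2) (h : PM p H) (P : Subgroup H) [P.Normal]
    (hP : IsPGroup p P) : IsPStableOn p P :=
  isPStableOn_of_eaStable (fun N _ _ _ hV => isPStableOn_of_rep hV fun _ ha =>
    mem_opMod_of_pm hp2 (h.of_surjective _ (QuotientGroup.mk'_surjective N)) _ ha) P hP

end quad

variable {p : ℕ} [hp : Fact p.Prime]

theorem zj_subgroupOf {G : Type*} [Group G] (n : ℕ) {S M : Subgroup G} (h : S ≤ M) :
    centerThompsonOf n (S.subgroupOf M) = (centerThompsonOf n S).subgroupOf M := by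
  apply map_injective M.subtype_injective
  rw [map_centerThompsonOf M.subtype_injective, map_subgroupOf_eq_of_le h,
    map_subgroupOf_eq_of_le ((centerThompsonOf_le _ _).trans h)]

theorem normalizer_le_zj {G : Type*} [Group G] (n : ℕ) (S : Subgroup G) :
    normalizer (S : Set G) ≤ normalizer (centerThompsonOf n S : Set G) :=
  (normalizer_le_normalizer_thompsonOf n S).trans (normalizer_thompsonOf_le_normalizer_center n S)

theorem inv_zj (hp2 : p ≠ 2) {n : ℕ} (hn : p ∣ n) (G : Type u) [Group G] [Finite G] (S : Sylow p G)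
    (h : Inv p (⊤ : Subgroup G)) :
    Inv p (normalizer (centerThompsonOf n (S : Subgroup G) : Set G)) := by
  induction hc : Nat.card G using Nat.strong_induction_on generalizing G with
  | _ c IH =>
  subst hc
  have ih : ∀ (G' : Type u) [Group G'] [Finite G'] (S' : Sylow p G'), Nat.card G' < Nat.card G →
      Inv p (⊤ : Subgroup G') → Inv p (normalizer (centerThompsonOf n (S' : Subgroup G') : Set G')) :=
    fun G' _ _ S' hlt h' => IH _ hlt G' S' h' rfl
  have ih' : ∀ M T : Subgroup G, H3.SylowIn p T M → M ≠ ⊤ → Inv p M →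
      Inv p (normalizer (centerThompsonOf n T : Set G)) := fun M T hT h2 h3 => by
    have := ih M hT.toSylow (H1.card_lt_of_ne_top h2) h3.top
    rw [hT.coe_toSylow, zj_subgroupOf n hT.le,
      normalizer_subgroupOf ((centerThompsonOf_le _ _).trans hT.le)] at this
    exact this.of_subgroupOf
  by_contra hG
  have hA : ∀ M : Subgroup G, (S : Subgroup G) ≤ M → M ≠ ⊤ → ¬ Inv p M :=
    fun M h1 h2 h3 => hG (ih' M S (H3.sylowIn_of_le S h1) h2 h3)
  have hB : pPrimeCore p G = ⊥ := by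
    by_contra hB
    have hs := QuotientGroup.mk'_surjective (pPrimeCore p G)
    have h1 : Inv p (⊤ : Subgroup (G ⧸ pPrimeCore p G)) := by
      obtain ⟨x, -, y, -, h1, ⟨k, h2⟩, h3⟩ := h
      refine ⟨x, trivial, y, trivial, fun e => h1 ?_, ⟨k, by rw [← QuotientGroup.mk_pow, h2]; rfl⟩,
        congrArg (QuotientGroup.mk' (pPrimeCore p G)) h3⟩
      exact (H1.inf_pPrimeCore_eq_bot (H24.isPGroup_zpowers h2)).le
        ⟨mem_zpowers y, (QuotientGroup.eq_one_iff _).1 e⟩
    have h2 := ih _ (S.mapSurjective hs) (H1.card_quotient_lt hB) h1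
    rw [Sylow.coe_mapSurjective, ← map_centerThompsonOf_of_disjoint (inf_ker_mk'_pPrimeCore S.isPGroup'),
      normalizer_map_mk'_of_coprime (S.isPGroup'.to_le (centerThompsonOf_le _ _))
        (H1.coprime_card_pPrimeCore p G)] at h2
    exact hG (h2.of_map hp2 _)
  have hC : pCore p G ≠ ⊥ := by
    intro hC
    have hNtop : ∀ U : Subgroup G, IsPGroup p U → U ≠ ⊥ → normalizer (U : Set G) ≠ ⊤ := by
      intro U h1 h2 h3
      have := normalizer_eq_top_iff.mp h3
      exact h2 (by rw [eq_bot_iff, ← hC]; exact H1.le_pCore h1)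
    obtain ⟨x, -, y, -, y1, ⟨k, y2⟩, y3⟩ := h
    have hbad : Inv p (normalizer (zpowers y : Set G)) := ⟨x, mem_normalizer_of_forall (by
      rintro _ ⟨i, rfl⟩
      show x * y ^ i * x⁻¹ ∈ zpowers y
      rw [← conj_zpow, y3]; exact zpow_mem (inv_mem (mem_zpowers y)) i), y,
      le_normalizer (mem_zpowers y), y1, ⟨k, y2⟩, y3⟩
    obtain ⟨T₀, hT₀⟩ := H3.exists_sylowIn p (normalizer (zpowers y : Set G))
    obtain ⟨⟨U, T⟩, ⟨h1, h2, h3, h4⟩, hmax⟩ := Set.Finite.exists_maximalFor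
      (fun x : Subgroup G × Subgroup G => Nat.card x.2)
      {x | IsPGroup p x.1 ∧ x.1 ≠ ⊥ ∧ H3.SylowIn p x.2 (normalizer (x.1 : Set G)) ∧
        Inv p (normalizer (x.1 : Set G))} (Set.toFinite _)
      ⟨(zpowers y, T₀), H24.isPGroup_zpowers y2, zpowers_ne_bot.2 y1, hT₀, hbad⟩
    obtain ⟨g, -, hg⟩ := (H3.sylowIn_top S).exists_conj_le h3.isPGroup le_top
    have k1 := H3.isPGroup_conj_smul h1 g
    have k2 : MulAut.conj g • U ≠ ⊥ := by
      rw [Ne, ← card_eq_one, H3.card_conj_smul, card_eq_one]; exact h2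
    have k3 := h3.conj g
    have k4 : Inv p (MulAut.conj g • normalizer (U : Set G)) := h4.map (MulAut.conj g).injective
    rw [← H3.normalizer_conj_smul] at k3 k4
    have hcard := H3.card_conj_smul T g
    generalize MulAut.conj g • U = U' at *
    generalize MulAut.conj g • T = T' at *
    rcases hg.eq_or_lt with rfl | hlt
    · exact hA _ k3.le (hNtop _ k1 k2) k4
    · have hY := ih' _ _ k3 (hNtop _ k1 k2) k4
      have h0 : T' ≠ ⊥ := fun h0 => k2 (by
        rw [eq_bot_iff, ← h0]; exact k3.le_of_le_normalizer k1 le_normalizer le_rfl)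
      obtain ⟨T'', t1, t2⟩ := H3.exists_sylowIn_le (S.isPGroup'.to_le
        (inf_le_left : (S : Subgroup G) ⊓ normalizer (T' : Set G) ≤ S))
        (inf_le_right.trans (normalizer_le_zj n T'))
      have := card_lt_of_lt ((H3.lt_inf_normalizer_of_lt S.isPGroup' hlt).trans_le t2)
      rw [hcard] at this
      exact absurd (hmax (j := (_, T'')) ⟨k3.isPGroup.to_le (centerThompsonOf_le _ _),
        centerThompsonOf_ne_bot hn k3.isPGroup h0, t1, hY⟩ this.le) (not_le.mpr this)
  have hD : ¬ Inv p (⊤ : Subgroup (G ⧸ pCore p G)) := fun h1 => by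
    have hs := QuotientGroup.mk'_surjective (pCore p G)
    have h2 := ih _ (S.mapSurjective hs) (H1.card_quotient_lt hC) h1
    rw [← map_comap_eq_self_of_surjective hs (normalizer _)] at h2
    refine hA _ (map_le_iff_le_comap.mp (le_normalizer.trans (normalizer_le_zj n _))) (fun h3 => ?_)
      (h2.of_map hp2 _)
    have : (centerThompsonOf n (S.mapSurjective hs : Subgroup (G ⧸ pCore p G))).Normal := by
      rw [← normalizer_eq_top_iff, ← map_comap_eq_self_of_surjective hs (normalizer _)]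
      exact (congrArg _ h3).trans (map_top_of_surjective _ hs)
    have h4 : (S.mapSurjective hs : Subgroup (G ⧸ pCore p G)) = ⊥ := by
      by_contra h0
      refine centerThompsonOf_ne_bot hn (S.mapSurjective hs).isPGroup' h0 ?_
      rw [eq_bot_iff, ← H1.pCore_quotient_pCore p]
      exact H1.le_pCore ((S.mapSurjective hs).isPGroup'.to_le (centerThompsonOf_le _ _))
    obtain ⟨x, -, y, -, y1, ⟨k, y2⟩, -⟩ := h1
    obtain ⟨g, -, hg⟩ := (H3.sylowIn_top (S.mapSurjective hs)).exists_conj_le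
      (H24.isPGroup_zpowers y2) le_top
    have := hg (H3.conj_mem_conj_smul.2 (mem_zpowers y))
    rw [h4, mem_bot] at this
    exact y1 (by simpa using this)
  have hQS := H1.pCore_le_sylow S
  have h' := h
  obtain ⟨x, -, y, -, y1, ⟨k, y2⟩, y3⟩ := h'
  have hyQ : y ∈ pCore p G := by
    by_contra hy
    exact hD ⟨x, trivial, y, trivial, fun e => hy ((QuotientGroup.eq_one_iff _).1 e),
      ⟨k, by rw [← QuotientGroup.mk_pow, y2]; rfl⟩, congrArg (QuotientGroup.mk' (pCore p G)) y3⟩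
  have hF : CharPGrp p G := by
    set C := centralizer (pCore p G : Set G) with hCd
    have hT := H3.sylowIn_inf_normal S C
    have h1 : normalizer (((S : Subgroup G) ⊓ C : Subgroup G) : Set G) = ⊤ := by
      by_contra h1
      have h2 : (S : Subgroup G) ≤ normalizer (((S : Subgroup G) ⊓ C : Subgroup G) : Set G) :=
        le_normalizer_inf le_normalizer (by rw [normalizer_eq_top]; exact le_top)
      obtain ⟨c, hc, m, hm, e⟩ := hT.frattini (g := x) (by rw [normalizer_eq_top]; trivial)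
      refine hA _ h2 h1 ⟨m, hm, y, h2 (hQS hyQ), y1, ⟨k, y2⟩, ?_⟩
      have h3 := hc _ (inv_mem hyQ)
      calc m * y * m⁻¹ = c⁻¹ * (x * y * x⁻¹) * c := by rw [e]; group
        _ = y⁻¹ := by rw [y3, mul_assoc, h3]; group
    have := normalizer_eq_top_iff.1 h1
    have h2 : (S : Subgroup G) ⊓ C ≤ pCore p G := H1.le_pCore hT.isPGroup
    obtain ⟨K, -, k2, k3, -, k5, -⟩ := hT.exists_complement (H3.hasNormalPComplement_centralizer S hQS
      (by rw [normalizer_eq_top]; exact le_top) h2)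
    have : K.Normal := normalizer_eq_top_iff.1 (top_le_iff.1 (by rwa [normalizer_eq_top] at k3))
    have k6 : K ≤ ⊥ := hB ▸ H1.le_pPrimeCore k2
    exact k5.ge.trans (sup_le (k6.trans bot_le) h2)
  have hodd : ∀ X : Subgroup G, (S : Subgroup G) ≤ X → X ≠ ⊤ → Odd (Nat.card X) := fun X h1 h2 => by
    by_contra h3
    obtain ⟨t, ht, ho⟩ := exists_invol h3
    have ht2 : t * t = 1 := by rw [← sq, ← ho, pow_orderOf_eq_one]
    have h4 : t ∉ centralizer (pCore p G : Set G) := fun hc => by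
      obtain ⟨j, hj⟩ := IsPGroup.iff_orderOf.1 (H1.isPGroup_pCore p G) ⟨t, hF hc⟩
      rw [orderOf_mk, ho] at hj
      exact hp2 ((Nat.prime_dvd_prime_iff_eq Nat.prime_two hp.out).1
        (Nat.prime_two.dvd_of_dvd_pow (n := j) hj.dvd)).symm
    obtain ⟨u, hu, h5⟩ : ∃ u ∈ pCore p G, u * t ≠ t * u := by
      by_contra! h0; exact h4 h0
    have hm : u⁻¹ * (t * u * t⁻¹) ∈ pCore p G :=
      mul_mem (inv_mem hu) (Normal.conj_mem inferInstance _ hu t)
    obtain ⟨j, hj⟩ := H1.isPGroup_pCore p G ⟨_, hm⟩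
    refine hA X h1 h2 ⟨t, ht, _, h1 (hQS hm), fun e => h5 ?_, ⟨j, congrArg Subtype.val hj⟩, ?_⟩
    · rw [inv_mul_eq_one] at e
      calc u * t = t * u * t⁻¹ * t := by rw [← e]
        _ = _ := by group
    · calc t * (u⁻¹ * (t * u * t⁻¹)) * t⁻¹ = t * u⁻¹ * t⁻¹ * (t * t * u) * (t * t)⁻¹ := by group
        _ = _ := by rw [ht2]; group
  have hM : normalizer (centerThompsonOf n (S : Subgroup G) : Set G) ≠ ⊤ := fun e => hG (e ▸ h)
  have hSM : (S : Subgroup G) ≤ normalizer (centerThompsonOf n (S : Subgroup G) : Set G) :=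
    le_normalizer.trans (normalizer_le_zj n _)
  refine hM (normalizer_eq_top_iff.2 (centerThompsonOf_normal hp2 hn hF
    (isPStableOn_of_pm hp2 ⟨S, _, hodd _ hSM hM, hSM, fun X h1 h2 => ?_⟩) S))
  have := centerThompsonOf_normal hp2 hn (hF.of_pCore_le (hQS.trans h1))
    (isPStableOn_of_sylow_two_comm hp2 (sylow_two_comm_of_odd (hodd X h1 h2))) (S.subtype h1)
  rw [Sylow.coe_subtype, zj_subgroupOf n h1] at this
  exact (normal_subgroupOf_iff_le_normalizer ((centerThompsonOf_le _ _).trans h1)).1 this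

/-- Glauberman: `D_{2p}` is involved in `N_G(Z(J(S)))` when it is involved in `G`. -/
theorem involves_zj (hp2 : p ≠ 2) {G : Type*} [Group G] [Finite G] (S : Sylow p G)
    (h : Involves (DihedralGroup p) G) :
    Involves (DihedralGroup p) (normalizer (centerThompsonAOf (S : Subgroup G) : Set G)) := by
  rw [centerThompsonAOf_eq, ← inv_iff hp2]
  exact inv_zj hp2 (dvd_zero p) G S ((inv_top_iff hp2).2 h)

/-- element form: a nonidentity element of `S` is inverted in `N_G(Z(J(S)))` -/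
theorem exists_inv (hp2 : p ≠ 2) {G : Type*} [Group G] [Finite G] (S : Sylow p G)
    (h : Inv p (⊤ : Subgroup G)) : ∃ y ∈ (S : Subgroup G), y ≠ 1 ∧
      ∃ g ∈ normalizer (centerThompsonAOf (S : Subgroup G) : Set G), g * y * g⁻¹ = y⁻¹ := by
  rw [centerThompsonAOf_eq]
  obtain ⟨x, hx, y, hy, y1, ⟨k, y2⟩, y3⟩ := inv_zj hp2 (dvd_zero p) G S h
  obtain ⟨g, hg, h1⟩ := (H3.sylowIn_of_le S (le_normalizer.trans (normalizer_le_zj 0 _))).exists_conj_le
    (H24.isPGroup_zpowers y2) (zpowers_le.2 hy)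
  refine ⟨g * y * g⁻¹, h1 (H3.conj_mem_conj_smul.2 (mem_zpowers y)), by simpa using y1, g * x * g⁻¹,
    mul_mem (mul_mem hg hx) (inv_mem hg), ?_⟩
  calc _ = g * (x * y * x⁻¹) * g⁻¹ := by group
    _ = _ := by rw [y3]; group

end Cfsg.Agent.H15.ZJD
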