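import Cfsg.Agent.H15.ZJD
import Cfsg.Agent.S0200

/-! `2`-closed groups are the groups without dihedral sections of twice odd prime order. -/

set_option autoImplicit false
set_option linter.style.haveILetI false

namespace Cfsg.Agent.H15.ZJD

open Subgroup Cfsg.Agent.H9

variable {G : Type*} [Group G] [Finite G]

theorem two_closed_iff : (∀ P : Sylow 2 G, (P : Subgroup G).Normal) ↔
    ∀ (q : ℕ) [Fact q.Prime], q ≠ 2 → ¬ Inv q (⊤ : Subgroup G) := by
  haveI : Fact (Nat.Prime 2) := ⟨Nat.prime_two⟩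
  constructor
  · rintro h q hq hq2 ⟨x, -, y, -, y1, ⟨k, y2⟩, y3⟩
    obtain ⟨m, j, hm, ho⟩ := H11.exists_pow_two_part x
    have y4 := conj_odd y3 hm
    obtain ⟨P, hP⟩ := (H24.isPGroup_zpowers (p := 2) (by rw [← ho, pow_orderOf_eq_one])).exists_le_sylow
    have hx : x ^ m ∈ (P : Subgroup G) := hP (mem_zpowers _)
    have h1 : (y * y)⁻¹ ∈ (P : Subgroup G) := by
      have := mul_mem hx ((h P).conj_mem _ (inv_mem hx) y)
      rwa [show x ^ m * (y * (x ^ m)⁻¹ * y⁻¹) = x ^ m * y * (x ^ m)⁻¹ * y⁻¹ by group, y4,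
        ← mul_inv_rev] at this
    obtain ⟨i, hi⟩ := P.isPGroup' ⟨_, inv_mem_iff.1 h1⟩
    have h2 : y ^ 2 ^ (i + 1) = 1 := by
      rw [pow_succ', pow_mul, sq]; exact congrArg Subtype.val hi
    exact y1 (orderOf_eq_one_iff.1 (Nat.eq_one_of_dvd_coprimes
      (Nat.Coprime.pow _ _ ((Nat.coprime_primes hq.out Nat.prime_two).2 hq2))
      (orderOf_dvd_of_pow_eq_one y2) (orderOf_dvd_of_pow_eq_one h2)))
  · intro h P
    have hs := QuotientGroup.mk'_surjective (pCore 2 G)
    have hodd : Odd (Nat.card (⊤ : Subgroup (G ⧸ pCore 2 G))) := by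
      by_contra ho
      obtain ⟨t, -, ht⟩ := exists_invol ho
      obtain ⟨y, y1, y2, y3⟩ := S0200.result t ht (by
        intro N hN h1 h2
        have := H1.le_pCore h1 h2
        rw [H1.pCore_quotient_pCore, mem_bot] at this
        rw [this, orderOf_one] at ht
        exact absurd ht (by decide))
      obtain ⟨q, hq, hd⟩ := Nat.exists_prime_and_dvd (mt orderOf_eq_one_iff.1 y1)
      haveI : Fact q.Prime := ⟨hq⟩
      have hq2 : q ≠ 2 := by
        rintro rfl
        exact (Nat.not_even_iff_odd.2 y2) (even_iff_two_dvd.2 hd)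
      have h1 := orderOf_pow_orderOf_div (orderOf_pos y).ne' hd
      refine h q hq2 (Inv.of_map hq2 (QuotientGroup.mk' (pCore 2 G)) ?_)
      rw [map_top_of_surjective _ hs]
      refine ⟨t, trivial, y ^ (orderOf y / q), trivial, fun e => hq.one_lt.ne ?_,
        ⟨1, by rw [pow_one]; exact orderOf_dvd_iff_pow_eq_one.1 h1.dvd⟩, by rw [← conj_pow, y3, inv_pow]⟩
      rw [← h1, e, orderOf_one]
    have h1 : (P.mapSurjective hs : Subgroup (G ⧸ pCore 2 G)) = ⊥ := (H3.sylowIn_top _).eq_bot_iff.2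
      fun h' => (Nat.not_even_iff_odd.2 hodd) (even_iff_two_dvd.2 h')
    rw [Sylow.coe_mapSurjective, Subgroup.map_eq_bot_iff, QuotientGroup.ker_mk'] at h1
    rw [le_antisymm h1 (H1.pCore_le_sylow P)]
    infer_instance

end Cfsg.Agent.H15.ZJD
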